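import Mathlib

/-!
# A Cauchy-Schwarz inequality for pairs of permutations with constant agreement

`G` acts on `Ω`; `R` is an orbital. `a b : Ω → Ω` are maps such that every pair `(a, g b g⁻¹)` is
conjugate in `G` to `(a, b)`. Then `κ |R| = R_a R_b`, where `R_a = #{x : R x (a x)}` and `κ` is the
number of `x` with `R x (a x)` and `a x = b x`. For a rank three group only one of the two
nontrivial orbitals can be used by both `a` and `b`.
-/

set_option autoImplicit false

namespace Cfsg.Agent.H105.SzCS

open Finset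

variable {G Ω : Type*} [Group G] [Fintype G] [Fintype Ω] [MulAction G Ω]

/-- Every pair `(a, g b g⁻¹)` is conjugate to `(a, b)`. -/
def Const (G : Type*) {Ω : Type*} [Group G] [MulAction G Ω] (a b : Ω → Ω) : Prop :=
  ∀ g : G, ∃ x : G, (∀ p, x • a p = a (x • p)) ∧ ∀ p, g • b (g⁻¹ • p) = x • b (x⁻¹ • p)

variable {R : Ω → Ω → Prop}

open Classical in
theorem const_card (hinv : ∀ (g : G) x y, R x y → R (g • x) (g • y)) {a b : Ω → Ω}
    (h : Const G a b) (g : G) :
    (univ.filter fun p : Ω => R p (a p) ∧ a p = g • b (g⁻¹ • p)).card =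
      (univ.filter fun p : Ω => R p (a p) ∧ a p = b p).card := by
  obtain ⟨x, hx1, hx2⟩ := h g
  have hx1' : ∀ p, x⁻¹ • a p = a (x⁻¹ • p) := by
    intro p
    rw [inv_smul_eq_iff, hx1, smul_inv_smul]
  symm
  refine card_bij (fun p _ => x • p) ?_ ?_ ?_
  · intro p hp
    rw [mem_filter] at hp ⊢
    refine ⟨mem_univ _, ?_, ?_⟩
    · rw [← hx1]; exact hinv _ _ _ hp.2.1
    · rw [hx2, inv_smul_smul, ← hx1, hp.2.2]
  · intro p _ p' _ hpp
    exact MulAction.injective x hpp
  · intro p hp
    rw [mem_filter] at hp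
    refine ⟨x⁻¹ • p, ?_, by simp⟩
    rw [mem_filter]
    refine ⟨mem_univ _, ?_, ?_⟩
    · rw [← hx1']; exact hinv _ _ _ hp.2.1
    · rw [← hx1', inv_smul_eq_iff, hp.2.2, hx2]

open Classical in
/-- the number of `g` mapping `(x, y)` to `(x', y')` -/
noncomputable def tr (G : Type*) {Ω : Type*} [Group G] [Fintype G] [MulAction G Ω] (x y x' y' : Ω) : ℕ :=
  (univ.filter fun g : G => g • x = x' ∧ g • y = y').card

theorem tr_left (x y x' y' : Ω) (h : G) : tr G (h • x) (h • y) x' y' = tr G x y x' y' := by
  classical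
  unfold tr
  refine card_bij (fun g _ => g * h) ?_ ?_ ?_
  · intro g hg
    rw [mem_filter] at hg ⊢
    refine ⟨mem_univ _, ?_⟩
    simpa [mul_smul] using hg.2
  · intro g _ g' _ hgg
    exact mul_right_cancel hgg
  · intro g hg
    rw [mem_filter] at hg
    refine ⟨g * h⁻¹, ?_, by simp⟩
    rw [mem_filter]
    refine ⟨mem_univ _, ?_⟩
    simpa [mul_smul] using hg.2

theorem tr_right (x y x' y' : Ω) (h : G) : tr G x y (h • x') (h • y') = tr G x y x' y' := by
  classical
  unfold tr
  refine card_bij (fun g _ => h⁻¹ * g) ?_ ?_ ?_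
  · intro g hg
    rw [mem_filter] at hg ⊢
    refine ⟨mem_univ _, ?_⟩
    rw [mul_smul, mul_smul, hg.2.1, hg.2.2]
    simp
  · intro g _ g' _ hgg
    exact mul_left_cancel hgg
  · intro g hg
    rw [mem_filter] at hg
    refine ⟨h * g, ?_, by simp⟩
    rw [mem_filter]
    refine ⟨mem_univ _, ?_⟩
    rw [mul_smul, mul_smul, hg.2.1, hg.2.2]
    simp

section

variable (hinv : ∀ (g : G) x y, R x y → R (g • x) (g • y))
  (htr : ∀ x y x' y', R x y → R x' y' → ∃ g : G, g • x = x' ∧ g • y = y')

include htr

theorem tr_const {x y x' y' u v u' v' : Ω} (h1 : R x y) (h2 : R x' y') (h3 : R u v) (h4 : R u' v') :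
    tr G x y x' y' = tr G u v u' v' := by
  obtain ⟨g, hg1, hg2⟩ := htr x y u v h1 h3
  obtain ⟨k, hk1, hk2⟩ := htr x' y' u' v' h2 h4
  rw [← hg1, ← hg2, ← hk1, ← hk2, tr_left, tr_right]

include hinv

open Classical in
theorem tr_sum {x y : Ω} (h1 : R x y) :
    (univ.filter fun p : Ω × Ω => R p.1 p.2).card * tr G x y x y = Fintype.card G := by
  have h2 : ∀ p ∈ (univ.filter fun p : Ω × Ω => R p.1 p.2), tr G x y p.1 p.2 = tr G x y x y := by
    intro p hp
    rw [mem_filter] at hp
    exact tr_const htr h1 hp.2 h1 h1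
  rw [← smul_eq_mul, ← sum_const, ← sum_congr rfl h2]
  unfold tr
  rw [← card_univ, card_eq_sum_card_fiberwise (f := fun g : G => (g • x, g • y))
    (t := univ.filter fun p : Ω × Ω => R p.1 p.2)]
  · refine sum_congr rfl fun p _ => ?_
    congr 1
    ext g
    simp only [mem_filter, mem_univ, true_and, Prod.ext_iff]
  · intro g _
    simp only [coe_filter, mem_univ, true_and, Set.mem_setOf_eq]
    exact hinv _ _ _ h1

open Classical in
/-- **The count.** -/
theorem count {a b : Ω → Ω} (h : Const G a b) :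
    (univ.filter fun p : Ω => R p (a p) ∧ a p = b p).card *
      (univ.filter fun p : Ω × Ω => R p.1 p.2).card =
    (univ.filter fun p : Ω => R p (a p)).card * (univ.filter fun p : Ω => R p (b p)).card := by
  set K := (univ.filter fun p : Ω => R p (a p) ∧ a p = b p).card with hK
  have e1 : ∑ g : G, (univ.filter fun p : Ω => R p (a p) ∧ a p = g • b (g⁻¹ • p)).card =
      Fintype.card G * K := by
    rw [sum_congr rfl fun g _ => const_card hinv h g, sum_const, card_univ, smul_eq_mul]
  have e2 : ∑ g : G, (univ.filter fun p : Ω => R p (a p) ∧ a p = g • b (g⁻¹ • p)).card =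
      ∑ p ∈ univ.filter (fun p : Ω => R p (a p)), ∑ w ∈ univ.filter (fun w : Ω => R w (b w)),
        tr G w (b w) p (a p) := by
    have : ∀ g : G, (univ.filter fun p : Ω => R p (a p) ∧ a p = g • b (g⁻¹ • p)).card =
        ∑ p ∈ univ.filter (fun p : Ω => R p (a p)), ∑ w ∈ univ.filter (fun w : Ω => R w (b w)),
          if g • w = p ∧ g • (b w) = a p then 1 else 0 := by
      intro g
      rw [← filter_filter, card_filter]
      refine sum_congr rfl fun p hp => ?_
      rw [mem_filter] at hp
      by_cases hc : a p = g • b (g⁻¹ • p)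
      · rw [if_pos hc]
        rw [sum_eq_single (g⁻¹ • p)]
        · rw [if_pos]
          exact ⟨by simp, hc.symm⟩
        · intro w _ hw
          rw [if_neg]
          rintro ⟨h3, -⟩
          apply hw
          rw [← h3]; simp
        · intro h4
          exfalso
          apply h4
          rw [mem_filter]
          refine ⟨mem_univ _, ?_⟩
          have h5 := hinv g⁻¹ _ _ hp.2
          rw [hc] at h5
          simpa using h5
      · rw [if_neg hc]
        symm
        refine sum_eq_zero fun w _ => ?_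
        rw [if_neg]
        rintro ⟨h3, h4⟩
        apply hc
        rw [← h4, ← h3]; simp
    rw [sum_congr rfl fun g _ => this g, sum_comm]
    refine sum_congr rfl fun p _ => ?_
    rw [sum_comm]
    refine sum_congr rfl fun w _ => ?_
    unfold tr
    rw [card_filter]
  by_cases hne : ∃ x y, R x y
  · obtain ⟨x, y, hxy⟩ := hne
    have hs := tr_sum hinv htr hxy
    have hG : 0 < Fintype.card G := Fintype.card_pos
    apply Nat.eq_of_mul_eq_mul_left hG
    calc Fintype.card G * (K * (univ.filter fun p : Ω × Ω => R p.1 p.2).card)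
        = (Fintype.card G * K) * (univ.filter fun p : Ω × Ω => R p.1 p.2).card := by ring
      _ = ((univ.filter fun p : Ω => R p (a p)).card *
            ((univ.filter fun p : Ω => R p (b p)).card * tr G x y x y)) *
            (univ.filter fun p : Ω × Ω => R p.1 p.2).card := by
          rw [← e1, e2]
          congr 1
          rw [← smul_eq_mul, ← smul_eq_mul, ← sum_const, ← sum_const]
          refine sum_congr rfl fun p hp => sum_congr rfl fun w hw => ?_
          rw [mem_filter] at hp hw
          exact tr_const htr hw.2 hp.2 hxy hxy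
      _ = _ := by rw [← hs]; ring
  · have h1 : (univ.filter fun p : Ω => R p (a p)) = ∅ := by
      rw [filter_eq_empty_iff]
      exact fun p _ hp => hne ⟨_, _, hp⟩
    have h2 : (univ.filter fun p : Ω × Ω => R p.1 p.2) = ∅ := by
      rw [filter_eq_empty_iff]
      exact fun p _ hp => hne ⟨_, _, hp⟩
    rw [h1, h2]
    simp

open Classical in
theorem le_of_both {a b : Ω → Ω} (h : Const G a b) (ha : ∃ p, R p (a p)) (hb : ∃ p, R p (b p)) :
    (univ.filter fun p : Ω × Ω => R p.1 p.2).card ≤
    (univ.filter fun p : Ω => R p (a p)).card * (univ.filter fun p : Ω => R p (b p)).card := by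
  rw [← count hinv htr h]
  refine Nat.le_mul_of_pos_left _ ?_
  by_contra h0
  have h1 : (univ.filter fun p : Ω => R p (a p) ∧ a p = b p).card = 0 := by omega
  have h2 := count hinv htr h
  rw [h1, zero_mul] at h2
  obtain ⟨p, hp⟩ := ha
  obtain ⟨w, hw⟩ := hb
  have h3 : 0 < (univ.filter fun p : Ω => R p (a p)).card :=
    card_pos.mpr ⟨p, mem_filter.mpr ⟨mem_univ _, hp⟩⟩
  have h4 : 0 < (univ.filter fun p : Ω => R p (b p)).card :=
    card_pos.mpr ⟨w, mem_filter.mpr ⟨mem_univ _, hw⟩⟩
  have := Nat.mul_pos h3 h4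
  omega

end

/-- **Cauchy-Schwarz.** In a rank three action two maps with constant agreement cannot use both
orbitals. -/
theorem not_both {R R' : Ω → Ω → Prop}
    (hinv : ∀ (g : G) x y, R x y → R (g • x) (g • y))
    (hinv' : ∀ (g : G) x y, R' x y → R' (g • x) (g • y))
    (htr : ∀ x y x' y', R x y → R x' y' → ∃ g : G, g • x = x' ∧ g • y = y')
    (htr' : ∀ x y x' y', R' x y → R' x' y' → ∃ g : G, g • x = x' ∧ g • y = y')
    (hex : ∀ x y : Ω, x = y ∨ R x y ∨ R' x y) (hdis : ∀ x y, R x y → ¬ R' x y)
    (hn : ∀ x, ∃ y, R x y) (hn' : ∀ x, ∃ y, R' x y)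
    {a b : Ω → Ω} (h : Const G a b)
    (ha : ∃ p, R p (a p)) (hb : ∃ p, R p (b p)) (ha' : ∃ p, R' p (a p)) (hb' : ∃ p, R' p (b p)) :
    False := by
  classical
  have h1 := le_of_both hinv htr h ha hb
  have h2 := le_of_both hinv' htr' h ha' hb'
  set N := Fintype.card Ω with hN
  have hsum : ∀ c : Ω → Ω, (univ.filter fun p : Ω => R p (c p)).card +
      (univ.filter fun p : Ω => R' p (c p)).card ≤ N := by
    intro c
    rw [← card_union_of_disjoint]
    · exact card_le_univ _
    · rw [disjoint_filter]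
      exact fun p _ hp => hdis _ _ hp
  have hsa := hsum a
  have hsb := hsum b
  have hR : N ≤ (univ.filter fun p : Ω × Ω => R p.1 p.2).card := by
    choose f hf using hn
    rw [hN, ← card_univ]
    refine card_le_card_of_injOn (fun x => (x, f x)) ?_ ?_
    · intro x _
      simp only [coe_filter, mem_univ, true_and, Set.mem_setOf_eq]
      exact hf x
    · intro x _ y _ hxy
      exact (Prod.ext_iff.mp hxy).1
  have hR' : N ≤ (univ.filter fun p : Ω × Ω => R' p.1 p.2).card := by
    choose f hf using hn'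
    rw [hN, ← card_univ]
    refine card_le_card_of_injOn (fun x => (x, f x)) ?_ ?_
    · intro x _
      simp only [coe_filter, mem_univ, true_and, Set.mem_setOf_eq]
      exact hf x
    · intro x _ y _ hxy
      exact (Prod.ext_iff.mp hxy).1
  have hall : N * N ≤ N + (univ.filter fun p : Ω × Ω => R p.1 p.2).card +
      (univ.filter fun p : Ω × Ω => R' p.1 p.2).card := by
    have h3 : (univ : Finset (Ω × Ω)) ⊆ (univ.image fun x : Ω => (x, x)) ∪
        (univ.filter fun p : Ω × Ω => R p.1 p.2) ∪ (univ.filter fun p : Ω × Ω => R' p.1 p.2) := by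
      rintro ⟨x, y⟩ -
      rw [mem_union, mem_union, mem_filter, mem_filter, mem_image]
      rcases hex x y with h | h | h
      · exact Or.inl (Or.inl ⟨x, mem_univ _, by rw [h]⟩)
      · exact Or.inl (Or.inr ⟨mem_univ _, h⟩)
      · exact Or.inr ⟨mem_univ _, h⟩
    have h4 := card_le_card h3
    rw [card_univ, Fintype.card_prod] at h4
    refine h4.trans ((card_union_le _ _).trans ?_)
    refine Nat.add_le_add_right ((card_union_le _ _).trans ?_) _
    refine Nat.add_le_add_right (card_image_le.trans ?_) _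
    rw [card_univ]
  set A := (univ.filter fun p : Ω => R p (a p)).card
  set B := (univ.filter fun p : Ω => R p (b p)).card
  set A' := (univ.filter fun p : Ω => R' p (a p)).card
  set B' := (univ.filter fun p : Ω => R' p (b p)).card
  set X := (univ.filter fun p : Ω × Ω => R p.1 p.2).card
  set Y := (univ.filter fun p : Ω × Ω => R' p.1 p.2).card
  have hN0 : 0 < N := by
    obtain ⟨p, _⟩ := ha
    exact Fintype.card_pos_iff.mpr ⟨p⟩
  -- (A B') + (A' B) ≤ N and (A B')(A' B) ≥ X Y ≥ N ^ 2
  have h5 : A * B' + A' * B ≤ N := by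
    have : (A + A') * (B + B') ≤ N * N := Nat.mul_le_mul hsa hsb
    have h6 : (A + A') * (B + B') = A * B + A' * B' + (A * B' + A' * B) := by ring
    omega
  have h7 : N * N ≤ (A * B') * (A' * B) := by
    calc N * N ≤ X * Y := Nat.mul_le_mul hR hR'
      _ ≤ (A * B) * (A' * B') := Nat.mul_le_mul h1 h2
      _ = _ := by ring
  have h8 : 4 * ((A * B') * (A' * B)) ≤ N * N := by
    have h9 : (A * B' + A' * B) * (A * B' + A' * B) ≤ N * N := Nat.mul_le_mul h5 h5
    have h10 : 4 * ((A * B') * (A' * B)) ≤ (A * B' + A' * B) * (A * B' + A' * B) := by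
      zify
      nlinarith [sq_nonneg ((A : ℤ) * B' - A' * B)]
    exact h10.trans h9
  have : 0 < N * N := Nat.mul_pos hN0 hN0
  omega

end Cfsg.Agent.H105.SzCS
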