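import Mathlib
import Cfsg.Agent.H105.SzCS

/-!
# Products of two centralizers in a linear group: the projective set-up

`PBad S a b`: every element of `S` is a product `x y` with `x` centralizing `a` up to a scalar and
`y` centralizing `b` up to a scalar.
-/

set_option autoImplicit false

namespace Cfsg.Agent.H105.Sz

open Module Projectivization LinearAlgebra.Projectivization

section Basic

variable {K V : Type*} [Field K] [AddCommGroup V] [Module K V]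

/-- `x` commutes with `a` up to a scalar. -/
def SComm (x a : V ≃ₗ[K] V) : Prop := ∃ c : K, ∀ v, a (x v) = c • x (a v)

/-- `a` is a scalar. -/
def Scalar (a : V ≃ₗ[K] V) : Prop := ∃ c : K, ∀ v, a v = c • v

/-- Every element of `S` is a product of an element centralizing `a` (up to a scalar) and an
element centralizing `b` (up to a scalar). -/
def PBad (S : Subgroup (V ≃ₗ[K] V)) (a b : V ≃ₗ[K] V) : Prop :=
  a ∈ S ∧ b ∈ S ∧ ∀ g ∈ S, ∃ x ∈ S, ∃ y ∈ S, g = x * y ∧ SComm x a ∧ SComm y b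

theorem SComm.ne {x a : V ≃ₗ[K] V} [Nontrivial V] {c : K} (h : ∀ v, a (x v) = c • x (a v)) : c ≠ 0 := by
  rintro rfl
  obtain ⟨v, hv⟩ := exists_ne (0 : V)
  have h1 := h v
  rw [zero_smul, LinearEquiv.map_eq_zero_iff, LinearEquiv.map_eq_zero_iff] at h1
  exact hv h1

theorem SComm.inv {x a : V ≃ₗ[K] V} [Nontrivial V] (h : SComm x a) : SComm x⁻¹ a := by
  obtain ⟨c, hc⟩ := h
  have hc0 := SComm.ne hc
  refine ⟨c⁻¹, fun v => ?_⟩
  apply x.injective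
  have h1 := hc (x⁻¹ v)
  have h2 : ∀ w, x (x⁻¹ w) = w := fun w => x.apply_symm_apply w
  rw [h2] at h1
  rw [map_smul, h2, h1, smul_smul, inv_mul_cancel₀ hc0, one_smul]

theorem SComm.one (a : V ≃ₗ[K] V) : SComm 1 a := ⟨1, fun v => by rw [one_smul]; rfl⟩

theorem SComm.mul {x y a : V ≃ₗ[K] V} (hx : SComm x a) (hy : SComm y a) : SComm (x * y) a := by
  obtain ⟨c, hc⟩ := hx
  obtain ⟨d, hd⟩ := hy
  refine ⟨c * d, fun v => ?_⟩
  change a (x (y v)) = (c * d) • x (y (a v))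
  rw [hc, hd, map_smul, smul_smul]

/-- conjugation of `SComm` -/
theorem SComm.conj {x a : V ≃ₗ[K] V} (u : V ≃ₗ[K] V) (h : SComm x a) :
    SComm (u * x * u⁻¹) (u * a * u⁻¹) := by
  obtain ⟨c, hc⟩ := h
  refine ⟨c, fun v => ?_⟩
  have h2 : ∀ w, u⁻¹ (u w) = w := fun w => u.symm_apply_apply w
  change u (a (u⁻¹ (u (x (u⁻¹ v))))) = c • u (x (u⁻¹ (u (a (u⁻¹ v)))))
  rw [h2, h2, hc, map_smul]

variable {S : Subgroup (V ≃ₗ[K] V)} {a b : V ≃ₗ[K] V}

theorem PBad.symm [Nontrivial V] (h : PBad S a b) : PBad S b a := by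
  refine ⟨h.2.1, h.1, fun g hg => ?_⟩
  obtain ⟨x, hx, y, hy, hxy, h1, h2⟩ := h.2.2 g⁻¹ (S.inv_mem hg)
  refine ⟨y⁻¹, S.inv_mem hy, x⁻¹, S.inv_mem hx, ?_, h2.inv, h1.inv⟩
  rw [← mul_inv_rev, ← hxy, inv_inv]

/-- conjugate the second element -/
theorem PBad.conj_right [Nontrivial V] (h : PBad S a b) {u : V ≃ₗ[K] V} (hu : u ∈ S) :
    PBad S a (u * b * u⁻¹) := by
  refine ⟨h.1, S.mul_mem (S.mul_mem hu h.2.1) (S.inv_mem hu), fun g hg => ?_⟩
  obtain ⟨x, hx, y, hy, hxy, h1, h2⟩ := h.2.2 (g * u) (S.mul_mem hg hu)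
  -- g = x * (y * u⁻¹) ; need right factor commuting with u b u⁻¹
  obtain ⟨x', hx', y', hy', hxy', h1', h2'⟩ := h.2.2 u hu
  -- u = x' y' so  g = x y u⁻¹ = x y y'⁻¹ x'⁻¹ = (x x'⁻¹) (x' (y y'⁻¹) x'⁻¹)
  refine ⟨x * x'⁻¹, S.mul_mem hx (S.inv_mem hx'), x' * (y * y'⁻¹) * x'⁻¹,
    S.mul_mem (S.mul_mem hx' (S.mul_mem hy (S.inv_mem hy'))) (S.inv_mem hx'), ?_, h1.mul h1'.inv, ?_⟩
  · have : g = x * y * u⁻¹ := by rw [← hxy]; group
    rw [this, hxy']
    group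
  · -- u b u⁻¹ = x' (y' b y'⁻¹) x'⁻¹, and y y'⁻¹ commutes with y' b y'⁻¹ up to scalars
    have h3 : u * b * u⁻¹ = x' * (y' * b * y'⁻¹) * x'⁻¹ := by rw [hxy']; group
    rw [h3]
    apply SComm.conj
    obtain ⟨d, hd⟩ := h2.mul h2'.inv
    obtain ⟨c, hc⟩ := h2'
    have hc0 := SComm.ne hc
    have h4 : ∀ v, (y' * b * y'⁻¹) v = c⁻¹ • b v := by
      intro v
      have h5 := hc (y'⁻¹ v)
      have h6 : y' (y'⁻¹ v) = v := y'.apply_symm_apply v
      rw [h6] at h5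
      change y' (b (y'⁻¹ v)) = _
      rw [h5, smul_smul, inv_mul_cancel₀ hc0, one_smul]
    refine ⟨d, fun v => ?_⟩
    rw [h4, h4, hd, map_smul, smul_smul, smul_smul, mul_comm]

theorem PBad.conj_left [Nontrivial V] (h : PBad S a b) {u : V ≃ₗ[K] V} (hu : u ∈ S) :
    PBad S (u * a * u⁻¹) b := (h.symm.conj_right hu).symm

/-- **All pairs are conjugate** (up to scalars). -/
theorem PBad.key [Nontrivial V] (h : PBad S a b) {g : V ≃ₗ[K] V} (hg : g ∈ S) :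
    ∃ x ∈ S, (∃ c : K, c ≠ 0 ∧ ∀ v, a (x v) = c • x (a v)) ∧
      ∃ d : K, d ≠ 0 ∧ ∀ v, g (b (g⁻¹ (x v))) = d • x (b v) := by
  obtain ⟨x, hx, y, hy, hxy, ⟨c, hc⟩, ⟨d, hd⟩⟩ := h.2.2 g hg
  have hd0 := SComm.ne hd
  refine ⟨x, hx, ⟨c, SComm.ne hc, hc⟩, d⁻¹, inv_ne_zero hd0, fun v => ?_⟩
  have h1 : g⁻¹ (x v) = y⁻¹ v := by
    rw [hxy, mul_inv_rev]
    change y⁻¹ (x⁻¹ (x v)) = y⁻¹ v
    congr 1
    exact x.symm_apply_apply v
  have h2 : b (y⁻¹ v) = d⁻¹ • y⁻¹ (b v) := by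
    apply y.injective
    have h3 := hd (y⁻¹ v)
    have h4 : ∀ w, y (y⁻¹ w) = w := fun w => y.apply_symm_apply w
    rw [h4] at h3
    rw [map_smul, h4, h3, smul_smul, inv_mul_cancel₀ hd0, one_smul]
  rw [h1, h2, hxy]
  change x (y (d⁻¹ • y⁻¹ (b v))) = _
  rw [map_smul, map_smul]
  congr 2
  exact y.apply_symm_apply _

/-- No conjugates commute unless everything is scalar: if `a` commutes with `b` up to a scalar then it
does so with all conjugates of `b`. -/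
theorem PBad.comm_all [Nontrivial V] (h : PBad S a b) (hab : SComm b a) {g : V ≃ₗ[K] V}
    (hg : g ∈ S) : SComm (g * b * g⁻¹) a := by
  obtain ⟨x, hx, y, hy, hxy, h1, ⟨c, hc⟩⟩ := h.2.2 g hg
  have h3 : g * b * g⁻¹ = x * (y * b * y⁻¹) * x⁻¹ := by rw [hxy]; group
  rw [h3]
  have hc0 := SComm.ne hc
  have h4 : ∀ v, (y * b * y⁻¹) v = c⁻¹ • b v := by
    intro v
    have h5 := hc (y⁻¹ v)
    have h6 : y (y⁻¹ v) = v := y.apply_symm_apply v
    rw [h6] at h5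
    change y (b (y⁻¹ v)) = _
    rw [h5, smul_smul, inv_mul_cancel₀ hc0, one_smul]
  refine (h1.mul ?_).mul h1.inv
  obtain ⟨d, hd⟩ := hab
  refine ⟨d, fun v => ?_⟩
  rw [h4, h4, map_smul, hd, smul_smul, smul_smul, mul_comm]

end Basic

section Points

variable {K V : Type*} [Field K] [Finite K] [AddCommGroup V] [Module K V] [FiniteDimensional K V]

/-- The points satisfying `Sing`. -/
abbrev Pt (K : Type*) {V : Type*} [Field K] [AddCommGroup V] [Module K V] (Sing : V → Prop) : Type _ :=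
  {p : ℙ K V // Sing p.rep}

variable {Sing : V → Prop} (S : Subgroup (V ≃ₗ[K] V))

/-- hypotheses on the set of singular vectors -/
structure SingOK (Sing : V → Prop) : Prop where
  smul : ∀ (c : K) (v : V), c ≠ 0 → (Sing (c • v) ↔ Sing v)
  inv : ∀ g ∈ S, ∀ v, Sing v → Sing (g v)

variable {S}

omit [Finite K] [FiniteDimensional K V] in
theorem SingOK.mk_iff (h : SingOK S Sing) {v : V} (hv : v ≠ 0) :
    Sing (Projectivization.mk K v hv).rep ↔ Sing v := by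
  obtain ⟨c, hc⟩ := Projectivization.exists_smul_eq_mk_rep K v hv
  rw [← hc]
  exact h.smul c v c.ne_zero

/-- the action on singular points -/
@[reducible] noncomputable def ptAction (h : SingOK S Sing) : MulAction S (Pt K Sing) where
  smul g p := ⟨Projectivization.mk K ((g : V ≃ₗ[K] V) p.1.rep)
    ((LinearEquiv.map_ne_zero_iff _).mpr p.1.rep_nonzero), by
      rw [h.mk_iff]
      exact h.inv g g.2 _ p.2⟩
  one_smul p := by
    apply Subtype.ext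
    change Projectivization.mk K p.1.rep _ = p.1
    exact p.1.mk_rep
  mul_smul g k p := by
    apply Subtype.ext
    refine (Projectivization.mk_eq_mk_iff' K ((g : V ≃ₗ[K] V) ((k : V ≃ₗ[K] V) p.1.rep))
      ((g : V ≃ₗ[K] V) (Projectivization.mk K ((k : V ≃ₗ[K] V) p.1.rep) _).rep) _ _).mpr ?_
    obtain ⟨c, hc⟩ := Projectivization.exists_smul_eq_mk_rep K ((k : V ≃ₗ[K] V) p.1.rep)
      ((LinearEquiv.map_ne_zero_iff _).mpr p.1.rep_nonzero)
    refine ⟨(c : K)⁻¹, ?_⟩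
    rw [← hc]
    change (c : K)⁻¹ • (g : V ≃ₗ[K] V) ((c : K) • _) = _
    rw [map_smul, smul_smul, inv_mul_cancel₀ c.ne_zero, one_smul]

/-- the point of a singular vector -/
def pt (h : SingOK S Sing) (v : V) (hv : v ≠ 0) (hs : Sing v) : Pt K Sing :=
  ⟨Projectivization.mk K v hv, (h.mk_iff hv).mpr hs⟩

omit [Finite K] [FiniteDimensional K V] in
theorem pt_eq_iff (h : SingOK S Sing) {v w : V} (hv : v ≠ 0) (hs : Sing v) (hw : w ≠ 0) (hs' : Sing w) :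
    pt h v hv hs = pt h w hw hs' ↔ ∃ c : K, c • w = v := by
  unfold pt
  rw [Subtype.mk.injEq, Projectivization.mk_eq_mk_iff']

omit [Finite K] [FiniteDimensional K V] in
theorem exists_pt (h : SingOK S Sing) (p : Pt K Sing) : ∃ v hv hs, p = pt h v hv hs :=
  ⟨p.1.rep, p.1.rep_nonzero, p.2, by
    apply Subtype.ext
    exact p.1.mk_rep.symm⟩

omit [Finite K] [FiniteDimensional K V] in
theorem map_ne (g : V ≃ₗ[K] V) {v : V} (hv : v ≠ 0) : g v ≠ 0 := (LinearEquiv.map_ne_zero_iff g).mpr hv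

/-- the map on singular points induced by an element of `S` -/
noncomputable def pm (h : SingOK S Sing) (a : V ≃ₗ[K] V) (ha : a ∈ S) (p : Pt K Sing) : Pt K Sing :=
  letI := ptAction h
  (⟨a, ha⟩ : S) • p

omit [Finite K] [FiniteDimensional K V] in
theorem pm_pt (h : SingOK S Sing) {a : V ≃ₗ[K] V} (ha : a ∈ S) {v : V} (hv : v ≠ 0) (hs : Sing v) :
    pm h a ha (pt h v hv hs) = pt h (a v) (map_ne a hv) (h.inv a ha v hs) := by
  apply Subtype.ext
  refine (Projectivization.mk_eq_mk_iff' K (a (Projectivization.mk K v hv).rep) (a v) _ _).mpr ?_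
  obtain ⟨c, hc⟩ := Projectivization.exists_smul_eq_mk_rep K v hv
  refine ⟨(c : K), ?_⟩
  rw [← hc, ← map_smul]
  rfl

omit [Finite K] [FiniteDimensional K V] in
theorem const_of_pbad [Nontrivial V] (h : SingOK S Sing) {a b : V ≃ₗ[K] V} (hb : PBad S a b) :
    letI := ptAction h
    SzCS.Const S (pm h a hb.1) (pm h b hb.2.1) := by
  letI := ptAction h
  intro g
  obtain ⟨x, hx, ⟨c, hc0, hc⟩, d, hd0, hd⟩ := hb.key g.2
  refine ⟨⟨x, hx⟩, ?_, ?_⟩
  · intro p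
    obtain ⟨v, hv, hs, rfl⟩ := exists_pt h p
    change pm h x hx (pm h a hb.1 (pt h v hv hs)) = pm h a hb.1 (pm h x hx (pt h v hv hs))
    rw [pm_pt, pm_pt, pm_pt, pm_pt, pt_eq_iff]
    refine ⟨c⁻¹, ?_⟩
    rw [hc, smul_smul, inv_mul_cancel₀ hc0, one_smul]
  · intro p
    obtain ⟨v, hv, hs, rfl⟩ := exists_pt h p
    change pm h g.1 g.2 (pm h b hb.2.1 (pm h (g.1)⁻¹ (S.inv_mem g.2) (pt h v hv hs))) =
      pm h x hx (pm h b hb.2.1 (pm h x⁻¹ (S.inv_mem hx) (pt h v hv hs)))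
    rw [pm_pt, pm_pt, pm_pt, pm_pt, pm_pt, pm_pt, pt_eq_iff]
    refine ⟨d, ?_⟩
    have h1 := hd (x⁻¹ v)
    have h2 : x (x⁻¹ v) = v := x.apply_symm_apply v
    rw [h2] at h1
    rw [h1]

variable (S) in
/-- The data of a rank three action on singular points. -/
structure Rank3 (Sing : V → Prop) (perp : V → V → Prop) : Prop where
  ok : SingOK S Sing
  psmul : ∀ (c d : K) (v w : V), c ≠ 0 → d ≠ 0 → (perp (c • v) (d • w) ↔ perp v w)
  pinv : ∀ g ∈ S, ∀ v w, perp (g v) (g w) ↔ perp v w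
  pself : ∀ v, Sing v → perp v v
  tr1 : ∀ v w v' w', Sing v → Sing w → Sing v' → Sing w' → LinearIndependent K ![v, w] →
    LinearIndependent K ![v', w'] → perp v w → perp v' w' →
    ∃ g ∈ S, (∃ c : K, g v = c • v') ∧ ∃ c : K, g w = c • w'
  tr2 : ∀ v w v' w', Sing v → Sing w → Sing v' → Sing w' → v ≠ 0 → w ≠ 0 → v' ≠ 0 → w' ≠ 0 →
    ¬ perp v w → ¬ perp v' w' → ∃ g ∈ S, (∃ c : K, g v = c • v') ∧ ∃ c : K, g w = c • w'
  ex1 : ∀ v, Sing v → v ≠ 0 → ∃ w, Sing w ∧ LinearIndependent K ![v, w] ∧ perp v w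
  ex2 : ∀ v, Sing v → v ≠ 0 → ∃ w, Sing w ∧ w ≠ 0 ∧ ¬ perp v w

omit [Finite K] [FiniteDimensional K V] in
theorem indep_iff {v w : V} (hv : v ≠ 0) (hw : w ≠ 0) :
    LinearIndependent K ![v, w] ↔ ¬ ∃ c : K, c • w = v := by
  constructor
  · rintro h ⟨c, hc⟩
    rw [LinearIndependent.pair_iff] at h
    have := (h 1 (-c) (by rw [← hc]; module)).1
    exact one_ne_zero this
  · intro h
    rw [LinearIndependent.pair_iff' hv]
    intro c hc
    apply h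
    have hc0 : c ≠ 0 := by
      rintro rfl
      rw [zero_smul] at hc
      exact hw hc.symm
    exact ⟨c⁻¹, by rw [← hc, smul_smul, inv_mul_cancel₀ hc0, one_smul]⟩

/-- **The dichotomy.** -/
theorem dichotomy [Nontrivial V] {Sing : V → Prop} {perp : V → V → Prop} (h : Rank3 S Sing perp)
    {a b : V ≃ₗ[K] V} (hb : PBad S a b) :
    (∀ v, Sing v → perp v (a v)) ∨ (∀ v, Sing v → perp v (b v)) ∨
    (∀ v, Sing v → perp v (a v) → ∃ c : K, a v = c • v) ∨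
    (∀ v, Sing v → perp v (b v) → ∃ c : K, b v = c • v) := by
  by_contra hcon
  push Not at hcon
  obtain ⟨⟨v1, hv1, hp1⟩, ⟨v2, hv2, hp2⟩, ⟨v3, hv3, hp3, hc3⟩, v4, hv4, hp4, hc4⟩ := hcon
  have finV : Finite V := Module.finite_of_finite K
  have : Finite (V ≃ₗ[K] V) := Finite.of_injective (fun g : V ≃ₗ[K] V => (g : V → V))
    DFunLike.coe_injective
  have : Fintype S := Fintype.ofFinite _
  have : Finite (ℙ K V) := by unfold Projectivization; infer_instance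
  have : Finite (Pt K Sing) := by unfold Pt; infer_instance
  have : Fintype (Pt K Sing) := Fintype.ofFinite _
  let _ := ptAction h.ok
  have zperp : ∀ {v w : V} (hv : v ≠ 0) (hw : w ≠ 0) {v' w' : V}, (∃ c : K, c • v = v') →
      (∃ c : K, c • w = w') → v' ≠ 0 → w' ≠ 0 → (perp v' w' ↔ perp v w) := by
    rintro v w hv hw v' w' ⟨c, rfl⟩ ⟨d, rfl⟩ h1 h2
    exact h.psmul c d v w (fun hc => h1 (by rw [hc, zero_smul])) (fun hc => h2 (by rw [hc, zero_smul]))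
  let P : Pt K Sing → Pt K Sing → Prop := fun p q => perp p.1.rep q.1.rep
  have hP : ∀ {v w : V} (hv : v ≠ 0) (hw : w ≠ 0) (hs : Sing v) (hs' : Sing w),
      P (pt h.ok v hv hs) (pt h.ok w hw hs') ↔ perp v w := by
    intro v w hv hw hs hs'
    obtain ⟨c, hc⟩ := Projectivization.exists_smul_eq_mk_rep K v hv
    obtain ⟨d, hd⟩ := Projectivization.exists_smul_eq_mk_rep K w hw
    exact zperp hv hw ⟨c, hc⟩ ⟨d, hd⟩ (Projectivization.rep_nonzero _) (Projectivization.rep_nonzero _)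
  have hsm : ∀ (g : S) {v : V} (hv : v ≠ 0) (hs : Sing v), g • (pt h.ok v hv hs) =
      pt h.ok ((g : V ≃ₗ[K] V) v) (map_ne _ hv) (h.ok.inv _ g.2 _ hs) := by
    intro g v hv hs
    exact pm_pt h.ok g.2 hv hs
  have hPinv : ∀ (g : S) x y, P (g • x) (g • y) ↔ P x y := by
    intro g x y
    obtain ⟨v, hv, hs, rfl⟩ := exists_pt h.ok x
    obtain ⟨w, hw, hs', rfl⟩ := exists_pt h.ok y
    rw [hsm, hsm, hP, hP]
    exact h.pinv _ g.2 _ _
  have hne : ∀ {v w : V} (hv : v ≠ 0) (hw : w ≠ 0) (hs : Sing v) (hs' : Sing w),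
      pt h.ok v hv hs ≠ pt h.ok w hw hs' ↔ LinearIndependent K ![v, w] := by
    intro v w hv hw hs hs'
    rw [indep_iff hv hw, ne_eq, pt_eq_iff]
  have heq : ∀ {v w : V} (hv : v ≠ 0) (hw : w ≠ 0) (hs : Sing v) (hs' : Sing w),
      (∃ c : K, v = c • w) → pt h.ok v hv hs = pt h.ok w hw hs' := by
    rintro v w hv hw hs hs' ⟨c, hc⟩
    rw [pt_eq_iff]
    exact ⟨c, hc.symm⟩
  have z1 : v1 ≠ 0 := by
    rintro rfl
    exact hp1 (by rw [map_zero]; exact h.pself _ hv1)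
  have z2 : v2 ≠ 0 := by
    rintro rfl
    exact hp2 (by rw [map_zero]; exact h.pself _ hv2)
  have z3 : v3 ≠ 0 := by
    rintro rfl
    exact hc3 0 (by simp)
  have z4 : v4 ≠ 0 := by
    rintro rfl
    exact hc4 0 (by simp)
  refine SzCS.not_both (G := S) (R := fun p q => p ≠ q ∧ P p q) (R' := fun p q => ¬ P p q)
    ?_ ?_ ?_ ?_ ?_ ?_ ?_ ?_ (const_of_pbad h.ok hb) ⟨pt h.ok v3 z3 hv3, ?_⟩ ⟨pt h.ok v4 z4 hv4, ?_⟩
    ⟨pt h.ok v1 z1 hv1, ?_⟩ ⟨pt h.ok v2 z2 hv2, ?_⟩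
  · intro g x y hxy
    exact ⟨fun he => hxy.1 (MulAction.injective g he), (hPinv g x y).mpr hxy.2⟩
  · intro g x y hxy hc
    exact hxy ((hPinv g x y).mp hc)
  · intro x y x' y' hxy hxy'
    obtain ⟨v, hv, hs, rfl⟩ := exists_pt h.ok x
    obtain ⟨w, hw, ht, rfl⟩ := exists_pt h.ok y
    obtain ⟨v', hv', hs', rfl⟩ := exists_pt h.ok x'
    obtain ⟨w', hw', ht', rfl⟩ := exists_pt h.ok y'
    obtain ⟨g, hg, h1, h2⟩ := h.tr1 v w v' w' hs ht hs' ht' ((hne hv hw hs ht).mp hxy.1)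
      ((hne hv' hw' hs' ht').mp hxy'.1) ((hP hv hw hs ht).mp hxy.2) ((hP hv' hw' hs' ht').mp hxy'.2)
    refine ⟨⟨g, hg⟩, ?_, ?_⟩
    · rw [hsm]; exact heq _ _ _ _ h1
    · rw [hsm]; exact heq _ _ _ _ h2
  · intro x y x' y' hxy hxy'
    obtain ⟨v, hv, hs, rfl⟩ := exists_pt h.ok x
    obtain ⟨w, hw, ht, rfl⟩ := exists_pt h.ok y
    obtain ⟨v', hv', hs', rfl⟩ := exists_pt h.ok x'
    obtain ⟨w', hw', ht', rfl⟩ := exists_pt h.ok y'
    obtain ⟨g, hg, h1, h2⟩ := h.tr2 v w v' w' hs ht hs' ht' hv hw hv' hw'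
      (fun hc => hxy ((hP hv hw hs ht).mpr hc)) (fun hc => hxy' ((hP hv' hw' hs' ht').mpr hc))
    refine ⟨⟨g, hg⟩, ?_, ?_⟩
    · rw [hsm]; exact heq _ _ _ _ h1
    · rw [hsm]; exact heq _ _ _ _ h2
  · intro x y
    by_cases h1 : x = y
    · exact Or.inl h1
    · by_cases h2 : P x y
      · exact Or.inr (Or.inl ⟨h1, h2⟩)
      · exact Or.inr (Or.inr h2)
  · intro x y hxy hc
    exact hc hxy.2
  · intro x
    obtain ⟨v, hv, hs, rfl⟩ := exists_pt h.ok x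
    obtain ⟨w, hs', hi, hp⟩ := h.ex1 v hs hv
    have hw : w ≠ 0 := hi.ne_zero 1
    exact ⟨pt h.ok w hw hs', (hne hv hw hs hs').mpr hi, (hP hv hw hs hs').mpr hp⟩
  · intro x
    obtain ⟨v, hv, hs, rfl⟩ := exists_pt h.ok x
    obtain ⟨w, hs', hw, hp⟩ := h.ex2 v hs hv
    exact ⟨pt h.ok w hw hs', fun hc => hp ((hP hv hw hs hs').mp hc)⟩
  · rw [pm_pt]
    refine ⟨?_, (hP z3 _ hv3 _).mpr hp3⟩
    rw [hne, indep_iff z3 (map_ne a z3)]
    rintro ⟨c, hc⟩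
    have hc0 : c ≠ 0 := by
      rintro rfl
      rw [zero_smul] at hc
      exact z3 hc.symm
    apply hc3 c⁻¹
    nth_rewrite 2 [← hc]
    rw [smul_smul, inv_mul_cancel₀ hc0, one_smul]
  · rw [pm_pt]
    refine ⟨?_, (hP z4 _ hv4 _).mpr hp4⟩
    rw [hne, indep_iff z4 (map_ne b z4)]
    rintro ⟨c, hc⟩
    have hc0 : c ≠ 0 := by
      rintro rfl
      rw [zero_smul] at hc
      exact z4 hc.symm
    apply hc4 c⁻¹
    nth_rewrite 2 [← hc]
    rw [smul_smul, inv_mul_cancel₀ hc0, one_smul]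
  · rw [pm_pt]
    exact fun hc => hp1 ((hP z1 _ hv1 _).mp hc)
  · rw [pm_pt]
    exact fun hc => hp2 ((hP z2 _ hv2 _).mp hc)

end Points

end Cfsg.Agent.H105.Sz
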