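import Mathlib

/-!
# Automizers of abelian Sylow subgroups have even order when a Sylow element is real
-/

set_option autoImplicit false

namespace Cfsg.Agent.H105

variable {G : Type*} [Group G] [Finite G]

theorem centralizer_subgroupOf_normalizer_normal (P : Subgroup G) :
    ((Subgroup.centralizer (P : Set G)).subgroupOf
      (Subgroup.normalizer (P : Set G))).Normal := by
  constructor
  rintro ⟨c, hc⟩ hcC ⟨g, hg⟩
  rw [Subgroup.mem_subgroupOf] at hcC ⊢
  simp only [Subgroup.coe_mul, Subgroup.coe_inv] at *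
  rw [Subgroup.mem_centralizer_iff] at *
  intro h hh
  have hg' : g⁻¹ ∈ Subgroup.normalizer (P : Set G) := inv_mem hg
  have h1 : g⁻¹ * h * g ∈ P := by
    have := (Subgroup.mem_normalizer_iff.mp hg' h).mp hh
    simpa using this
  have h2 := hcC _ h1
  calc h * (g * c * g⁻¹) = g * ((g⁻¹ * h * g) * c) * g⁻¹ := by group
    _ = g * (c * (g⁻¹ * h * g)) * g⁻¹ := by rw [h2]
    _ = g * c * g⁻¹ * h := by group

/-- Let `P` be an abelian Sylow `p`-subgroup and `x ∈ P` with `x ≠ x⁻¹` conjugate to its inverse.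
Then `|N(P) : C(P)|` is even. -/
theorem two_dvd_index_of_inv {p : ℕ} [Fact p.Prime] (P : Sylow p G)
    (hP : IsMulCommutative (P : Subgroup G)) {x : G} (hxP : x ∈ P) (hx : x ≠ x⁻¹)
    (hc : IsConj x x⁻¹) :
    2 ∣ ((Subgroup.centralizer ((P : Subgroup G) : Set G)).subgroupOf
      (Subgroup.normalizer ((P : Subgroup G) : Set G))).index := by
  obtain ⟨c, hc⟩ := isConj_iff.mp hc
  have hcomm : ∀ y ∈ P, ∀ z ∈ P, y * z = z * y := fun y hy z hz => by
    have := hP.is_comm.comm (⟨y, hy⟩ : (P : Subgroup G)) ⟨z, hz⟩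
    exact congrArg Subtype.val this
  have hle : ∀ y ∈ P, y ∈ Subgroup.centralizer ((P : Subgroup G) : Set G) := fun y hy => by
    rw [Subgroup.mem_centralizer_iff]
    intro h hh
    exact hcomm h hh y hy
  obtain ⟨n, hn, hn2⟩ := P.conj_eq_normalizer_conj_of_mem_centralizer x c⁻¹
    (hle x hxP) (by rw [inv_inv, hc]; exact hle _ (inv_mem hxP))
  rw [inv_inv, hc] at hn2
  -- n⁻¹ x n = x⁻¹
  by_contra h2
  set N := Subgroup.normalizer ((P : Subgroup G) : Set G) with hN
  set C := (Subgroup.centralizer ((P : Subgroup G) : Set G)).subgroupOf N with hC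
  have : C.Normal := centralizer_subgroupOf_normalizer_normal _
  have hodd : Odd C.index := by
    rcases Nat.even_or_odd C.index with h | h
    · exact absurd h.two_dvd h2
    · exact h
  have hpow : (⟨n, hn⟩ : N) ^ C.index ∈ C := Subgroup.pow_index_mem C _
  have hcent : x * n ^ C.index = n ^ C.index * x := by
    have h3 := Subgroup.mem_subgroupOf.mp hpow
    rw [Subgroup.mem_centralizer_iff] at h3
    exact h3 x hxP
  have hsc : SemiconjBy n⁻¹ x x⁻¹ := by
    rw [SemiconjBy, hn2]; group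
  have hsc2 : SemiconjBy n⁻¹ x⁻¹ x := by
    have := hsc.inv_right
    rwa [inv_inv] at this
  have hsq : SemiconjBy (n⁻¹ ^ 2) x x := by
    rw [pow_two]; exact hsc2.mul_left hsc
  obtain ⟨m, hm⟩ := hodd
  have hodd2 : SemiconjBy (n⁻¹ ^ C.index) x x⁻¹ := by
    rw [hm, pow_succ', pow_mul]
    exact hsc.mul_left (by
      clear hm
      induction m with
      | zero => simp
      | succ k ih => rw [pow_succ']; exact hsq.mul_left ih)
  apply hx
  have h4 : n⁻¹ ^ C.index * x = x * n⁻¹ ^ C.index := by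
    rw [inv_pow]
    rw [inv_mul_eq_iff_eq_mul, ← mul_assoc, eq_mul_inv_iff_mul_eq, hcent]
  have h5 := hodd2
  rw [SemiconjBy, h4] at h5
  exact mul_right_cancel h5

end Cfsg.Agent.H105
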