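import Mathlib
import Cfsg.Agent.H105.SzBase

/-!
# From a group to its linear representation
-/

set_option autoImplicit false

namespace Cfsg.Agent.H105.Sz

/-- `G` is not the product of the centralizers of two nontrivial elements. -/
def Szep (G : Type*) [Group G] : Prop :=
  ∀ a b : G, a ≠ 1 → b ≠ 1 → ∃ g : G, ∀ x ∈ Subgroup.centralizer ({a} : Set G),
    ∀ y ∈ Subgroup.centralizer ({b} : Set G), g ≠ x * y

theorem Szep.of_equiv {G H : Type*} [Group G] [Group H] (e : G ≃* H) (h : Szep H) : Szep G := by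
  intro a b ha hb
  obtain ⟨g, hg⟩ := h (e a) (e b) (fun hc => ha (e.injective (by rw [hc, map_one])))
    (fun hc => hb (e.injective (by rw [hc, map_one])))
  refine ⟨e.symm g, fun x hx y hy hxy => ?_⟩
  refine hg (e x) ?_ (e y) ?_ ?_
  · rw [Subgroup.mem_centralizer_singleton_iff] at hx ⊢
    rw [← map_mul, ← map_mul, hx]
  · rw [Subgroup.mem_centralizer_singleton_iff] at hy ⊢
    rw [← map_mul, ← map_mul, hy]
  · rw [← map_mul, ← hxy, e.apply_symm_apply]

variable {K V : Type*} [Field K] [AddCommGroup V] [Module K V]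

/-- **Transfer.** -/
theorem szep_of_linear {Γ : Type*} [Group Γ] (ρ : Γ →* (V ≃ₗ[K] V)) (hinj : Function.Injective ρ)
    (hZ : ∀ z ∈ Subgroup.center Γ, Scalar (ρ z))
    (hP : ∀ a b : V ≃ₗ[K] V, PBad ρ.range a b → ¬ Scalar a → ¬ Scalar b → False) :
    Szep (Γ ⧸ Subgroup.center Γ) := by
  have hcen : ∀ g : Γ, Scalar (ρ g) → g ∈ Subgroup.center Γ := by
    rintro g ⟨c, hc⟩
    rw [Subgroup.mem_center_iff]
    intro k
    apply hinj
    apply LinearEquiv.ext
    intro v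
    rw [map_mul, map_mul]
    change ρ k (ρ g v) = ρ g (ρ k v)
    rw [hc, hc, map_smul]
  have hsc : ∀ x a : Γ, (QuotientGroup.mk x : Γ ⧸ Subgroup.center Γ) ∈
      Subgroup.centralizer ({(QuotientGroup.mk a : Γ ⧸ Subgroup.center Γ)} : Set (Γ ⧸ Subgroup.center Γ)) →
      SComm (ρ x) (ρ a) := by
    intro x a hx
    rw [Subgroup.mem_centralizer_singleton_iff, ← QuotientGroup.mk_mul, ← QuotientGroup.mk_mul,
      QuotientGroup.eq] at hx
    obtain ⟨c, hc⟩ := hZ _ hx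
    refine ⟨c, fun v => ?_⟩
    have h1 : ρ (a * x) v = ρ (x * a) (ρ ((x * a)⁻¹ * (a * x)) v) := by
      rw [← LinearEquiv.mul_apply, ← map_mul, mul_inv_cancel_left]
    rw [hc, map_smul] at h1
    rw [map_mul, map_mul] at h1
    exact h1
  intro a b ha hb
  by_contra hcon
  push Not at hcon
  obtain ⟨a, rfl⟩ := QuotientGroup.mk_surjective a
  obtain ⟨b, rfl⟩ := QuotientGroup.mk_surjective b
  refine hP (ρ a) (ρ b) ⟨⟨a, rfl⟩, ⟨b, rfl⟩, ?_⟩ ?_ ?_
  · rintro _ ⟨g, rfl⟩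
    obtain ⟨x, hx, y, hy, hxy⟩ := hcon (QuotientGroup.mk g)
    obtain ⟨x, rfl⟩ := QuotientGroup.mk_surjective x
    obtain ⟨y, rfl⟩ := QuotientGroup.mk_surjective y
    have hxy' : (QuotientGroup.mk g : Γ ⧸ Subgroup.center Γ) = QuotientGroup.mk (x * y) := hxy
    rw [eq_comm, QuotientGroup.eq] at hxy'
    refine ⟨ρ x, ⟨x, rfl⟩, ρ (x⁻¹ * g), ⟨_, rfl⟩, ?_, hsc x a hx, ?_⟩
    · rw [← map_mul, mul_inv_cancel_left]
    · apply hsc
      have h1 : (QuotientGroup.mk (x⁻¹ * g) : Γ ⧸ Subgroup.center Γ) = QuotientGroup.mk y := by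
        rw [eq_comm, QuotientGroup.eq]
        have h2 : (x * y)⁻¹ * g = y⁻¹ * (x⁻¹ * g) := by group
        rw [← h2]
        exact hxy'
      rw [h1]
      exact hy
  · intro hc
    exact ha ((QuotientGroup.eq_one_iff a).mpr (hcen a hc))
  · intro hc
    exact hb ((QuotientGroup.eq_one_iff b).mpr (hcen b hc))

end Cfsg.Agent.H105.Sz
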