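import Mathlib
import Cfsg.Agent.H105.SzTransfer
import Cfsg.Agent.LieClassical.OrthFinite
import Cfsg.Agent.H955.QOdd
import Cfsg.Agent.H958.Wt

/-!
# Products of two centralizers in orthogonal groups, part 1: transitivity of `Ω` on totally singular
families, existence of singular vectors
-/

set_option autoImplicit false

namespace Cfsg.Agent.H105.SzO

open Module QuadraticMap Cfsg.Agent.LieClassical.OrthCore Cfsg.Agent.LieClassical.OrthTrans
open Cfsg.Agent.LieClassical.OrthFinite Cfsg.Agent.H955

universe u v w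

section General

variable {K : Type u} [Field K] {V : Type v} [AddCommGroup V] [Module K V] {Q : QuadraticForm K V}

theorem commutator_mem_E {g h : V ≃ₗ[K] V} (hG : Good Q) (hg : g ∈ O Q) (hh : h ∈ O Q) :
    g * h * g⁻¹ * h⁻¹ ∈ E Q := by
  rw [← hG.commutator_eq_E]
  exact Subgroup.commutator_mem_commutator hg hh

/-- **Adjusting.** A subgroup of `O Q` meeting each coset of a reflection meets all cosets. -/
theorem adjust (hG : Good Q) {H : Subgroup (V ≃ₗ[K] V)} (hHO : H ≤ O Q)
    (hH : ∀ z (hz : Q z ≠ 0), ∃ h ∈ H, h * refl Q z hz ∈ E Q) {g : V ≃ₗ[K] V} (hg : g ∈ O Q) :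
    ∃ h ∈ H, h * g ∈ E Q := by
  have : FiniteDimensional K V := Module.finite_of_finrank_pos (by have := hG.dim; omega)
  have hg' := hg
  rw [O_eq_closure hG.nondeg] at hg'
  have key : ∀ g ∈ Subgroup.closure (reflSet Q ∪ siegelSet Q), ∃ h ∈ H, h * g ∈ E Q := by
    intro g hg
    induction hg using Subgroup.closure_induction with
    | mem x hx =>
      rcases hx with ⟨z, hz, rfl⟩ | hx
      · exact hH z hz
      · exact ⟨1, H.one_mem, by rw [one_mul]; exact Subgroup.subset_closure hx⟩
    | one => exact ⟨1, H.one_mem, by rw [one_mul]; exact (E Q).one_mem⟩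
    | mul x y hx hy ihx ihy =>
      rw [← O_eq_closure hG.nondeg] at hx hy
      obtain ⟨h1, hh1, e1⟩ := ihx
      obtain ⟨h2, hh2, e2⟩ := ihy
      refine ⟨h2 * h1, H.mul_mem hh2 hh1, ?_⟩
      have : h2 * h1 * (x * y) = h2 * (h1 * x) * h2⁻¹ * (h2 * y) := by group
      rw [this]
      exact (E Q).mul_mem (conj_mem_E (hHO hh2) e1) e2
    | inv x hx ihx =>
      obtain ⟨h1, hh1, e1⟩ := ihx
      refine ⟨h1⁻¹, H.inv_mem hh1, ?_⟩
      have : h1⁻¹ * x⁻¹ = h1⁻¹ * (h1 * x)⁻¹ * (h1⁻¹)⁻¹ := by group
      rw [this]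
      exact conj_mem_E ((O Q).inv_mem (hHO hh1)) ((E Q).inv_mem e1)
  exact key g hg'

/-- every vector of a subspace containing a hyperbolic pair is a sum of singular vectors. -/
theorem le_span_sing {W : Submodule K V} {x y : V} (h : Hyp Q x y) (hx : x ∈ W) (hy : y ∈ W) :
    W ≤ Submodule.span K {v | v ∈ W ∧ Q v = 0} := by
  intro v hv
  set v' := LieClassical.OrthTrans.proj Q x y v with hv'
  have hv'W : v' ∈ W := by
    rw [hv', LieClassical.OrthTrans.proj]
    exact W.sub_mem (W.sub_mem hv (W.smul_mem _ hx)) (W.smul_mem _ hy)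
  have e : v = polar Q y v • x + polar Q x v • y + (x + v' - Q v' • y) + Q v' • y - x := by
    rw [hv', LieClassical.OrthTrans.proj]; module
  have hxs : x ∈ Submodule.span K {v | v ∈ W ∧ Q v = 0} := Submodule.subset_span ⟨hx, h.left⟩
  have hys : y ∈ Submodule.span K {v | v ∈ W ∧ Q v = 0} := Submodule.subset_span ⟨hy, h.right⟩
  have hzs : (x + v' - Q v' • y) ∈ Submodule.span K {v | v ∈ W ∧ Q v = 0} :=
    Submodule.subset_span ⟨W.sub_mem (W.add_mem hx hv'W) (W.smul_mem _ hy),
      sing_vec h (polar_proj_left h v) (polar_proj_right h v)⟩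
  rw [e]
  exact Submodule.sub_mem _ (Submodule.add_mem _ (Submodule.add_mem _ (Submodule.add_mem _
    (Submodule.smul_mem _ _ hxs) (Submodule.smul_mem _ _ hys)) hzs) (Submodule.smul_mem _ _ hys)) hxs

variable [FiniteDimensional K V]

/-- relative complements -/
theorem exists_rel_compl {U W : Submodule K V} (h : U ≤ W) :
    ∃ C ≤ W, C ⊓ U = ⊥ ∧ C ⊔ U = W ∧ finrank K C + finrank K U = finrank K W := by
  obtain ⟨C, hC⟩ := Submodule.exists_isCompl (U.submoduleOf W)
  have h1 := Submodule.finrank_add_eq_of_isCompl hC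
  have h2 : finrank K (U.submoduleOf W) = finrank K U := (Submodule.submoduleOfEquivOfLe h).finrank_eq
  have h4 : finrank K (C.map W.subtype) = finrank K C := Submodule.finrank_map_subtype_eq W C
  have h5 : (U.submoduleOf W).map W.subtype = U := by
    ext x
    constructor
    · rintro ⟨y, hy, rfl⟩
      exact hy
    · intro hx
      exact ⟨⟨x, h hx⟩, hx, rfl⟩
  refine ⟨C.map W.subtype, Submodule.map_subtype_le _ _, ?_, ?_, by rw [h4, ← h2, add_comm]; exact h1⟩
  · rw [Submodule.eq_bot_iff]
    rintro _ ⟨⟨x, hx, rfl⟩, hxU⟩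
    have h6 : x ∈ U.submoduleOf W ⊓ C := ⟨hxU, hx⟩
    rw [hC.inf_eq_bot, Submodule.mem_bot] at h6
    rw [h6, map_zero]
  · conv_lhs => rw [← h5]
    rw [← Submodule.map_sup, sup_comm, hC.sup_eq_top, Submodule.map_top, Submodule.range_subtype]

/-- a complement of a totally singular subspace in its orthogonal complement. -/
theorem exists_nondeg_compl (hQ : Nondeg Q) {U : Submodule K V} (hU : ∀ x ∈ U, Q x = 0) :
    ∃ W : Submodule K V, W ≤ perp Q U ∧ Nondeg (res Q W) ∧
      2 * finrank K U + finrank K W = finrank K V := by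
  have hUU : U ≤ perp Q U := by
    intro x hx y hy
    rw [polar, hU _ (U.add_mem hy hx), hU _ hx, hU _ hy]
    ring
  obtain ⟨C, hC, hCU, hCU', hfr⟩ := exists_rel_compl hUU
  have h3 := finrank_add_perp hQ U
  refine ⟨C, hC, ?_, by omega⟩
  rw [nondeg_res_iff]
  intro x hx hxy
  have h4 : x ∈ perp Q (perp Q U) := by
    rw [← hCU', mem_perp']
    intro w hw
    obtain ⟨c, hc, u, hu, rfl⟩ := Submodule.mem_sup.1 hw
    rw [polar_add_right, hxy c hc, zero_add, polar_comm]
    exact hC hx u hu
  rw [perp_perp hQ] at h4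
  have h5 : x ∈ C ⊓ U := ⟨hx, h4⟩
  rwa [hCU, Submodule.mem_bot] at h5

end General

section Fin

variable {K : Type u} [Field K] [Finite K] {V : Type v} [AddCommGroup V] [Module K V]
  {Q : QuadraticForm K V} [FiniteDimensional K V]

/-- a nondegenerate form in dimension at least two takes every value. -/
theorem exists_val (hQ : Nondeg Q) (hd : 2 ≤ finrank K V) (c : K) : ∃ v, Q v = c := by
  by_cases h2 : (2 : K) = 0
  · obtain ⟨v, hv⟩ := exists_nonsingular hQ (by omega)
    have hch : CharP K 2 := by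
      have := CharP.exists K
      obtain ⟨p, hp⟩ := this
      have h3 : p ∣ 2 := (CharP.cast_eq_zero_iff K p 2).1 (by exact_mod_cast h2)
      have h4 : p ≠ 1 := CharP.char_ne_one K p
      rcases (Nat.dvd_prime Nat.prime_two).1 h3 with h | h
      · exact absurd h h4
      · rw [← h]; exact hp
    have := Fintype.ofFinite K
    obtain ⟨l, hl⟩ := (FiniteField.isSquare_of_char_two (ringChar.eq_iff.2 hch) (c / Q v) : IsSquare (c / Q v))
    refine ⟨l • v, ?_⟩
    rw [QuadraticMap.map_smul, smul_eq_mul, ← hl, div_mul_cancel₀ _ hv]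
  · exact exists_value h2 hQ hd c

theorem exists_val_perp (hQ : Nondeg Q) {U : Submodule K V} (hU : ∀ x ∈ U, Q x = 0)
    (hd : 2 * finrank K U + 2 ≤ finrank K V) (c : K) : ∃ v ∈ perp Q U, Q v = c := by
  obtain ⟨W, hW, hWn, hfr⟩ := exists_nondeg_compl hQ hU
  obtain ⟨v, hv⟩ := exists_val hWn (by omega) c
  exact ⟨v, hW v.2, hv⟩

/-- **Transitivity on totally singular families.** -/
theorem trans_ts (hQ : Nondeg Q) (hd : 5 ≤ finrank K V) {X : Type w} [AddCommGroup X] [Module K X]
    {f f' : X →ₗ[K] V} (hf : Function.Injective f) (hf' : Function.Injective f')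
    (h : ∀ x, Q (f x) = 0) (h' : ∀ x, Q (f' x) = 0) (hX : 2 * finrank K X + 2 ≤ finrank K V) :
    ∃ g ∈ E Q, ∀ x, g (f x) = f' x := by
  have hG := good_of_finite hQ hd
  obtain ⟨g, hg, hgf⟩ := Cfsg.Agent.H958.witt_maps hQ f f' hf hf' (fun x => by rw [h, h'])
  let H : Subgroup (V ≃ₗ[K] V) :=
    { carrier := {k | k ∈ O Q ∧ ∀ x, k (f' x) = f' x}
      mul_mem' := fun {a b} ha hb => ⟨(O Q).mul_mem ha.1 hb.1, fun x => by
        change a (b (f' x)) = _
        rw [hb.2, ha.2]⟩
      one_mem' := ⟨(O Q).one_mem, fun x => rfl⟩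
      inv_mem' := fun {a} ha => ⟨(O Q).inv_mem ha.1, fun x => by
        apply a.injective
        have : a (a⁻¹ (f' x)) = f' x := a.apply_symm_apply _
        rw [this, ha.2]⟩ }
  have hfr : finrank K (LinearMap.range f') = finrank K X :=
    (LinearEquiv.ofInjective f' hf').finrank_eq.symm
  obtain ⟨k, hk, hkg⟩ := adjust hG (H := H) (fun k hk => hk.1) (fun z hz => by
    obtain ⟨w, hw, hwz⟩ := exists_val_perp (Q := Q) hQ (U := LinearMap.range f')
      (by rintro _ ⟨x, rfl⟩; exact h' x) (by rw [hfr]; exact hX) (Q z)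
    have hw0 : Q w ≠ 0 := by rw [hwz]; exact hz
    refine ⟨refl Q w hw0, ⟨refl_mem_O hw0, fun x => ?_⟩, hG.refl_mul_refl_mem hz hw0 hwz.symm⟩
    rw [refl_apply, polar_comm, hw _ ⟨x, rfl⟩]
    simp) hg
  refine ⟨k * g, hkg, fun x => ?_⟩
  change k (g (f x)) = _
  rw [hgf, hk.2]


/-- singular vectors orthogonal to given vectors and outside a given subspace -/
theorem exists_sing_notMem {n : ℕ} (u : Fin n → V) (U : Submodule K V)
    (hn : n + finrank K U + 3 ≤ finrank K V) : ∃ w ∉ U, Q w = 0 ∧ ∀ i, polar Q (u i) w = 0 := by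
  let f : V →ₗ[K] (Fin n → K) := LinearMap.pi fun i => polarBilin Q (u i)
  have h1 := LinearMap.finrank_range_add_finrank_ker f
  have h2 : Module.finrank K (LinearMap.range f) ≤ n := by
    refine le_trans (Submodule.finrank_le _) ?_
    rw [Module.finrank_fin_fun]
  obtain ⟨C, hC, hCU, hCU', hfr⟩ := exists_rel_compl (U := U ⊓ LinearMap.ker f)
    (W := LinearMap.ker f) inf_le_right
  have h3 : finrank K (U ⊓ LinearMap.ker f : Submodule K V) ≤ finrank K U :=
    Submodule.finrank_mono inf_le_left
  obtain ⟨w, hw, hw0, hQw⟩ := exists_sing_mem (Q := Q) C (by omega)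
  refine ⟨w, fun hwU => hw0 ?_, hQw, fun i => ?_⟩
  · have h5 : w ∈ C ⊓ (U ⊓ LinearMap.ker f) := ⟨hw, hwU, hC hw⟩
    rwa [hCU, Submodule.mem_bot] at h5
  · have := congrFun (LinearMap.mem_ker.1 (hC hw)) i
    simpa [f] using this

omit [FiniteDimensional K V] in
/-- `u^⊥` is spanned by its singular vectors (`u` singular). -/
theorem perp_le_span (hQ : Nondeg Q) (hd : 5 ≤ finrank K V) {u : V} (hu : Q u = 0) (h0 : u ≠ 0) :
    perp Q (Submodule.span K {u}) ≤
      Submodule.span K {v | v ∈ perp Q (Submodule.span K {u}) ∧ Q v = 0} := by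
  have hG := good_of_finite hQ hd
  obtain ⟨u', hu'⟩ := LieClassical.OrthTrans.exists_hyp hQ hu h0
  obtain ⟨z, w, hzw, h1, h2, h3, h4⟩ := hG.exists_hyp2 hu'
  refine le_span_sing hzw ?_ ?_
  · rw [mem_perp]
    intro x hx
    obtain ⟨c, rfl⟩ := Submodule.mem_span_singleton.1 hx
    rw [polar_smul_left, h1, smul_zero]
  · rw [mem_perp]
    intro x hx
    obtain ⟨c, rfl⟩ := Submodule.mem_span_singleton.1 hx
    rw [polar_smul_left, h2, smul_zero]

omit [FiniteDimensional K V] in
/-- a vector outside `⟨u⟩` is separated from `u` by a singular vector orthogonal to `u`. -/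
theorem exists_sing_sep (hQ : Nondeg Q) (hd : 5 ≤ finrank K V) {u x : V} (hu : Q u = 0)
    (h0 : u ≠ 0) (hx : ∀ c : K, x ≠ c • u) : ∃ y, Q y = 0 ∧ polar Q u y = 0 ∧ polar Q x y ≠ 0 := by
  by_contra hcon
  push Not at hcon
  obtain ⟨y, hy1, hy2⟩ := LieClassical.OrthTrans.exists_sep hQ hx
  have h1 : y ∈ perp Q (Submodule.span K {u}) := by
    rw [mem_perp]
    intro z hz
    obtain ⟨c, rfl⟩ := Submodule.mem_span_singleton.1 hz
    rw [polar_smul_left, hy1, smul_zero]
  have h2 := perp_le_span hQ hd hu h0 h1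
  have h3 : Submodule.span K {v | v ∈ perp Q (Submodule.span K {u}) ∧ Q v = 0} ≤
      LinearMap.ker (polarBilin Q x) := by
    rw [Submodule.span_le]
    rintro v ⟨hv, hv'⟩
    exact hcon v hv' (hv u (Submodule.mem_span_singleton_self u))
  have h4 : polar Q x y = 0 := h3 h2
  rw [hy2] at h4
  exact one_ne_zero h4

/-- **Pair transitivity.** -/
theorem trans_pair (hQ : Nondeg Q) (hd : 6 ≤ finrank K V) {u y u' y' : V} (hu : Q u = 0)
    (hy : Q y = 0) (huy : polar Q u y = 0) (hi : LinearIndependent K ![u, y]) (hu' : Q u' = 0)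
    (hy' : Q y' = 0) (huy' : polar Q u' y' = 0) (hi' : LinearIndependent K ![u', y']) :
    ∃ g ∈ E Q, g u = u' ∧ g y = y' := by
  obtain ⟨g, hg, h⟩ := trans_ts hQ (by omega) (f := Fintype.linearCombination K ![u, y])
    (f' := Fintype.linearCombination K ![u', y'])
    (LinearIndependent.fintypeLinearCombination_injective hi) (LinearIndependent.fintypeLinearCombination_injective hi')
    (fun x => by
      rw [Fintype.linearCombination_apply, Fin.sum_univ_two, Q_add, QuadraticMap.map_smul,
        QuadraticMap.map_smul, polar_smul_left, polar_smul_right]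
      simp [hu, hy, huy])
    (fun x => by
      rw [Fintype.linearCombination_apply, Fin.sum_univ_two, Q_add, QuadraticMap.map_smul,
        QuadraticMap.map_smul, polar_smul_left, polar_smul_right]
      simp [hu', hy', huy']) (by rw [finrank_fin_fun]; omega)
  refine ⟨g, hg, ?_, ?_⟩
  · have := h ![1, 0]
    simpa [Fintype.linearCombination_apply] using this
  · have := h ![0, 1]
    simpa [Fintype.linearCombination_apply] using this

/-- **Triple transitivity.** -/
theorem trans_triple (hQ : Nondeg Q) (hd : 8 ≤ finrank K V) {u y z u' y' z' : V} (hu : Q u = 0)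
    (hy : Q y = 0) (hz : Q z = 0) (huy : polar Q u y = 0) (huz : polar Q u z = 0)
    (hyz : polar Q y z = 0) (hi : LinearIndependent K ![u, y, z]) (hu' : Q u' = 0)
    (hy' : Q y' = 0) (hz' : Q z' = 0) (huy' : polar Q u' y' = 0) (huz' : polar Q u' z' = 0)
    (hyz' : polar Q y' z' = 0) (hi' : LinearIndependent K ![u', y', z']) :
    ∃ g ∈ E Q, g u = u' ∧ g y = y' ∧ g z = z' := by
  obtain ⟨g, hg, h⟩ := trans_ts hQ (by omega) (f := Fintype.linearCombination K ![u, y, z])
    (f' := Fintype.linearCombination K ![u', y', z'])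
    (LinearIndependent.fintypeLinearCombination_injective hi) (LinearIndependent.fintypeLinearCombination_injective hi')
    (fun x => by
      rw [Fintype.linearCombination_apply, Fin.sum_univ_three, Q_add, Q_add, QuadraticMap.map_smul,
        QuadraticMap.map_smul, QuadraticMap.map_smul, polar_add_left, polar_smul_left,
        polar_smul_right, polar_smul_left, polar_smul_right, polar_smul_left, polar_smul_right]
      simp [hu, hy, hz, huy, huz, hyz])
    (fun x => by
      rw [Fintype.linearCombination_apply, Fin.sum_univ_three, Q_add, Q_add, QuadraticMap.map_smul,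
        QuadraticMap.map_smul, QuadraticMap.map_smul, polar_add_left, polar_smul_left,
        polar_smul_right, polar_smul_left, polar_smul_right, polar_smul_left, polar_smul_right]
      simp [hu', hy', hz', huy', huz', hyz']) (by rw [finrank_fin_fun]; omega)
  refine ⟨g, hg, ?_, ?_, ?_⟩
  · have := h ![1, 0, 0]
    simpa [Fintype.linearCombination_apply, Fin.sum_univ_three] using this
  · have := h ![0, 1, 0]
    simpa [Fintype.linearCombination_apply, Fin.sum_univ_three] using this
  · have := h ![0, 0, 1]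
    simpa [Fintype.linearCombination_apply, Fin.sum_univ_three] using this

omit [Finite K] in
/-- prescribed values against an independent family -/
theorem exists_polar_fam (hQ : Nondeg Q) {n : ℕ} {x : Fin n → V} (hx : LinearIndependent K x)
    (c : Fin n → K) : ∃ v, ∀ i, polar Q (x i) v = c i := by
  let f : V →ₗ[K] (Fin n → K) := LinearMap.pi fun i => polarBilin Q (x i)
  have hker : LinearMap.ker f = perp Q (Submodule.span K (Set.range x)) := by
    ext v
    rw [LinearMap.mem_ker, mem_perp]
    constructor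
    · intro h w hw
      induction hw using Submodule.span_induction with
      | mem y hy =>
        obtain ⟨i, rfl⟩ := hy
        exact congrFun h i
      | zero => exact polar_zero_left Q v
      | add y z _ _ hy hz => rw [polar_add_left, hy, hz, add_zero]
      | smul c y _ hy => rw [polar_smul_left, hy, smul_zero]
    · intro h
      funext i
      exact h (x i) (Submodule.subset_span ⟨i, rfl⟩)
  have h1 := LinearMap.finrank_range_add_finrank_ker f
  rw [hker] at h1
  have h2 := finrank_add_perp hQ (Submodule.span K (Set.range x))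
  rw [finrank_span_eq_card hx, Fintype.card_fin] at h2
  have h3 : LinearMap.range f = ⊤ := by
    apply Submodule.eq_top_of_finrank_eq
    rw [finrank_fin_fun]
    omega
  obtain ⟨v, hv⟩ := LinearMap.range_eq_top.1 h3 c
  exact ⟨v, fun i => congrFun hv i⟩

/-- **Triple transitivity up to scaling the third vector**, in dimension at least seven. -/
theorem trans_triple_scale (hQ : Nondeg Q) (hd : 7 ≤ finrank K V) {u y z u' y' z' : V}
    (hu : Q u = 0) (hy : Q y = 0) (hz : Q z = 0) (huy : polar Q u y = 0) (huz : polar Q u z = 0)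
    (hyz : polar Q y z = 0) (hi : LinearIndependent K ![u, y, z]) (hu' : Q u' = 0)
    (hy' : Q y' = 0) (hz' : Q z' = 0) (huy' : polar Q u' y' = 0) (huz' : polar Q u' z' = 0)
    (hyz' : polar Q y' z' = 0) (hi' : LinearIndependent K ![u', y', z']) :
    ∃ g ∈ E Q, ∃ n : K, n ≠ 0 ∧ g u = u' ∧ g y = y' ∧ g z = n • z' := by
  have hG := good_of_finite hQ (by omega)
  obtain ⟨g, hg, h⟩ := Cfsg.Agent.H958.witt_maps hQ (Fintype.linearCombination K ![u, y, z])
    (Fintype.linearCombination K ![u', y', z'])
    (LinearIndependent.fintypeLinearCombination_injective hi)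
    (LinearIndependent.fintypeLinearCombination_injective hi')
    (fun x => by
      rw [Fintype.linearCombination_apply, Fin.sum_univ_three, Q_add, Q_add, QuadraticMap.map_smul,
        QuadraticMap.map_smul, QuadraticMap.map_smul, polar_add_left, polar_smul_left,
        polar_smul_right, polar_smul_left, polar_smul_right, polar_smul_left, polar_smul_right,
        Fintype.linearCombination_apply, Fin.sum_univ_three, Q_add, Q_add, QuadraticMap.map_smul,
        QuadraticMap.map_smul, QuadraticMap.map_smul, polar_add_left, polar_smul_left,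
        polar_smul_right, polar_smul_left, polar_smul_right, polar_smul_left, polar_smul_right]
      simp [hu, hy, hz, huy, huz, hyz, hu', hy', hz', huy', huz', hyz'])
  have hg1 : g u = u' := by
    have := h ![1, 0, 0]
    simpa [Fintype.linearCombination_apply, Fin.sum_univ_three] using this
  have hg2 : g y = y' := by
    have := h ![0, 1, 0]
    simpa [Fintype.linearCombination_apply, Fin.sum_univ_three] using this
  have hg3 : g z = z' := by
    have := h ![0, 0, 1]
    simpa [Fintype.linearCombination_apply, Fin.sum_univ_three] using this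
  -- a partner of `z'`
  obtain ⟨v, hv⟩ := exists_polar_fam hQ hi' ![0, 0, 1]
  have hv0 : polar Q u' v = 0 := hv 0
  have hv1 : polar Q y' v = 0 := hv 1
  have hv2 : polar Q z' v = 1 := hv 2
  set s := v - Q v • z' with hs
  have hs0 : polar Q u' s = 0 := by
    rw [hs, polar_sub_right, polar_smul_right, hv0, huz', smul_zero, sub_zero]
  have hs1 : polar Q y' s = 0 := by
    rw [hs, polar_sub_right, polar_smul_right, hv1, hyz', smul_zero, sub_zero]
  have hzz : polar Q z' z' = 0 := polar_self_of_sing hz'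
  have hs2 : polar Q z' s = 1 := by
    rw [hs, polar_sub_right, polar_smul_right, hv2, hzz, smul_zero, sub_zero]
  have hsQ : Q s = 0 := by
    rw [hs, sub_eq_add_neg, ← neg_smul, Q_add, QuadraticMap.map_smul, hz', polar_smul_right,
      polar_comm, hv2]
    simp
  have hss : polar Q s s = 0 := polar_self_of_sing hsQ
  have hs2' : polar Q s z' = 1 := by rw [polar_comm]; exact hs2
  -- a nonsingular vector orthogonal to the triple
  obtain ⟨w, hw, hw0⟩ : ∃ w, (polar Q w u' = 0 ∧ polar Q w y' = 0 ∧ polar Q w z' = 0) ∧ Q w ≠ 0 := by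
    obtain ⟨W, hW, hWn, hfr⟩ := exists_nondeg_compl hQ
      (U := Submodule.span K (Set.range ![u', y', z'])) (by
        intro x hx
        obtain ⟨c, rfl⟩ := (Submodule.mem_span_range_iff_exists_fun K).1 hx
        rw [Fin.sum_univ_three, Q_add, Q_add, QuadraticMap.map_smul,
          QuadraticMap.map_smul, QuadraticMap.map_smul, polar_add_left, polar_smul_left,
          polar_smul_right, polar_smul_left, polar_smul_right, polar_smul_left, polar_smul_right]
        simp [hu', hy', hz', huy', huz', hyz'])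
    rw [finrank_span_eq_card hi', Fintype.card_fin] at hfr
    obtain ⟨w, hw⟩ := exists_nonsingular hWn (by omega)
    refine ⟨w, ⟨?_, ?_, ?_⟩, hw⟩
    · rw [polar_comm]; exact hW w.2 u' (Submodule.subset_span ⟨0, rfl⟩)
    · rw [polar_comm]; exact hW w.2 y' (Submodule.subset_span ⟨1, rfl⟩)
    · rw [polar_comm]; exact hW w.2 z' (Submodule.subset_span ⟨2, rfl⟩)
  obtain ⟨hwu, hwy, hwz⟩ := hw
  let H : Subgroup (V ≃ₗ[K] V) :=
    { carrier := {k | k ∈ O Q ∧ k u' = u' ∧ k y' = y' ∧ ∃ n : K, n ≠ 0 ∧ k z' = n • z'}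
      mul_mem' := fun {a b} ha hb => by
        obtain ⟨ha0, ha1, ha2, n, hn, ha3⟩ := ha
        obtain ⟨hb0, hb1, hb2, m, hm, hb3⟩ := hb
        refine ⟨(O Q).mul_mem ha0 hb0, ?_, ?_, m * n, mul_ne_zero hm hn, ?_⟩
        · change a (b u') = _
          rw [hb1, ha1]
        · change a (b y') = _
          rw [hb2, ha2]
        · change a (b z') = _
          rw [hb3, map_smul, ha3, smul_smul]
      one_mem' := ⟨(O Q).one_mem, rfl, rfl, 1, one_ne_zero, (one_smul K z').symm⟩
      inv_mem' := fun {a} ha => by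
        obtain ⟨ha0, ha1, ha2, n, hn, ha3⟩ := ha
        have hc : ∀ x, a (a⁻¹ x) = x := fun x => a.apply_symm_apply x
        refine ⟨(O Q).inv_mem ha0, ?_, ?_, n⁻¹, inv_ne_zero hn, ?_⟩
        · apply a.injective
          rw [hc, ha1]
        · apply a.injective
          rw [hc, ha2]
        · apply a.injective
          rw [hc, map_smul, ha3, smul_smul, inv_mul_cancel₀ hn, one_smul] }
  have key : ∀ c : K, c ≠ 0 → Q (z' + c • s) = c := by
    intro c _
    rw [Q_add, QuadraticMap.map_smul, hz', hsQ, polar_smul_right, hs2]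
    simp
  obtain ⟨k, hk, hkg⟩ := adjust hG (H := H) (fun k hk => hk.1) (fun z0 hz0 => by
    have h1 : Q (z' + Q w • s) ≠ 0 := by rw [key _ hw0]; exact hw0
    have h2 : Q (z' + Q z0 • s) ≠ 0 := by rw [key _ hz0]; exact hz0
    refine ⟨refl Q w hw0 * (refl Q (z' + Q w • s) h1 * refl Q (z' + Q z0 • s) h2), ⟨?_, ?_, ?_, ?_⟩, ?_⟩
    · exact (O Q).mul_mem (refl_mem_O _) ((O Q).mul_mem (refl_mem_O _) (refl_mem_O _))
    · change refl Q w hw0 (refl Q (z' + Q w • s) h1 (refl Q (z' + Q z0 • s) h2 u')) = u'
      have e1 : ∀ c : K, polar Q (z' + c • s) u' = 0 := by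
        intro c
        rw [polar_comm, polar_add_right, polar_smul_right, huz', hs0, smul_zero, add_zero]
      rw [refl_apply, refl_apply, refl_apply, e1]
      simp [e1, hwu]
    · change refl Q w hw0 (refl Q (z' + Q w • s) h1 (refl Q (z' + Q z0 • s) h2 y')) = y'
      have e1 : ∀ c : K, polar Q (z' + c • s) y' = 0 := by
        intro c
        rw [polar_comm, polar_add_right, polar_smul_right, hyz', hs1, smul_zero, add_zero]
      rw [refl_apply, refl_apply, refl_apply, e1]
      simp [e1, hwy]
    · refine ⟨Q z0 * (Q w)⁻¹, mul_ne_zero hz0 (inv_ne_zero hw0), ?_⟩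
      change refl Q w hw0 (refl Q (z' + Q w • s) h1 (refl Q (z' + Q z0 • s) h2 z')) = _
      have e1 : ∀ c : K, c ≠ 0 → ∀ (hc : Q (z' + c • s) ≠ 0), refl Q (z' + c • s) hc z' = -(c • s) := by
        intro c hc0 hc
        rw [refl_apply, key c hc0, polar_add_left, polar_smul_left, hzz, hs2', smul_eq_mul]
        have : c⁻¹ * (0 + c * 1) = 1 := by field_simp; ring
        rw [this]
        module
      have e2 : ∀ c : K, c ≠ 0 → ∀ (hc : Q (z' + c • s) ≠ 0), refl Q (z' + c • s) hc s = -(c⁻¹ • z') := by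
        intro c hc0 hc
        rw [refl_apply, key c hc0, polar_add_left, polar_smul_left, hss, hs2, smul_zero, add_zero,
          mul_one, smul_add, smul_smul, inv_mul_cancel₀ hc0, one_smul]
        module
      rw [e1 _ hz0, map_neg, map_smul, e2 _ hw0, smul_neg, neg_neg, smul_smul, refl_apply,
        polar_smul_right, hwz]
      simp
    · have : refl Q w hw0 * (refl Q (z' + Q w • s) h1 * refl Q (z' + Q z0 • s) h2) * refl Q z0 hz0 =
          (refl Q w hw0 * refl Q (z' + Q w • s) h1) * (refl Q (z' + Q z0 • s) h2 * refl Q z0 hz0) := by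
        group
      rw [this]
      exact (E Q).mul_mem (hG.refl_mul_refl_mem h1 hw0 (key _ hw0))
        (hG.refl_mul_refl_mem hz0 h2 (key _ hz0).symm)) hg
  obtain ⟨-, hk1, hk2, n, hn, hk3⟩ := hk
  refine ⟨k * g, hkg, n, hn, ?_, ?_, ?_⟩
  · change k (g u) = _
    rw [hg1, hk1]
  · change k (g y) = _
    rw [hg2, hk2]
  · change k (g z) = _
    rw [hg3, hk3]

/-- extending a totally singular pair to a triple -/
theorem exists_third (hd : 7 ≤ finrank K V) {u y : V} (hi : LinearIndependent K ![u, y]) :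
    ∃ z, Q z = 0 ∧ polar Q u z = 0 ∧ polar Q y z = 0 ∧ LinearIndependent K ![u, y, z] := by
  obtain ⟨z, hz, hz0, h⟩ := exists_sing_notMem (Q := Q) ![u, y] (Submodule.span K (Set.range ![u, y]))
    (by rw [finrank_span_eq_card hi, Fintype.card_fin]; omega)
  refine ⟨z, hz0, h 0, h 1, ?_⟩
  have h1 : LinearIndependent K (Fin.snoc ![u, y] z : Fin 3 → V) :=
    linearIndependent_finSnoc.2 ⟨hi, hz⟩
  convert h1 using 1
  funext i
  fin_cases i <;> rfl

/-- a totally singular triple `(u, y, z)` with `(x, y) ≠ 0`, `(x, z) = 0`. -/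
theorem exists_triple_sep (hQ : Nondeg Q) (hd : 7 ≤ finrank K V) {u x : V} (hu : Q u = 0)
    (h0 : u ≠ 0) (hux : polar Q u x = 0) (hx : ∀ c : K, x ≠ c • u) :
    ∃ y z, Q y = 0 ∧ Q z = 0 ∧ polar Q u y = 0 ∧ polar Q u z = 0 ∧ polar Q y z = 0 ∧
      LinearIndependent K ![u, y, z] ∧ polar Q x y ≠ 0 ∧ polar Q x z = 0 := by
  obtain ⟨y, hy, huy, hxy⟩ := exists_sing_sep hQ (by omega) hu h0 hx
  obtain ⟨z, hz, hz0, h⟩ := exists_sing_notMem (Q := Q) ![u, y, x] (Submodule.span K {u})
    (by rw [finrank_span_singleton h0]; omega)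
  have hyu : polar Q y u = 0 := by rw [polar_comm]; exact huy
  have hxu : polar Q x u = 0 := by rw [polar_comm]; exact hux
  have h1 : LinearIndependent K ![u, y] := by
    rw [LinearIndependent.pair_iff]
    intro s t hst
    have h2 : polar Q x (s • u + t • y) = 0 := by rw [hst, polar_zero_right]
    rw [polar_add_right, polar_smul_right, polar_smul_right, hxu, smul_zero, zero_add, smul_eq_mul,
      mul_eq_zero] at h2
    have ht : t = 0 := h2.resolve_right hxy
    rw [ht, zero_smul, add_zero, smul_eq_zero] at hst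
    exact ⟨hst.resolve_right h0, ht⟩
  refine ⟨y, z, hy, hz0, huy, h 0, h 1, ?_, hxy, h 2⟩
  have h3 : z ∉ Submodule.span K (Set.range ![u, y]) := by
    intro hzm
    obtain ⟨c, hc⟩ := (Submodule.mem_span_range_iff_exists_fun K).1 hzm
    rw [Fin.sum_univ_two] at hc
    have hc' : c 0 • u + c 1 • y = z := hc
    have h4 : polar Q x z = 0 := h 2
    rw [← hc', polar_add_right, polar_smul_right, polar_smul_right, hxu, smul_zero, zero_add,
      smul_eq_mul, mul_eq_zero] at h4
    rw [h4.resolve_right hxy, zero_smul, add_zero] at hc'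
    exact hz (Submodule.mem_span_singleton.2 ⟨c 0, hc'⟩)
  have h5 : LinearIndependent K (Fin.snoc ![u, y] z : Fin 3 → V) :=
    linearIndependent_finSnoc.2 ⟨h1, h3⟩
  convert h5 using 1
  funext i
  fin_cases i <;> rfl

end Fin

end Cfsg.Agent.H105.SzO
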