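import Mathlib
import Cfsg.Agent.H105.SzO1

/-!
# Products of two centralizers in orthogonal groups, part 2: signs and traces
-/

set_option autoImplicit false

namespace Cfsg.Agent.H105.SzO

open Module QuadraticMap Cfsg.Agent.LieClassical.OrthCore Cfsg.Agent.LieClassical.OrthTrans
open Cfsg.Agent.LieClassical.OrthFinite Cfsg.Agent.H955 Cfsg.Agent.H105.Sz

universe u v w

variable {K : Type u} [Field K] {V : Type v} [AddCommGroup V] [Module K V] {Q : QuadraticForm K V}

theorem exists_nonsing' (hQ : Nondeg Q) [Nontrivial V] : ∃ v, Q v ≠ 0 := by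
  by_contra hcon
  push Not at hcon
  obtain ⟨x, hx⟩ := exists_ne (0 : V)
  apply hx
  apply hQ
  intro y
  rw [polar, hcon, hcon, hcon]
  ring

/-- the scalar of a scalar-commuting pair of isometries is a sign. -/
theorem scomm_sq (hQ : Nondeg Q) [Nontrivial V] {x a : V ≃ₗ[K] V} (hx : x ∈ O Q) (ha : a ∈ O Q) {c : K}
    (h : ∀ v, a (x v) = c • x (a v)) : c = 1 ∨ c = -1 := by
  obtain ⟨v, hv⟩ := exists_nonsing' hQ
  have h1 := congrArg Q (h v)
  rw [QuadraticMap.map_smul, mem_O.1 ha, mem_O.1 hx, mem_O.1 hx, mem_O.1 ha, smul_eq_mul] at h1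
  have h2 : c * c = 1 := by
    have : (c * c - 1) * Q v = 0 := by linear_combination -h1
    rcases mul_eq_zero.1 this with h | h
    · linear_combination h
    · exact absurd h hv
  exact mul_self_eq_one_iff.1 h2

theorem scomm_sign (hQ : Nondeg Q) [Nontrivial V] {x a : V ≃ₗ[K] V} (hx : x ∈ O Q) (ha : a ∈ O Q)
    (h : SComm x a) : (∀ v, a (x v) = x (a v)) ∨ ∀ v, a (x v) = -x (a v) := by
  obtain ⟨c, hc⟩ := h
  rcases scomm_sq hQ hx ha hc with rfl | rfl
  · left
    intro v
    rw [hc, one_smul]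
  · right
    intro v
    rw [hc, neg_smul, one_smul]

theorem scomm_two (hQ : Nondeg Q) [Nontrivial V] (h2 : (2 : K) = 0) {x a : V ≃ₗ[K] V} (hx : x ∈ O Q)
    (ha : a ∈ O Q) (h : SComm x a) (v : V) : a (x v) = x (a v) := by
  rcases scomm_sign hQ hx ha h with h | h
  · exact h v
  · rw [h, ← neg_one_smul K]
    have : (-1 : K) = 1 := by linear_combination -h2
    rw [this, one_smul]

/-- all pairs are conjugate, up to signs. -/
theorem key_sign (hQ : Nondeg Q) [Nontrivial V] {a b g : V ≃ₗ[K] V} (hab : PBad (E Q) a b)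
    (hg : g ∈ E Q) : ∃ x ∈ E Q, ((∀ v, a (x v) = x (a v)) ∨ ∀ v, a (x v) = -x (a v)) ∧
      ((∀ v, g (b (g⁻¹ (x v))) = x (b v)) ∨ ∀ v, g (b (g⁻¹ (x v))) = -x (b v)) := by
  obtain ⟨x, hx, ⟨c, hc0, hc⟩, d, hd0, hd⟩ := hab.key hg
  refine ⟨x, hx, scomm_sign hQ (E_le_O hx) (E_le_O hab.1) ⟨c, hc⟩, ?_⟩
  have hb' : g * b * g⁻¹ ∈ O Q :=
    (O Q).mul_mem ((O Q).mul_mem (E_le_O hg) (E_le_O hab.2.1)) ((O Q).inv_mem (E_le_O hg))
  have h1 : d = 1 ∨ d = -1 := by
    obtain ⟨v, hv⟩ := exists_nonsing' hQ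
    have h1 := congrArg Q (hd v)
    rw [QuadraticMap.map_smul, mem_O.1 (E_le_O hg), mem_O.1 (E_le_O hab.2.1),
      mem_O.1 ((O Q).inv_mem (E_le_O hg)), mem_O.1 (E_le_O hx), mem_O.1 (E_le_O hx),
      mem_O.1 (E_le_O hab.2.1), smul_eq_mul] at h1
    have h2 : d * d = 1 := by
      have : (d * d - 1) * Q v = 0 := by linear_combination -h1
      rcases mul_eq_zero.1 this with h | h
      · linear_combination h
      · exact absurd h hv
    exact mul_self_eq_one_iff.1 h2
  rcases h1 with rfl | rfl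
  · left
    intro v
    rw [hd, one_smul]
  · right
    intro v
    rw [hd, neg_smul, one_smul]

/-- all pairs are conjugate, in characteristic two. -/
theorem key_two (hQ : Nondeg Q) [Nontrivial V] (h2 : (2 : K) = 0) {a b g : V ≃ₗ[K] V}
    (hab : PBad (E Q) a b) (hg : g ∈ E Q) :
    ∃ x ∈ E Q, (∀ v, a (x v) = x (a v)) ∧ ∀ v, g (b (g⁻¹ (x v))) = x (b v) := by
  have h1 : ∀ w : V, -w = w := by
    intro w
    rw [← neg_one_smul K]
    have : (-1 : K) = 1 := by linear_combination -h2
    rw [this, one_smul]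
  obtain ⟨x, hx, h3, h4⟩ := key_sign hQ hab hg
  refine ⟨x, hx, fun v => ?_, fun v => ?_⟩
  · rcases h3 with h | h
    · exact h v
    · rw [h, h1]
  · rcases h4 with h | h
    · exact h v
    · rw [h, h1]

/-! ### Traces -/

/-- `v ↦ (u,v) y - (y,v) u`. -/
def Nm (Q : QuadraticForm K V) (u y : V) : Module.End K V :=
  (polarBilin Q u).smulRight y - (polarBilin Q y).smulRight u

theorem Nm_apply (u y v : V) : Nm Q u y v = polar Q u v • y - polar Q y v • u := by
  simp only [Nm, LinearMap.sub_apply, LinearMap.smulRight_apply, polarBilin_apply_apply]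

theorem siegel_eq_Nm {u y : V} (hu : Q u = 0) (huy : polar Q u y = 0) (hy : Q y = 0) :
    ((siegel Q u y hu huy : V ≃ₗ[K] V) : V →ₗ[K] V) = 1 + Nm Q u y := by
  ext v
  change siegel Q u y hu huy v = v + Nm Q u y v
  rw [siegel_apply, Nm_apply, hy]
  module

theorem siegel_inv_eq_Nm {u y : V} (hu : Q u = 0) (huy : polar Q u y = 0) (hy : Q y = 0) :
    (((siegel Q u y hu huy)⁻¹ : V ≃ₗ[K] V) : V →ₗ[K] V) = 1 - Nm Q u y := by
  ext v
  apply (siegel Q u y hu huy).injective
  have h1 : siegel Q u y hu huy ((siegel Q u y hu huy)⁻¹ v) = v := LinearEquiv.apply_symm_apply _ v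
  refine h1.trans ?_
  change v = siegel Q u y hu huy (v - Nm Q u y v)
  have huu : polar Q u u = 0 := polar_self_of_sing hu
  have hyy : polar Q y y = 0 := polar_self_of_sing hy
  have hyu : polar Q y u = 0 := by rw [polar_comm]; exact huy
  rw [siegel_apply, Nm_apply, hy]
  simp only [polar_sub_right, polar_smul_right, huu, hyy, hyu, huy]
  module

variable [FiniteDimensional K V]

theorem trace_mul_Nm (C : Module.End K V) (u y : V) :
    LinearMap.trace K V (C * Nm Q u y) = polar Q u (C y) - polar Q y (C u) := by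
  have e : C * Nm Q u y = (polarBilin Q u).smulRight (C y) - (polarBilin Q y).smulRight (C u) := by
    ext v
    simp only [Module.End.mul_apply, Nm_apply, LinearMap.sub_apply, LinearMap.smulRight_apply,
      polarBilin_apply_apply, map_sub, map_smul]
  rw [e, map_sub, LinearMap.trace_smulRight, LinearMap.trace_smulRight, polarBilin_apply_apply,
    polarBilin_apply_apply]

/-- the linear part -/
def Lf (Q : QuadraticForm K V) (A B : Module.End K V) (u y : V) : K :=
  polar Q u (B (A y)) - polar Q y (B (A u)) - (polar Q u (A (B y)) - polar Q y (A (B u)))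

/-- the quadratic part -/
def Phi (Q : QuadraticForm K V) (A B : Module.End K V) (u y : V) : K :=
  polar Q u (B y) * polar Q u (A y) - polar Q y (B y) * polar Q u (A u) -
    polar Q u (B u) * polar Q y (A y) + polar Q y (B u) * polar Q y (A u)

theorem trace_conj_Nm (A B : Module.End K V) (u y : V) :
    LinearMap.trace K V (A * ((1 + Nm Q u y) * B * (1 - Nm Q u y))) =
      LinearMap.trace K V (A * B) + Lf Q A B u y - Phi Q A B u y := by
  have e : A * ((1 + Nm Q u y) * B * (1 - Nm Q u y)) =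
      A * B + A * (Nm Q u y * B) - A * B * Nm Q u y - A * Nm Q u y * B * Nm Q u y := by
    noncomm_ring
  have e2 : LinearMap.trace K V (A * (Nm Q u y * B)) = LinearMap.trace K V (B * A * Nm Q u y) := by
    rw [← mul_assoc, LinearMap.trace_mul_comm, mul_assoc]
  rw [e, map_sub, map_sub, map_add, e2, trace_mul_Nm, trace_mul_Nm, trace_mul_Nm, Lf, Phi]
  simp only [Module.End.mul_apply, Nm_apply, map_sub, map_smul, polar_sub_right, polar_smul_right,
    smul_eq_mul]
  ring

/-- the trace of a linear automorphism -/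
noncomputable def tr (g : V ≃ₗ[K] V) : K := LinearMap.trace K V (g : V →ₗ[K] V)

omit [FiniteDimensional K V] in
theorem tr_conj (x g : V ≃ₗ[K] V) : tr (x * g * x⁻¹) = tr g := by
  unfold tr
  exact LinearMap.trace_conj' (g : V →ₗ[K] V) x

omit [FiniteDimensional K V] in
theorem tr_of_neg {g h : V ≃ₗ[K] V} (e : ∀ v, g v = -h v) : tr g = -tr h := by
  unfold tr
  rw [← map_neg]
  congr 1
  ext v
  exact e v

omit [FiniteDimensional K V] in
/-- the trace of `a b^g` is constant up to sign. -/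
theorem trace_pm (hQ : Nondeg Q) [Nontrivial V] {a b g : V ≃ₗ[K] V} (hab : PBad (E Q) a b)
    (hg : g ∈ E Q) : tr (a * (g * b * g⁻¹)) = tr (a * b) ∨ tr (a * (g * b * g⁻¹)) = -tr (a * b) := by
  obtain ⟨x, hx, h1, h2⟩ := key_sign hQ hab hg
  have h3 : (∀ v, (x⁻¹ * (a * (g * b * g⁻¹)) * x⁻¹⁻¹) v = (a * b) v) ∨
      ∀ v, (x⁻¹ * (a * (g * b * g⁻¹)) * x⁻¹⁻¹) v = -(a * b) v := by
    have h5 : ∀ w, x⁻¹ (x w) = w := fun w => x.symm_apply_apply w
    rcases h1 with h1 | h1 <;> rcases h2 with h2 | h2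
    · left
      intro v
      rw [inv_inv]
      change x⁻¹ (a (g (b (g⁻¹ (x v))))) = a (b v)
      rw [h2, h1, h5]
    · right
      intro v
      rw [inv_inv]
      change x⁻¹ (a (g (b (g⁻¹ (x v))))) = -a (b v)
      rw [h2, map_neg, h1, map_neg, h5]
    · right
      intro v
      rw [inv_inv]
      change x⁻¹ (a (g (b (g⁻¹ (x v))))) = -a (b v)
      rw [h2, h1, map_neg, h5]
    · left
      intro v
      rw [inv_inv]
      change x⁻¹ (a (g (b (g⁻¹ (x v))))) = a (b v)
      rw [h2, map_neg, h1, neg_neg, h5]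
  rcases h3 with h3 | h3
  · left
    rw [← tr_conj x⁻¹ (a * (g * b * g⁻¹))]
    congr 1
    exact LinearEquiv.ext h3
  · right
    rw [← tr_conj x⁻¹ (a * (g * b * g⁻¹))]
    exact tr_of_neg h3

omit [FiniteDimensional K V] in
theorem trace_two (hQ : Nondeg Q) [Nontrivial V] (h2 : (2 : K) = 0) {a b g : V ≃ₗ[K] V}
    (hab : PBad (E Q) a b) (hg : g ∈ E Q) : tr (a * (g * b * g⁻¹)) = tr (a * b) := by
  rcases trace_pm hQ hab hg with h | h
  · exact h
  · rw [h]
    linear_combination -(tr (a * b)) * h2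

/-- the trace along a root element -/
theorem tr_siegel (a b : V ≃ₗ[K] V) {u y : V} (hu : Q u = 0) (huy : polar Q u y = 0) (hy : Q y = 0) :
    tr (a * (siegel Q u y hu huy * b * (siegel Q u y hu huy)⁻¹)) =
      tr (a * b) + Lf Q (a : V →ₗ[K] V) (b : V →ₗ[K] V) u y -
        Phi Q (a : V →ₗ[K] V) (b : V →ₗ[K] V) u y := by
  have h1 := trace_conj_Nm (Q := Q) (a : V →ₗ[K] V) (b : V →ₗ[K] V) u y
  rw [← siegel_eq_Nm hu huy hy, ← siegel_inv_eq_Nm hu huy hy] at h1
  exact h1

omit [FiniteDimensional K V] in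
theorem Lf_add (A B : Module.End K V) (u y z : V) :
    Lf Q A B u (y + z) = Lf Q A B u y + Lf Q A B u z := by
  simp only [Lf, map_add, polar_add_left, polar_add_right]
  ring

omit [FiniteDimensional K V] in
theorem Lf_smul (A B : Module.End K V) (u y : V) (c : K) :
    Lf Q A B u (c • y) = c * Lf Q A B u y := by
  simp only [Lf, map_smul, polar_smul_left, polar_smul_right, smul_eq_mul]
  ring

omit [FiniteDimensional K V] in
theorem Phi_smul (A B : Module.End K V) (u y : V) (c : K) :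
    Phi Q A B u (c • y) = c ^ 2 * Phi Q A B u y := by
  simp only [Phi, map_smul, polar_smul_left, polar_smul_right, smul_eq_mul]
  ring

end Cfsg.Agent.H105.SzO
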