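import Mathlib
import Cfsg.Agent.H105.SzO2

/-!
# Products of two centralizers in orthogonal groups, part 3: the trace identity in even characteristic
-/

set_option autoImplicit false

namespace Cfsg.Agent.H105.SzO

open Module QuadraticMap Cfsg.Agent.LieClassical.OrthCore Cfsg.Agent.LieClassical.OrthTrans
open Cfsg.Agent.LieClassical.OrthFinite Cfsg.Agent.H955 Cfsg.Agent.H105.Sz

universe u v w

section Scalars

variable {K : Type u} [Field K] [Finite K] {V : Type v} [AddCommGroup V] [Module K V]
  {Q : QuadraticForm K V} [FiniteDimensional K V]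

omit [Finite K] [FiniteDimensional K V] in
theorem indep_of_not {u y : V} (h0 : u ≠ 0) (hy : ∀ c : K, y ≠ c • u) :
    LinearIndependent K ![u, y] := by
  rw [LinearIndependent.pair_iff]
  intro s t hst
  have ht : t = 0 := by
    by_contra ht
    apply hy (-(t⁻¹ * s))
    have : t⁻¹ • (s • u + t • y) = 0 := by rw [hst, smul_zero]
    rw [smul_add, smul_smul, smul_smul, inv_mul_cancel₀ ht, one_smul] at this
    rw [neg_smul]
    exact (eq_neg_of_add_eq_zero_right this)
  rw [ht, zero_smul, add_zero, smul_eq_zero] at hst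
  exact ⟨hst.resolve_right h0, ht⟩

omit [FiniteDimensional K V] in
theorem top_le_span_sing (hQ : Nondeg Q) (hd : 5 ≤ finrank K V) :
    (⊤ : Submodule K V) ≤ Submodule.span K {v | Q v = 0} := by
  have hG := good_of_finite hQ hd
  obtain ⟨x, y, h⟩ := hG.exists_hyp
  have := le_span_sing (W := ⊤) h trivial trivial
  exact this.trans (Submodule.span_mono fun v hv => hv.2)

omit [FiniteDimensional K V] in
/-- a linear map preserving all singular points is a scalar. -/
theorem scalar_of_sing (hQ : Nondeg Q) (hd : 5 ≤ finrank K V) {T : V →ₗ[K] V}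
    (hT : ∀ u, Q u = 0 → ∃ c : K, T u = c • u) : ∃ c : K, ∀ v, T v = c • v := by
  have hG := good_of_finite hQ hd
  obtain ⟨x, y, hxy⟩ := hG.exists_hyp
  obtain ⟨c, hc⟩ := hT x hxy.left
  have hx0 : x ≠ 0 := hxy.left_ne
  -- orthogonal singular vectors have the same eigenvalue
  have h1 : ∀ p r : V, Q p = 0 → Q r = 0 → polar Q p r = 0 → p ≠ 0 → (∀ c : K, r ≠ c • p) →
      ∀ d : K, T p = d • p → T r = d • r := by
    intro p r hp hr hpr hp0 hind d hd
    obtain ⟨e, he⟩ := hT r hr
    obtain ⟨f, hf⟩ := hT (p + r) (by rw [Q_add, hp, hr, hpr]; ring)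
    have hi := indep_of_not hp0 hind
    rw [LinearIndependent.pair_iff] at hi
    have h2 := hi (d - f) (e - f) (by
      have : T (p + r) = d • p + e • r := by rw [map_add, hd, he]
      rw [hf, smul_add] at this
      rw [sub_smul, sub_smul]
      have h3 : d • p - f • p + (e • r - f • r) = (d • p + e • r) - (f • p + f • r) := by abel
      rw [h3, ← this, sub_self])
    rw [he]
    congr 1
    linear_combination h2.2 - h2.1
  refine ⟨c, fun v => ?_⟩
  have h2 : v ∈ Submodule.span K {v | Q v = 0} := top_le_span_sing hQ hd trivial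
  induction h2 using Submodule.span_induction with
  | mem w hw =>
    have hw : Q w = 0 := hw
    by_cases hw0 : w = 0
    · rw [hw0, map_zero, smul_zero]
    -- a common neighbour
    obtain ⟨z, hz0, hz, h⟩ := exists_sing_perp (Q := Q) ![x, w] (by omega)
    have hxz : polar Q x z = 0 := h 0
    have hwz : polar Q w z = 0 := h 1
    by_cases hzx : ∃ d : K, z = d • x
    · obtain ⟨d, rfl⟩ := hzx
      have hd0 : d ≠ 0 := by
        rintro rfl
        exact hz0 (zero_smul K x)
      have hwx : polar Q w x = 0 := by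
        rw [polar_smul_right, smul_eq_mul, mul_eq_zero] at hwz
        exact hwz.resolve_left hd0
      by_cases hwx' : ∃ d : K, w = d • x
      · obtain ⟨d, rfl⟩ := hwx'
        rw [map_smul, hc, smul_comm]
      · push Not at hwx'
        exact h1 x w hxy.left hw (by rw [polar_comm]; exact hwx) hx0 hwx' c hc
    · push Not at hzx
      have h3 := h1 x z hxy.left hz hxz hx0 hzx c hc
      by_cases hwz' : ∃ d : K, w = d • z
      · obtain ⟨d, rfl⟩ := hwz'
        rw [map_smul, h3, smul_comm]
      · push Not at hwz'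
        exact h1 z w hz hw (by rw [polar_comm]; exact hwz) hz0 hwz' c h3
  | zero => rw [map_zero, smul_zero]
  | add p r _ _ hp hr => rw [map_add, hp, hr, smul_add]
  | smul d p _ hp => rw [map_smul, hp, smul_comm]

omit [FiniteDimensional K V] in
/-- a nonscalar isometry moves some singular point. -/
theorem exists_moved (hQ : Nondeg Q) (hd : 5 ≤ finrank K V) {a : V ≃ₗ[K] V} (ha : ¬ Scalar a) :
    ∃ u, Q u = 0 ∧ u ≠ 0 ∧ ∀ c : K, a u ≠ c • u := by
  by_contra hcon
  push Not at hcon
  apply ha
  exact scalar_of_sing hQ hd (T := (a : V →ₗ[K] V)) (fun u hu => by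
    by_cases h0 : u = 0
    · exact ⟨0, by rw [h0, map_zero, smul_zero]⟩
    · exact hcon u hu h0)

omit [Finite K] [FiniteDimensional K V] in
theorem polar_inv {a : V ≃ₗ[K] V} (ha : a ∈ O Q) (x y : V) :
    polar Q (a⁻¹ x) y = polar Q x (a y) := by
  have h := polar_map ha (a⁻¹ x) y
  have h1 : a (a⁻¹ x) = x := a.apply_symm_apply x
  rw [h1] at h
  exact h.symm

omit [FiniteDimensional K V] in
/-- if the polar form of `(av, v)` vanishes on totally singular pairs and `(au,u)` is killed by `2`
on singular vectors, `a + a⁻¹` is a scalar. -/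
theorem add_inv_scalar (hQ : Nondeg Q) (hd : 5 ≤ finrank K V) {a : V ≃ₗ[K] V} (ha : a ∈ O Q)
    (h2 : ∀ u, Q u = 0 → 2 * polar Q (a u) u = 0)
    (h : ∀ u y, Q u = 0 → Q y = 0 → polar Q u y = 0 → LinearIndependent K ![u, y] →
      polar Q u (a y) + polar Q y (a u) = 0) : ∃ c : K, ∀ v, a v + a⁻¹ v = c • v := by
  have key := scalar_of_sing hQ hd (T := (a : V →ₗ[K] V) + ((a⁻¹ : V ≃ₗ[K] V) : V →ₗ[K] V)) (by
    intro u hu
    by_cases h0 : u = 0
    · exact ⟨0, by rw [h0, map_zero, smul_zero]⟩
    by_contra hcon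
    push Not at hcon
    obtain ⟨y, hy, huy, hxy⟩ := exists_sing_sep hQ hd hu h0 hcon
    have e : ∀ y, polar Q (((a : V →ₗ[K] V) + ((a⁻¹ : V ≃ₗ[K] V) : V →ₗ[K] V)) u) y =
        polar Q u (a y) + polar Q y (a u) := by
      intro y
      change polar Q (a u + a⁻¹ u) y = _
      rw [polar_add_left, polar_inv ha, polar_comm Q (a u) y, add_comm]
    apply hxy
    by_cases hind : ∃ c : K, y = c • u
    · obtain ⟨c, rfl⟩ := hind
      rw [polar_smul_right, e u]
      have := h2 u hu
      have h3 : polar Q u (a u) + polar Q u (a u) = 0 := by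
        rw [polar_comm Q u (a u)]
        linear_combination this
      rw [h3, smul_zero]
    · push Not at hind
      rw [e]
      exact h u y hu hy huy (indep_of_not h0 hind))
  obtain ⟨c, hc⟩ := key
  exact ⟨c, hc⟩

end Scalars

section Even

variable {K : Type u} [Field K] [Finite K] {V : Type v} [AddCommGroup V] [Module K V]
  {Q : QuadraticForm K V} [FiniteDimensional K V]

/-- the polarized trace identity -/
theorem star (hQ : Nondeg Q) (hd : 8 ≤ finrank K V) (h2 : (2 : K) = 0) {a b : V ≃ₗ[K] V}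
    (hab : PBad (E Q) a b) {u y z u' y' z' : V} (hu : Q u = 0)
    (hy : Q y = 0) (hz : Q z = 0) (huy : polar Q u y = 0) (huz : polar Q u z = 0)
    (hyz : polar Q y z = 0) (hi : LinearIndependent K ![u, y, z]) (hu' : Q u' = 0)
    (hy' : Q y' = 0) (hz' : Q z' = 0) (huy' : polar Q u' y' = 0) (huz' : polar Q u' z' = 0)
    (hyz' : polar Q y' z' = 0) (hi' : LinearIndependent K ![u', y', z']) :
    polar Q u' (b y') * polar Q u (a z) + polar Q u' (b z') * polar Q u (a y) +
      (polar Q y' (b z') + polar Q z' (b y')) * polar Q u (a u) +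
      polar Q u' (b u') * (polar Q y (a z) + polar Q z (a y)) +
      polar Q y' (b u') * polar Q z (a u) + polar Q z' (b u') * polar Q y (a u) = 0 := by
  have hne : Nontrivial V := Module.nontrivial_of_finrank_pos (R := K) (by omega)
  obtain ⟨g, hg, hgu, hgy, hgz⟩ := trans_triple hQ hd hu' hy' hz' huy' huz' hyz' hi' hu hy hz huy huz
    hyz hi
  have key : ∀ x, Q x = 0 → polar Q u x = 0 →
      Lf Q (a : V →ₗ[K] V) ((g * b * g⁻¹ : V ≃ₗ[K] V) : V →ₗ[K] V) u x =
        Phi Q (a : V →ₗ[K] V) ((g * b * g⁻¹ : V ≃ₗ[K] V) : V →ₗ[K] V) u x := by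
    intro x hx hux
    have h3 := trace_two hQ h2 hab hg
    have h4 := trace_two hQ h2 hab (g := siegel Q u x hu hux * g)
      ((E Q).mul_mem (siegel_mem_E hu hux) hg)
    have h5 : siegel Q u x hu hux * g * b * (siegel Q u x hu hux * g)⁻¹ =
        siegel Q u x hu hux * (g * b * g⁻¹) * (siegel Q u x hu hux)⁻¹ := by group
    rw [h5, tr_siegel a (g * b * g⁻¹) hu hux hx, h3] at h4
    linear_combination h4
  have e1 := key y hy huy
  have e2 := key z hz huz
  have e3 := key (y + z) (by rw [Q_add, hy, hz, hyz]; ring) (by rw [polar_add_right, huy, huz, add_zero])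
  rw [Lf_add, e1, e2] at e3
  have hB : ∀ p r p' r' : V, g p' = p → g r' = r →
      polar Q p (((g * b * g⁻¹ : V ≃ₗ[K] V) : V →ₗ[K] V) r) = polar Q p' (b r') := by
    rintro _ _ p' r' rfl rfl
    change polar Q (g p') (g (b (g⁻¹ (g r')))) = _
    have h5 : g⁻¹ (g r') = r' := g.symm_apply_apply r'
    rw [h5, polar_map (E_le_O hg)]
  have hA : ∀ p r : V, polar Q p ((a : V →ₗ[K] V) r) = polar Q p (a r) := fun _ _ => rfl
  simp only [Phi, map_add, polar_add_left, polar_add_right] at e3
  simp only [hA] at e3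
  rw [hB u u u' u' hgu hgu, hB u y u' y' hgu hgy, hB u z u' z' hgu hgz, hB y y y' y' hgy hgy,
    hB y z y' z' hgy hgz, hB z y z' y' hgz hgy, hB z z z' z' hgz hgz, hB y u y' u' hgy hgu,
    hB z u z' u' hgz hgu] at e3
  linear_combination -e3 + ((polar Q y' (b z') + polar Q z' (b y')) * polar Q u (a u) +
      polar Q u' (b u') * (polar Q y (a z) + polar Q z (a y))) * h2

omit [Finite K] [FiniteDimensional K V] in
theorem indep3_add {u y z : V} (hi : LinearIndependent K ![u, y, z]) :
    LinearIndependent K ![u, y + u, z] := by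
  rw [Fintype.linearIndependent_iff] at hi ⊢
  intro g hg
  rw [Fin.sum_univ_three] at hg
  have h1 := hi ![g 0 + g 1, g 1, g 2] (by
    rw [Fin.sum_univ_three]
    change (g 0 + g 1) • u + g 1 • y + g 2 • z = 0
    rw [← hg]
    change _ = g 0 • u + g 1 • (y + u) + g 2 • z
    module)
  have h10 : g 0 + g 1 = 0 := h1 0
  have h11 : g 1 = 0 := h1 1
  have h12 : g 2 = 0 := h1 2
  intro i
  fin_cases i
  · rw [h11, add_zero] at h10
    exact h10
  · exact h11
  · exact h12

omit [Finite K] [FiniteDimensional K V] in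
theorem indep_fst {u y z : V} (hi : LinearIndependent K ![u, y, z]) : LinearIndependent K ![u, y] := by
  rw [Fintype.linearIndependent_iff] at hi
  rw [LinearIndependent.pair_iff]
  intro s t hst
  have h1 := hi ![s, t, 0] (by
    rw [Fin.sum_univ_three]
    change s • u + t • y + (0 : K) • z = 0
    rw [hst, zero_smul, add_zero])
  exact ⟨h1 0, h1 1⟩

omit [Finite K] [FiniteDimensional K V] in
theorem indep_swap {u y z : V} (hi : LinearIndependent K ![u, y, z]) :
    LinearIndependent K ![u, z, y] := by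
  rw [Fintype.linearIndependent_iff] at hi ⊢
  intro g hg
  rw [Fin.sum_univ_three] at hg
  have h1 := hi ![g 0, g 2, g 1] (by
    rw [Fin.sum_univ_three]
    change g 0 • u + g 2 • y + g 1 • z = 0
    rw [← hg]
    change _ = g 0 • u + g 1 • z + g 2 • y
    module)
  have h10 : g 0 = 0 := h1 0
  have h11 : g 2 = 0 := h1 1
  have h12 : g 1 = 0 := h1 2
  intro i
  fin_cases i
  · exact h10
  · exact h12
  · exact h11

theorem lem_one (hQ : Nondeg Q) (hd : 8 ≤ finrank K V) (h2 : (2 : K) = 0) {a b : V ≃ₗ[K] V}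
    (hab : PBad (E Q) a b) {u z u' z' : V} (hu : Q u = 0) (hz : Q z = 0)
    (huz : polar Q u z = 0) (hi : LinearIndependent K ![u, z]) (hu' : Q u' = 0)
    (hz' : Q z' = 0) (huz' : polar Q u' z' = 0) (hi' : LinearIndependent K ![u', z']) :
    polar Q u' (b u') * (polar Q u (a z) + polar Q z (a u)) =
      polar Q u (a u) * (polar Q u' (b z') + polar Q z' (b u')) := by
  obtain ⟨y, hy, huy, hzy, hi3⟩ := exists_third (Q := Q) (by omega) hi
  obtain ⟨y', hy', huy', hzy', hi3'⟩ := exists_third (Q := Q) (by omega) hi'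
  have hyz : polar Q y z = 0 := by rw [polar_comm]; exact hzy
  have hyz' : polar Q y' z' = 0 := by rw [polar_comm]; exact hzy'
  have huu' : polar Q u' u' = 0 := polar_self_of_sing hu'
  have e1 := star hQ hd h2 hab hu hy hz huy huz hyz (indep_swap hi3) hu' hy' hz' huy' huz' hyz'
    (indep_swap hi3')
  have e2 := star hQ hd h2 hab hu hy hz huy huz hyz (indep_swap hi3) hu'
    (y' := y' + u') (by rw [Q_add, hy', hu', polar_comm, huy']; ring) hz'
    (by rw [polar_add_right, huy', huu', add_zero]) huz'
    (by rw [polar_add_left, hyz', huz', add_zero]) (indep3_add (indep_swap hi3'))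
  simp only [map_add, polar_add_left, polar_add_right] at e2
  linear_combination e2 - e1 - (polar Q u (a u) * (polar Q u' (b z') + polar Q z' (b u'))) * h2

theorem lem_two (hQ : Nondeg Q) (hd : 8 ≤ finrank K V) (h2 : (2 : K) = 0) {a b : V ≃ₗ[K] V}
    (hab : PBad (E Q) a b) {u : V} (hu : Q u = 0) (h0 : u ≠ 0) (hau : polar Q u (a u) ≠ 0)
    {u' z' : V} (hu' : Q u' = 0)
    (hz' : Q z' = 0) (huz' : polar Q u' z' = 0) (hi' : LinearIndependent K ![u', z']) :
    polar Q u' (b z') + polar Q z' (b u') = 0 := by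
  -- a partner of `u`
  obtain ⟨z, hzm, hz, h⟩ := exists_sing_notMem (Q := Q) ![u] (Submodule.span K {u})
    (by rw [finrank_span_singleton h0]; omega)
  have huz : polar Q u z = 0 := h 0
  have hi : LinearIndependent K ![u, z] := indep_of_not h0 (fun c hc => hzm
    (Submodule.mem_span_singleton.2 ⟨c, hc.symm⟩))
  obtain ⟨y', hy', huy', hzy', hi3'⟩ := exists_third (Q := Q) (by omega) hi'
  have hi4 : LinearIndependent K ![u', y'] := indep_fst (indep_swap hi3')
  have hi5 : LinearIndependent K ![u', z' + y'] := by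
    rw [Fintype.linearIndependent_iff] at hi3'
    rw [LinearIndependent.pair_iff]
    intro s t hst
    have h1 := hi3' ![s, t, t] (by
      rw [Fin.sum_univ_three]
      change s • u' + t • z' + t • y' = 0
      rw [← hst]
      module)
    exact ⟨h1 0, h1 1⟩
  have e1 := lem_one hQ hd h2 hab hu hz huz hi hu' hz' huz' hi'
  have e2 := lem_one hQ hd h2 hab hu hz huz hi hu' hy' huy' hi4
  have e3 := lem_one hQ hd h2 hab hu hz huz hi hu' (z' := z' + y')
    (by rw [Q_add, hz', hy', hzy']; ring) (by rw [polar_add_right, huz', huy', add_zero]) hi5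
  simp only [map_add, polar_add_left, polar_add_right] at e3
  have e4 : polar Q u (a u) * (polar Q u' (b z') + polar Q z' (b u')) = 0 := by
    linear_combination -e3 + e2
  exact (mul_eq_zero.1 e4).resolve_left hau

/-- the symmetrization of `b` vanishes on totally singular pairs. -/
theorem sym_zero (hQ : Nondeg Q) (hd : 8 ≤ finrank K V) (h2 : (2 : K) = 0) {a b : V ≃ₗ[K] V}
    (hab : PBad (E Q) a b) (ha : ¬ Scalar a) {u' y' : V} (hu' : Q u' = 0)
    (hy' : Q y' = 0) (huy' : polar Q u' y' = 0) (hi' : LinearIndependent K ![u', y']) :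
    polar Q u' (b y') + polar Q y' (b u') = 0 := by
  by_cases hau : ∃ u, Q u = 0 ∧ polar Q u (a u) ≠ 0
  · obtain ⟨u, hu, hau⟩ := hau
    have h0 : u ≠ 0 := by
      rintro rfl
      exact hau (polar_zero_left Q _)
    exact lem_two hQ hd h2 hab hu h0 hau hu' hy' huy' hi'
  push Not at hau
  obtain ⟨u, hu, h0, hmv⟩ := exists_moved hQ (by omega) ha
  obtain ⟨y, z, hy, hz, huy, huz, hyz, hi, hne, hze⟩ := exists_triple_sep hQ (by omega) hu h0 (hau u hu) hmv
  obtain ⟨z', hz', huz', hyz', hi3'⟩ := exists_third (Q := Q) (by omega) hi'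
  have e1 := star hQ hd h2 hab hu hz hy huz huy (by rw [polar_comm]; exact hyz) (indep_swap hi) hu' hy'
    hz' huy' huz' hyz' hi3'
  have s1 : ∀ p r : V, Q p = 0 → Q r = 0 → polar Q p r = 0 →
      polar Q p (a r) + polar Q r (a p) = 0 := by
    intro p r hp hr hpr
    have h3 := hau (p + r) (by rw [Q_add, hp, hr, hpr]; ring)
    rw [map_add, polar_add_left, polar_add_right, polar_add_right, hau p hp, hau r hr] at h3
    linear_combination h3
  have h4 := s1 u y hu hy huy
  have h5 := s1 u z hu hz huz
  have h6 := s1 z y hz hy (by rw [polar_comm]; exact hyz)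
  have h7 : polar Q z (a u) = 0 := by rw [polar_comm]; exact hze
  have h8 : polar Q u (a z) = 0 := by linear_combination h5 - h7
  have h9 : polar Q y (a u) ≠ 0 := by rw [polar_comm]; exact hne
  rw [hau u hu, h6, h7, h8] at e1
  have e2 : polar Q y (a u) * (polar Q u' (b y') + polar Q y' (b u')) = 0 := by
    linear_combination e1 - polar Q u' (b y') * h4 + polar Q u' (b y') * polar Q y (a u) * h2
  exact (mul_eq_zero.1 e2).resolve_left h9

omit [Finite K] in
/-- functionals are given by the polar form. -/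
theorem exists_rep (hQ : Nondeg Q) (f : V →ₗ[K] K) : ∃ e, ∀ v, f v = polar Q v e := by
  have h1 : Function.Surjective (polarBilin Q : V →ₗ[K] (V →ₗ[K] K)) := by
    have hinj : Function.Injective (polarBilin Q : V →ₗ[K] (V →ₗ[K] K)) := by
      rw [← LinearMap.ker_eq_bot, Submodule.eq_bot_iff]
      intro x hx
      exact hQ x (fun y => by
        have : (polarBilin Q x) y = 0 := by rw [LinearMap.mem_ker.1 hx]; rfl
        exact this)
    exact (LinearMap.injective_iff_surjective_of_finrank_eq_finrank
      (Subspace.dual_finrank_eq (K := K) (V := V)).symm).1 hinj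
  obtain ⟨e, he⟩ := h1 f
  refine ⟨e, fun v => ?_⟩
  rw [← he, polar_comm]
  rfl

/-- **E1.** -/
theorem e1 (hQ : Nondeg Q) (hd : 8 ≤ finrank K V) [CharP K 2] {a b : V ≃ₗ[K] V}
    (hab : PBad (E Q) a b) (hb : ¬ Scalar b) : ∃ (c : K) (e : V), (∀ v, a v + a⁻¹ v = c • v) ∧
      ∀ v, polar Q (a v) v = c * Q v + (polar Q v e) ^ 2 := by
  have hne : Nontrivial V := Module.nontrivial_of_finrank_pos (R := K) (by omega)
  have h2 : (2 : K) = 0 := CharTwo.two_eq_zero
  have haO := E_le_O hab.1
  obtain ⟨c, hc⟩ := add_inv_scalar hQ (by omega) haO (fun u _ => by rw [h2, zero_mul])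
    (fun u y hu hy huy hi => sym_zero hQ hd h2 hab.symm hb hu hy huy hi)
  let β : V → K := fun v => polar Q (a v) v + c * Q v
  have hadd : ∀ v w, β (v + w) = β v + β w := by
    intro v w
    have h3 : polar Q (a v) w + polar Q (a w) v = c * polar Q v w := by
      have h4 : polar Q (a v + a⁻¹ v) w = c * polar Q v w := by rw [hc, polar_smul_left, smul_eq_mul]
      rw [polar_add_left, polar_inv haO, polar_comm Q v (a w)] at h4
      exact h4
    simp only [β, map_add, polar_add_left, polar_add_right, Q_add]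
    linear_combination h3 + c * polar Q v w * h2
  have hsmul : ∀ (l : K) (v), β (l • v) = l ^ 2 * β v := by
    intro l v
    simp only [β, map_smul, polar_smul_left, polar_smul_right, QuadraticMap.map_smul, smul_eq_mul]
    ring
  let φ : K ≃+* K := frobeniusEquiv K 2
  let f : V →ₗ[K] K :=
    { toFun := fun v => φ.symm (β v)
      map_add' := fun v w => by rw [hadd, map_add]
      map_smul' := fun l v => by
        rw [hsmul, map_mul, RingHom.id_apply, smul_eq_mul]
        congr 1
        rw [RingEquiv.symm_apply_eq]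
        rfl }
  obtain ⟨e, he⟩ := exists_rep hQ f
  refine ⟨c, e, hc, fun v => ?_⟩
  have h3 : (polar Q v e) ^ 2 = β v := by
    rw [← he]
    change (φ.symm (β v)) ^ 2 = β v
    exact φ.apply_symm_apply (β v)
  rw [h3]
  simp only [β]
  linear_combination (-c * Q v) * h2

end Even

end Cfsg.Agent.H105.SzO
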