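import Mathlib
import Cfsg.Agent.H105.SzO3

/-!
# Products of two centralizers in orthogonal groups, part 4: odd characteristic, reduction and the
trace identities
-/

set_option autoImplicit false

namespace Cfsg.Agent.H105.SzO

open Module QuadraticMap Cfsg.Agent.LieClassical.OrthCore Cfsg.Agent.LieClassical.OrthTrans
open Cfsg.Agent.LieClassical.OrthFinite Cfsg.Agent.H955 Cfsg.Agent.H105.Sz

universe u v w

section Pow

variable {K : Type u} [Field K] {V : Type v} [AddCommGroup V] [Module K V]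

theorem pow_comm_scalar {a x : V ≃ₗ[K] V} {c : K} (h : ∀ v, a (x v) = c • x (a v)) (k : ℕ) (v : V) :
    (a ^ k) (x v) = c ^ k • x ((a ^ k) v) := by
  induction k generalizing v with
  | zero => rw [pow_zero, pow_zero, one_smul]; rfl
  | succ k ih =>
    rw [pow_succ', pow_succ']
    change a ((a ^ k) (x v)) = (c * c ^ k) • x (a ((a ^ k) v))
    rw [ih, map_smul, h, smul_smul, mul_comm]

theorem pbad_pow_left {S : Subgroup (V ≃ₗ[K] V)} {a b : V ≃ₗ[K] V} (h : PBad S a b) (k : ℕ) :
    PBad S (a ^ k) b := by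
  refine ⟨S.pow_mem h.1 k, h.2.1, fun g hg => ?_⟩
  obtain ⟨x, hx, y, hy, hxy, ⟨c, hc⟩, h2⟩ := h.2.2 g hg
  exact ⟨x, hx, y, hy, hxy, ⟨c ^ k, pow_comm_scalar hc k⟩, h2⟩

theorem pbad_pow_right [Nontrivial V] {S : Subgroup (V ≃ₗ[K] V)} {a b : V ≃ₗ[K] V} (h : PBad S a b) (k : ℕ) :
    PBad S a (b ^ k) := (pbad_pow_left h.symm k).symm

end Pow

section Odd

variable {K : Type u} [Field K] {V : Type v} [AddCommGroup V] [Module K V]
  {Q : QuadraticForm K V}

/-- no element of `Ω` conjugates `a` to `-a`. -/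
def NS (Q : QuadraticForm K V) (a : V ≃ₗ[K] V) : Prop :=
  ∀ x ∈ E Q, ¬ ∀ v, a (x v) = -x (a v)

theorem exists_red (hQ : Nondeg Q) [Nontrivial V] [Finite K] [FiniteDimensional K V] (h2 : (2 : K) ≠ 0)
    {a : V ≃ₗ[K] V} (ha : a ∈ E Q) (hna : ¬ Scalar a) :
    ∃ k, ¬ Scalar (a ^ k) ∧ (NS Q (a ^ k) ∨ a ^ k * a ^ k = 1 ∨ ∀ v, (a ^ k) ((a ^ k) v) = -v) := by
  have hfV : Finite V := Module.finite_of_finite K
  have hfin : Finite (V ≃ₗ[K] V) := DFunLike.finite _
  classical
  have hex : ∃ n, 0 < n ∧ Scalar (a ^ n) := by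
    refine ⟨orderOf a, orderOf_pos a, 1, fun v => ?_⟩
    rw [pow_orderOf_eq_one, one_smul]
    rfl
  obtain ⟨hn0, hns⟩ := Nat.find_spec hex
  set n := Nat.find hex with hn
  have hn1 : n ≠ 1 := by
    intro h
    rw [h, pow_one] at hns
    exact hna hns
  have hp := Nat.minFac_prime hn1
  set r := n.minFac with hr
  obtain ⟨m, hm⟩ := Nat.minFac_dvd n
  rw [← hr] at hm
  have hm0 : 0 < m := by
    rcases Nat.eq_zero_or_pos m with h | h
    · rw [h, mul_zero] at hm
      omega
    · exact h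
  have hmn : m < n := by
    rw [hm]
    exact lt_mul_of_one_lt_left hm0 hp.one_lt
  have hms : ¬ Scalar (a ^ m) := by
    intro h
    exact Nat.find_min hex hmn ⟨hm0, h⟩
  obtain ⟨c, hc⟩ := hns
  have hc1 : c = 1 ∨ c = -1 := by
    have hanO : a ^ n ∈ O Q := (O Q).pow_mem (E_le_O ha) n
    obtain ⟨v, hv⟩ := exists_nonsing' hQ
    have h1 := congrArg Q (hc v)
    rw [QuadraticMap.map_smul, mem_O.1 hanO, smul_eq_mul] at h1
    have h3 : c * c = 1 := by
      have : (c * c - 1) * Q v = 0 := by linear_combination -h1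
      rcases mul_eq_zero.1 this with h | h
      · linear_combination h
      · exact absurd h hv
    exact mul_self_eq_one_iff.1 h3
  refine ⟨m, hms, ?_⟩
  rcases hp.eq_two_or_odd' with h | h
  · right
    have e : a ^ m * a ^ m = a ^ n := by
      rw [← pow_add, hm, h, two_mul]
    rcases hc1 with rfl | rfl
    · left
      rw [e]
      exact LinearEquiv.ext fun v => by rw [hc, one_smul]; rfl
    · right
      intro v
      change (a ^ m * a ^ m) v = -v
      rw [e, hc, neg_smul, one_smul]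
  · left
    intro x hx hneg
    have h3 := pow_comm_scalar (c := -1) (a := a ^ m) (x := x) (fun v => by rw [hneg, neg_smul, one_smul]) r
    have e : (a ^ m) ^ r = a ^ n := by rw [← pow_mul, hm, mul_comm]
    rw [e, h.neg_one_pow] at h3
    obtain ⟨v, hv⟩ := exists_ne (0 : V)
    have h4 := h3 v
    rw [hc, hc, map_smul, neg_smul, one_smul] at h4
    have h5 : (2 * c) • x v = 0 := by
      rw [mul_smul, two_smul]
      nth_rewrite 1 [h4]
      exact neg_add_cancel _
    rw [smul_eq_zero] at h5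
    rcases h5 with h5 | h5
    · rcases hc1 with rfl | rfl
      · exact h2 (by linear_combination h5)
      · exact h2 (by linear_combination -h5)
    · exact hv ((LinearEquiv.map_eq_zero_iff x).1 h5)

theorem trace_ns (hQ : Nondeg Q) [Nontrivial V] {a b g : V ≃ₗ[K] V} (hab : PBad (E Q) a b)
    (ha : NS Q a) (hb : NS Q b) (hg : g ∈ E Q) : tr (a * (g * b * g⁻¹)) = tr (a * b) := by
  obtain ⟨x, hx, h1, h2⟩ := key_sign hQ hab hg
  have h1' : ∀ v, a (x v) = x (a v) := h1.resolve_right (ha x hx)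
  have h2' : ∀ v, g (b (g⁻¹ (x v))) = x (b v) := by
    refine h2.resolve_right fun h3 => hb (g⁻¹ * x) ((E Q).mul_mem ((E Q).inv_mem hg) hx) fun v => ?_
    apply g.injective
    change g (b (g⁻¹ (x v))) = g (-g⁻¹ (x (b v)))
    rw [h3, map_neg]
    congr 1
    exact (g.apply_symm_apply _).symm
  have h5 : ∀ w, x⁻¹ (x w) = w := fun w => x.symm_apply_apply w
  rw [← tr_conj x⁻¹ (a * (g * b * g⁻¹))]
  congr 1
  refine LinearEquiv.ext fun v => ?_
  rw [inv_inv]
  change x⁻¹ (a (g (b (g⁻¹ (x v))))) = a (b v)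
  rw [h2', h1', h5]

variable [FiniteDimensional K V]

/-- the trace along a root element, transported. -/
theorem tr_line {a b g : V ≃ₗ[K] V} {u y : V} (hu : Q u = 0)
    (huy : polar Q u y = 0) (hy : Q y = 0) :
    tr (a * ((siegel Q u y hu huy * g) * b * (siegel Q u y hu huy * g)⁻¹)) =
      tr (a * (g * b * g⁻¹)) + Lf Q (a : V →ₗ[K] V) ((g * b * g⁻¹ : V ≃ₗ[K] V) : V →ₗ[K] V) u y -
        Phi Q (a : V →ₗ[K] V) ((g * b * g⁻¹ : V ≃ₗ[K] V) : V →ₗ[K] V) u y := by
  rw [← tr_siegel a (g * b * g⁻¹) hu huy hy]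
  have e : siegel Q u y hu huy * g * b * (siegel Q u y hu huy * g)⁻¹ =
      siegel Q u y hu huy * (g * b * g⁻¹) * (siegel Q u y hu huy)⁻¹ := by group
  rw [e]

omit [FiniteDimensional K V] in
theorem polar_transport {b g : V ≃ₗ[K] V} (hg : g ∈ E Q) {p r p' r' : V} (h : g p' = p) (h' : g r' = r) :
    polar Q p (((g * b * g⁻¹ : V ≃ₗ[K] V) : V →ₗ[K] V) r) = polar Q p' (b r') := by
  subst h h'
  change polar Q (g p') (g (b (g⁻¹ (g r')))) = _
  have h5 : g⁻¹ (g r') = r' := g.symm_apply_apply r'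
  rw [h5, polar_map (E_le_O hg)]

variable [Finite K]

/-- the quadratic part vanishes when the traces are constant. -/
theorem phi_zero (hQ : Nondeg Q) (hd : 7 ≤ finrank K V) (h2 : (2 : K) ≠ 0) {a b : V ≃ₗ[K] V}
    {τ : K} (hab : ∀ g ∈ E Q, tr (a * (g * b * g⁻¹)) = τ) {u y u' y' : V} (hu : Q u = 0)
    (hy : Q y = 0) (huy : polar Q u y = 0) (hi : LinearIndependent K ![u, y]) (hu' : Q u' = 0)
    (hy' : Q y' = 0) (huy' : polar Q u' y' = 0) (hi' : LinearIndependent K ![u', y']) :
    polar Q u' (b y') * polar Q u (a y) - polar Q y' (b y') * polar Q u (a u) -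
      polar Q u' (b u') * polar Q y (a y) + polar Q y' (b u') * polar Q y (a u) = 0 := by
  obtain ⟨g, hg, hgu, hgy⟩ := trans_pair hQ (by omega) hu' hy' huy' hi' hu hy huy hi
  have key : ∀ c : K, c * Lf Q (a : V →ₗ[K] V) ((g * b * g⁻¹ : V ≃ₗ[K] V) : V →ₗ[K] V) u y -
      c ^ 2 * Phi Q (a : V →ₗ[K] V) ((g * b * g⁻¹ : V ≃ₗ[K] V) : V →ₗ[K] V) u y = 0 := by
    intro c
    have hcy : Q (c • y) = 0 := by rw [QuadraticMap.map_smul, hy, smul_zero]
    have hucy : polar Q u (c • y) = 0 := by rw [polar_smul_right, huy, smul_zero]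
    have h3 := hab _ ((E Q).mul_mem (siegel_mem_E hu hucy) hg)
    rw [tr_line hu hucy hcy, hab g hg, Lf_smul, Phi_smul] at h3
    linear_combination h3
  have h3 := key 1
  have h4 := key (-1)
  have h5 : Phi Q (a : V →ₗ[K] V) ((g * b * g⁻¹ : V ≃ₗ[K] V) : V →ₗ[K] V) u y = 0 := by
    have : (2 : K) * Phi Q (a : V →ₗ[K] V) ((g * b * g⁻¹ : V ≃ₗ[K] V) : V →ₗ[K] V) u y = 0 := by
      linear_combination -h3 - h4
    exact (mul_eq_zero.1 this).resolve_left h2
  have hA : ∀ p r : V, polar Q p ((a : V →ₗ[K] V) r) = polar Q p (a r) := fun _ _ => rfl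
  simp only [Phi, hA] at h5
  rw [polar_transport hg hgu hgy, polar_transport hg hgy hgy, polar_transport hg hgu hgu,
    polar_transport hg hgy hgu] at h5
  exact h5

omit [FiniteDimensional K V] in
/-- a partner of a singular vector -/
theorem exists_partner (hd : 7 ≤ finrank K V) {u : V} (h0 : u ≠ 0) :
    ∃ z, Q z = 0 ∧ polar Q u z = 0 ∧ LinearIndependent K ![u, z] := by
  have : FiniteDimensional K V := Module.finite_of_finrank_pos (by omega)
  obtain ⟨z, hzm, hz, h⟩ := exists_sing_notMem (Q := Q) ![u] (Submodule.span K {u})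
    (by rw [finrank_span_singleton h0]; omega)
  exact ⟨z, hz, h 0, indep_of_not h0 (fun c hc => hzm (Submodule.mem_span_singleton.2 ⟨c, hc.symm⟩))⟩

/-- **(1)** constant traces: one of `a`, `b` is alternating on singular vectors. -/
theorem alt_or_alt (hQ : Nondeg Q) (hd : 7 ≤ finrank K V) (h2 : (2 : K) ≠ 0) {a b : V ≃ₗ[K] V}
    {τ : K} (hab : ∀ g ∈ E Q, tr (a * (g * b * g⁻¹)) = τ) :
    (∀ u, Q u = 0 → polar Q u (a u) = 0) ∨ ∀ u, Q u = 0 → polar Q u (b u) = 0 := by
  by_contra hcon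
  push Not at hcon
  obtain ⟨⟨u, hu, hau⟩, u', hu', hbu⟩ := hcon
  have h0 : u ≠ 0 := by
    rintro rfl
    exact hau (polar_zero_left Q _)
  have h0' : u' ≠ 0 := by
    rintro rfl
    exact hbu (polar_zero_left Q _)
  obtain ⟨y, hy, huy, hi⟩ := exists_partner (Q := Q) hd h0
  obtain ⟨y', hy', huy', hi'⟩ := exists_partner (Q := Q) hd h0'
  have huu' : polar Q u' u' = 0 := polar_self_of_sing hu'
  have key : ∀ c : K, polar Q u' (b (y' + c • u')) * polar Q u (a y) -
      polar Q (y' + c • u') (b (y' + c • u')) * polar Q u (a u) -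
      polar Q u' (b u') * polar Q y (a y) + polar Q (y' + c • u') (b u') * polar Q y (a u) = 0 := by
    intro c
    refine phi_zero hQ hd h2 hab hu hy huy hi hu' ?_ ?_ ?_
    · rw [Q_add, QuadraticMap.map_smul, hy', hu', polar_smul_right, polar_comm, huy']
      simp
    · rw [polar_add_right, polar_smul_right, huy', huu', smul_zero, add_zero]
    · rw [LinearIndependent.pair_iff] at hi' ⊢
      intro s t hst
      obtain ⟨h3, h4⟩ := hi' (s + t * c) t (by rw [← hst]; module)
      rw [h4, zero_mul, add_zero] at h3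
      exact ⟨h3, h4⟩
  have h3 := key 0
  have h4 := key 1
  have h5 := key (-1)
  simp only [map_add, map_smul, polar_add_left, polar_add_right, polar_smul_left, polar_smul_right,
    smul_eq_mul] at h3 h4 h5
  have h6 : 2 * (polar Q u' (b u') * polar Q u (a u)) = 0 := by
    linear_combination 2 * h3 - h4 - h5
  rcases mul_eq_zero.1 h6 with h | h
  · exact h2 h
  · rcases mul_eq_zero.1 h with h | h
    · exact hbu h
    · exact hau h

omit [FiniteDimensional K V] in
/-- alternating on singular vectors implies `a + a⁻¹` scalar. -/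
theorem skew_of_alt (hQ : Nondeg Q) (hd : 7 ≤ finrank K V) {a : V ≃ₗ[K] V}
    (ha : a ∈ O Q) (h : ∀ u, Q u = 0 → polar Q u (a u) = 0) : ∃ c : K, ∀ v, a v + a⁻¹ v = c • v := by
  refine add_inv_scalar hQ (by omega) ha (fun u hu => by rw [polar_comm, h u hu, mul_zero]) ?_
  intro u y hu hy huy _
  have h3 := h (u + y) (by rw [Q_add, hu, hy, huy]; ring)
  rw [map_add, polar_add_left, polar_add_right, polar_add_right, h u hu, h y hy] at h3
  linear_combination h3

omit [FiniteDimensional K V] [Finite K] in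
theorem alt_of_skew (h2 : (2 : K) ≠ 0) {a : V ≃ₗ[K] V}
    (ha : a ∈ O Q) {c : K} (hc : ∀ v, a v + a⁻¹ v = c • v) {u : V} (hu : Q u = 0) :
    polar Q u (a u) = 0 := by
  have h3 : polar Q (a u + a⁻¹ u) u = 0 := by
    rw [hc, polar_smul_left, polar_self_of_sing hu, smul_zero]
  rw [polar_add_left, polar_inv ha, polar_comm Q (a u) u] at h3
  have h4 : 2 * polar Q u (a u) = 0 := by linear_combination h3
  exact (mul_eq_zero.1 h4).resolve_left h2

omit [FiniteDimensional K V] [Finite K] in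
theorem polar_skew {a : V ≃ₗ[K] V} (ha : a ∈ O Q) {c : K} (hc : ∀ v, a v + a⁻¹ v = c • v) (x y : V) :
    polar Q (a x) y + polar Q x (a y) = c * polar Q x y := by
  rw [← polar_inv ha, ← polar_add_left, hc, polar_smul_left, smul_eq_mul]

omit [Finite K] in
/-- a value different from `±τ` is not attained -/
theorem surj_false {τ : K} {f : K → K} (hf : ∀ x, f x = τ ∨ f x = -τ)
    (hs : Function.Surjective f) : False := by
  by_cases h : τ = 0
  · obtain ⟨x, hx⟩ := hs 1
    rcases hf x with h1 | h1 <;> rw [hx, h] at h1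
    · exact one_ne_zero h1
    · rw [neg_zero] at h1; exact one_ne_zero h1
  · obtain ⟨x, hx⟩ := hs 0
    rcases hf x with h1 | h1 <;> rw [hx] at h1
    · exact h h1.symm
    · exact h (neg_eq_zero.1 h1.symm)

/-- **(2)** if `a` is skew and not a scalar, then `b² = 1`. -/
theorem sq_one_of_skew (hQ : Nondeg Q) (hd : 7 ≤ finrank K V) (h2 : (2 : K) ≠ 0) {a b : V ≃ₗ[K] V}
    (hab : PBad (E Q) a b) (ha : ¬ Scalar a) {c : K} (hc : ∀ v, a v + a⁻¹ v = c • v) :
    b * b = 1 := by
  have hne : Nontrivial V := Module.nontrivial_of_finrank_pos (R := K) (by omega)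
  have haO := E_le_O hab.1
  have hbO := E_le_O hab.2.1
  -- the difference `b - b⁻¹`
  have hsk : ∀ x y, polar Q (b x - b⁻¹ x) y + polar Q x (b y - b⁻¹ y) = 0 := by
    intro x y
    have h3 := polar_inv hbO x y
    have h4 := polar_inv hbO y x
    rw [polar_comm] at h4
    rw [polar_sub_left, polar_sub_right, h3, h4, polar_comm Q y (b x)]
    ring
  by_cases hcase : ∃ u', Q u' = 0 ∧ ∀ c : K, b u' - b⁻¹ u' ≠ c • u'
  · exfalso
    obtain ⟨u', hu', hmv'⟩ := hcase
    have h0' : u' ≠ 0 := by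
      rintro rfl
      exact hmv' 0 (by simp)
    obtain ⟨u, hu, h0, hmv⟩ := exists_moved hQ (by omega) ha
    obtain ⟨y, z, hy, hz, huy, huz, hyz, hi, hne, hze⟩ :=
      exists_triple_sep hQ hd hu h0 (alt_of_skew h2 haO hc hu) hmv
    have hx0 : polar Q u' (b u' - b⁻¹ u') = 0 := by
      have h3 := hsk u' u'
      rw [polar_comm] at h3
      have h4 : 2 * polar Q u' (b u' - b⁻¹ u') = 0 := by linear_combination h3
      exact (mul_eq_zero.1 h4).resolve_left h2
    obtain ⟨y', z', hy', hz', huy', huz', hyz', hi', hne', hze'⟩ :=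
      exists_triple_sep hQ hd hu' h0' hx0 hmv'
    obtain ⟨g, hg, n, hn, hgu, hgz, hgy⟩ := trans_triple_scale hQ hd hu' hz' hy' huz' huy'
      (by rw [polar_comm]; exact hyz') (indep_swap hi') hu hy hz huy huz hyz hi
    have hgi : g (n⁻¹ • y') = z := by rw [map_smul, hgy, smul_smul, inv_mul_cancel₀ hn, one_smul]
    -- the two-parameter family
    set B := g * b * g⁻¹ with hB
    set τ := tr (a * b) with hτ
    have key : ∀ l m : K, tr (a * B) + (l * Lf Q (a : V →ₗ[K] V) (B : V →ₗ[K] V) u y +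
        m * Lf Q (a : V →ₗ[K] V) (B : V →ₗ[K] V) u z) - (l * m) *
        (polar Q y (a u) * polar Q (n⁻¹ • y') (b u' - b⁻¹ u')) = τ ∨
        tr (a * B) + (l * Lf Q (a : V →ₗ[K] V) (B : V →ₗ[K] V) u y +
        m * Lf Q (a : V →ₗ[K] V) (B : V →ₗ[K] V) u z) - (l * m) *
        (polar Q y (a u) * polar Q (n⁻¹ • y') (b u' - b⁻¹ u')) = -τ := by
      intro l m
      have hs : Q (l • y + m • z) = 0 := by
        rw [Q_add, QuadraticMap.map_smul, QuadraticMap.map_smul, polar_smul_left, polar_smul_right,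
          hy, hz, hyz]
        simp
      have hus : polar Q u (l • y + m • z) = 0 := by
        rw [polar_add_right, polar_smul_right, polar_smul_right, huy, huz]
        simp
      have h3 := trace_pm hQ hab ((E Q).mul_mem (siegel_mem_E hu hus) hg)
      rw [tr_line hu hus hs, Lf_add, Lf_smul, Lf_smul] at h3
      have h4 : Phi Q (a : V →ₗ[K] V) ((g * b * g⁻¹ : V ≃ₗ[K] V) : V →ₗ[K] V) u (l • y + m • z) =
          (l * m) * (polar Q y (a u) * polar Q (n⁻¹ • y') (b u' - b⁻¹ u')) := by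
        have hA : ∀ p r : V, polar Q p ((a : V →ₗ[K] V) r) = polar Q p (a r) := fun _ _ => rfl
        set Y := l • y + m • z with hY
        have e1 : polar Q u (a u) = 0 := alt_of_skew h2 haO hc hu
        have e2 : polar Q Y (a Y) = 0 := alt_of_skew h2 haO hc hs
        have e3 : polar Q u (a Y) = -polar Q Y (a u) := by
          have := polar_skew haO hc u Y
          rw [hus, mul_zero, polar_comm] at this
          linear_combination this
        have e4 : polar Q Y (a u) = l * polar Q y (a u) := by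
          rw [hY, polar_add_left, polar_smul_left, polar_smul_left, polar_comm Q z (a u), hze]
          simp
        have e5 : polar Q Y ((B : V →ₗ[K] V) u) - polar Q u ((B : V →ₗ[K] V) Y) =
            m * polar Q (n⁻¹ • y') (b u' - b⁻¹ u') := by
          have hYg : g (l • z' + m • (n⁻¹ • y')) = Y := by
            rw [map_add, map_smul, map_smul, hgz, hgi]
          rw [hB, polar_transport hg hYg hgu, polar_transport hg hgu hYg]
          have e6 : ∀ w, polar Q u' (b w) = polar Q w (b⁻¹ u') := by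
            intro w
            rw [← polar_inv hbO, polar_comm]
          rw [e6, ← polar_sub_right, polar_add_left, polar_smul_left, polar_smul_left,
            polar_comm Q z' _, hze', smul_zero, zero_add, smul_eq_mul]
        simp only [Phi, hA, e1, e2, e3, e4]
        rw [← hB]
        linear_combination (l * polar Q y (a u)) * e5
      rw [h4, ← hB] at h3
      exact h3
    set P := polar Q y (a u) * polar Q (n⁻¹ • y') (b u' - b⁻¹ u') with hP
    set L1 := Lf Q (a : V →ₗ[K] V) (B : V →ₗ[K] V) u y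
    set L2 := Lf Q (a : V →ₗ[K] V) (B : V →ₗ[K] V) u z
    have hP0 : P ≠ 0 := by
      rw [hP]
      refine mul_ne_zero (by rw [polar_comm]; exact hne) ?_
      rw [polar_smul_left, polar_comm, smul_eq_mul]
      exact mul_ne_zero (inv_ne_zero hn) hne'
    obtain ⟨l, hl⟩ : ∃ l : K, L2 - l * P ≠ 0 := by
      by_cases hL : L2 = 0
      · exact ⟨1, by rw [hL, one_mul, zero_sub]; exact neg_ne_zero.2 hP0⟩
      · exact ⟨0, by rw [zero_mul, sub_zero]; exact hL⟩
    refine surj_false (key l) fun t => ⟨(t - tr (a * B) - l * L1) / (L2 - l * P), ?_⟩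
    have h5 := div_mul_cancel₀ (t - tr (a * B) - l * L1) hl
    linear_combination h5
  · push Not at hcase
    obtain ⟨s, hs⟩ := scalar_of_sing hQ (by omega) (T := (b : V →ₗ[K] V) - ((b⁻¹ : V ≃ₗ[K] V) : V →ₗ[K] V))
      hcase
    have hs' : ∀ v, b v - b⁻¹ v = s • v := hs
    have hs0 : s = 0 := by
      obtain ⟨x, hx⟩ := exists_ne (0 : V)
      obtain ⟨y, hy⟩ := hQ.exists_polar_ne hx
      have h3 := hsk x y
      rw [hs', hs', polar_smul_left, polar_smul_right] at h3
      have h4 : 2 * s * polar Q x y = 0 := by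
        rw [smul_eq_mul] at h3
        linear_combination h3
      rcases mul_eq_zero.1 h4 with h | h
      · exact (mul_eq_zero.1 h).resolve_left h2
      · exact absurd h hy
    refine LinearEquiv.ext fun v => ?_
    have h3 := hs' v
    rw [hs0, zero_smul, sub_eq_zero] at h3
    change b (b v) = v
    rw [h3]
    exact b.apply_symm_apply v

omit [Finite K] in
theorem exists_avoid (τ : K) : ∃ v : K, v ≠ τ ∧ v ≠ -τ := by
  by_cases h : τ = 0
  · exact ⟨1, by rw [h]; exact one_ne_zero, by rw [h, neg_zero]; exact one_ne_zero⟩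
  · exact ⟨0, fun h1 => h h1.symm, fun h1 => h (neg_eq_zero.1 h1.symm)⟩

omit [Finite K] in
/-- orthogonal nonsingular vectors -/
theorem exists_orth_pair (h2 : (2 : K) ≠ 0) (hQ : Nondeg Q) (hd : 2 ≤ finrank K V) :
    ∃ p r, Q p ≠ 0 ∧ Q r ≠ 0 ∧ polar Q p r = 0 := by
  obtain ⟨p, hp⟩ := exists_nonsingular hQ (by omega)
  have hp0 : p ≠ 0 := by
    rintro rfl
    exact hp (QuadraticMap.map_zero Q)
  have h1 := nondeg_perp hQ (nondeg_span_singleton h2 hp)
  have h3 := finrank_add_perp hQ (Submodule.span K {p})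
  rw [finrank_span_singleton hp0] at h3
  obtain ⟨r, hr⟩ := exists_nonsingular h1 (by omega)
  exact ⟨p, r, hp, hr, r.2 p (Submodule.mem_span_singleton_self p)⟩

/-- orthogonal vectors of given norms -/
theorem exists_orth_vals (h2 : (2 : K) ≠ 0) (hQ : Nondeg Q) (hd : 3 ≤ finrank K V) {α β : K}
    (hα : α ≠ 0) : ∃ p r, Q p = α ∧ Q r = β ∧ polar Q p r = 0 := by
  obtain ⟨p, hp⟩ := exists_value h2 hQ (by omega) α
  have hp' : Q p ≠ 0 := by rw [hp]; exact hα
  have hp0 : p ≠ 0 := by
    rintro rfl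
    exact hp' (QuadraticMap.map_zero Q)
  have h1 := nondeg_perp hQ (nondeg_span_singleton h2 hp')
  have h3 := finrank_add_perp hQ (Submodule.span K {p})
  rw [finrank_span_singleton hp0] at h3
  obtain ⟨r, hr⟩ := exists_value h2 h1 (by omega) β
  exact ⟨p, r, hp, hr, r.2 p (Submodule.mem_span_singleton_self p)⟩

/-- **(3)** if `a² = 1` with eigenspaces of dimension at least four, then `b` is alternating on
singular vectors. -/
theorem alt_of_inv (hQ : Nondeg Q) (hd : 8 ≤ finrank K V) (h2 : (2 : K) ≠ 0) {a b : V ≃ₗ[K] V}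
    (hab : PBad (E Q) a b) (haa : ∀ v, a (a v) = v) {W W' : Submodule K V}
    (hW : ∀ v, v ∈ W ↔ a v = v) (hW' : ∀ v, v ∈ W' ↔ a v = -v)
    (hWd : 4 ≤ finrank K W) (hWd' : 4 ≤ finrank K W') {u' : V} (hu' : Q u' = 0) :
    polar Q u' (b u') = 0 := by
  have hne : Nontrivial V := Module.nontrivial_of_finrank_pos (R := K) (by omega)
  have haO := E_le_O hab.1
  by_contra hbu
  have h0' : u' ≠ 0 := by
    rintro rfl
    exact hbu (polar_zero_left Q _)
  -- orthogonality of the eigenspaces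
  have hperp : ∀ x ∈ W, ∀ y ∈ W', polar Q x y = 0 := by
    intro x hx y hy
    have h3 := polar_map haO x y
    rw [(hW x).1 hx, (hW' y).1 hy, polar_neg_right] at h3
    have h4 : 2 * polar Q x y = 0 := by linear_combination -h3
    exact (mul_eq_zero.1 h4).resolve_left h2
  have hdec : ∀ v : V, ∃ x ∈ W, ∃ y ∈ W', v = x + y := by
    intro v
    refine ⟨(2 : K)⁻¹ • (v + a v), ?_, (2 : K)⁻¹ • (v - a v), ?_, ?_⟩
    · rw [hW, map_smul, map_add, haa, add_comm]
    · rw [hW', map_smul, map_sub, haa, ← smul_neg, neg_sub]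
    · rw [← smul_add]
      have : v + a v + (v - a v) = (2 : K) • v := by rw [two_smul]; abel
      rw [this, smul_smul, inv_mul_cancel₀ h2, one_smul]
  have hWn : Nondeg (res Q W) := by
    rw [nondeg_res_iff]
    intro x hx hxy
    apply hQ
    intro v
    obtain ⟨p, hp, r, hr, rfl⟩ := hdec v
    rw [polar_add_right, hxy p hp, hperp x hx r hr, add_zero]
  have hWn' : Nondeg (res Q W') := by
    rw [nondeg_res_iff]
    intro x hx hxy
    apply hQ
    intro v
    obtain ⟨p, hp, r, hr, rfl⟩ := hdec v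
    rw [polar_add_right, hxy r hr, polar_comm, hperp p hp x hx, add_zero]
  -- a singular vector of `W`
  obtain ⟨u, huW, h0, hu⟩ := exists_sing_mem (Q := Q) W (by omega)
  obtain ⟨X, hX, hXn, hXf⟩ := exists_nondeg_compl hWn (U := Submodule.span K {(⟨u, huW⟩ : W)}) (by
    intro x hx
    obtain ⟨c, rfl⟩ := Submodule.mem_span_singleton.1 hx
    change Q (c • u) = 0
    rw [QuadraticMap.map_smul, hu, smul_zero])
  rw [finrank_span_singleton (by intro h; exact h0 (congrArg Subtype.val h))] at hXf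
  obtain ⟨⟨⟨p1, hp1W⟩, hp1X⟩, ⟨⟨p2, hp2W⟩, hp2X⟩, hp1, hp2, hp12⟩ := exists_orth_pair h2 hXn (by omega)
  have hp1' : Q p1 ≠ 0 := hp1
  have hp2' : Q p2 ≠ 0 := hp2
  have hp12' : polar Q p1 p2 = 0 := hp12
  have hup1 : polar Q u p1 = 0 := hX hp1X ⟨u, huW⟩ (Submodule.mem_span_singleton_self _)
  have hup2 : polar Q u p2 = 0 := hX hp2X ⟨u, huW⟩ (Submodule.mem_span_singleton_self _)
  obtain ⟨⟨m1, hm1W⟩, ⟨m2, hm2W⟩, hm1, hm2, hm12⟩ := exists_orth_vals h2 hWn' (by omega)
    (neg_ne_zero.2 hp1') (β := -Q p2)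
  have hm1' : Q m1 = -Q p1 := hm1
  have hm2' : Q m2 = -Q p2 := hm2
  have hm12' : polar Q m1 m2 = 0 := hm12
  have hpm : ∀ x ∈ W, ∀ y ∈ W', polar Q y x = 0 := fun x hx y hy => by
    rw [polar_comm]; exact hperp x hx y hy
  have hum1 := hperp u huW m1 hm1W
  have hum2 := hperp u huW m2 hm2W
  have h11 := hperp p1 hp1W m1 hm1W
  have h12 := hperp p1 hp1W m2 hm2W
  have h21 := hperp p2 hp2W m1 hm1W
  have h22 := hperp p2 hp2W m2 hm2W
  have h11' := hpm p1 hp1W m1 hm1W
  have h12' := hpm p1 hp1W m2 hm2W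
  have h21' := hpm p2 hp2W m1 hm1W
  have h22' := hpm p2 hp2W m2 hm2W
  have hp21' : polar Q p2 p1 = 0 := by rw [polar_comm]; exact hp12'
  have hm21' : polar Q m2 m1 = 0 := by rw [polar_comm]; exact hm12'
  have hau : a u = u := (hW u).1 huW
  have hap1 : a p1 = p1 := (hW p1).1 hp1W
  have hap2 : a p2 = p2 := (hW p2).1 hp2W
  have ham1 : a m1 = -m1 := (hW' m1).1 hm1W
  have ham2 : a m2 = -m2 := (hW' m2).1 hm2W
  have hy : Q (p1 + m1) = 0 := by rw [Q_add, hm1', h11]; ring
  have hz : Q (p2 + m2) = 0 := by rw [Q_add, hm2', h22]; ring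
  have huy : polar Q u (p1 + m1) = 0 := by rw [polar_add_right, hup1, hum1, add_zero]
  have huz : polar Q u (p2 + m2) = 0 := by rw [polar_add_right, hup2, hum2, add_zero]
  have hyz : polar Q (p1 + m1) (p2 + m2) = 0 := by
    rw [polar_add_left, polar_add_right, polar_add_right, hp12', h12, h21', hm12']
    ring
  have hi : LinearIndependent K ![u, p1 + m1, p2 + m2] := by
    rw [Fintype.linearIndependent_iff]
    intro g hg
    rw [Fin.sum_univ_three] at hg
    have hg' : g 0 • u + g 1 • (p1 + m1) + g 2 • (p2 + m2) = 0 := hg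
    have e1 := congrArg (polar Q m1) hg'
    have e2 := congrArg (polar Q m2) hg'
    have hmu1 := hpm u huW m1 hm1W
    have hmu2 := hpm u huW m2 hm2W
    simp only [polar_add_right, polar_smul_right, hmu1, h11', h21', hm12', polar_self', hm1',
      polar_zero_right, smul_eq_mul] at e1
    simp only [polar_add_right, polar_smul_right, hmu2, h12', h22', hm21', polar_self', hm2',
      polar_zero_right, smul_eq_mul] at e2
    have g1 : g 1 = 0 := by
      have : g 1 * (2 * Q p1) = 0 := by linear_combination -e1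
      exact (mul_eq_zero.1 this).resolve_right (mul_ne_zero h2 hp1')
    have g2 : g 2 = 0 := by
      have : g 2 * (2 * Q p2) = 0 := by linear_combination -e2
      exact (mul_eq_zero.1 this).resolve_right (mul_ne_zero h2 hp2')
    rw [g1, g2, zero_smul, zero_smul, add_zero, add_zero, smul_eq_zero] at hg'
    have g0 : g 0 = 0 := hg'.resolve_right h0
    intro i
    fin_cases i
    · exact g0
    · exact g1
    · exact g2
  obtain ⟨g, hg, hgu⟩ := (good_of_finite hQ (by omega)).trans_sing hu' hu h0' h0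
  set B := g * b * g⁻¹ with hB
  set τ := tr (a * b) with hτ
  set β := polar Q u' (b u') with hβ
  have key : ∀ l m : K, tr (a * B) + (l * Lf Q (a : V →ₗ[K] V) (B : V →ₗ[K] V) u (p1 + m1) +
      m * Lf Q (a : V →ₗ[K] V) (B : V →ₗ[K] V) u (p2 + m2)) + 4 * β * (Q p1 * l ^ 2 + Q p2 * m ^ 2) = τ ∨
      tr (a * B) + (l * Lf Q (a : V →ₗ[K] V) (B : V →ₗ[K] V) u (p1 + m1) +
      m * Lf Q (a : V →ₗ[K] V) (B : V →ₗ[K] V) u (p2 + m2)) + 4 * β * (Q p1 * l ^ 2 + Q p2 * m ^ 2) = -τ := by
    intro l m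
    have hs : Q (l • (p1 + m1) + m • (p2 + m2)) = 0 := by
      rw [Q_add, QuadraticMap.map_smul, QuadraticMap.map_smul, polar_smul_left, polar_smul_right,
        hy, hz, hyz]
      simp
    have hus : polar Q u (l • (p1 + m1) + m • (p2 + m2)) = 0 := by
      rw [polar_add_right, polar_smul_right, polar_smul_right, huy, huz]
      simp
    have h3 := trace_pm hQ hab ((E Q).mul_mem (siegel_mem_E hu hus) hg)
    rw [tr_line hu hus hs, Lf_add, Lf_smul, Lf_smul] at h3
    have h4 : Phi Q (a : V →ₗ[K] V) ((g * b * g⁻¹ : V ≃ₗ[K] V) : V →ₗ[K] V) u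
        (l • (p1 + m1) + m • (p2 + m2)) = -(4 * β * (Q p1 * l ^ 2 + Q p2 * m ^ 2)) := by
      have hA : ∀ p r : V, polar Q p ((a : V →ₗ[K] V) r) = polar Q p (a r) := fun _ _ => rfl
      simp only [Phi, hA]
      have e0 : a (l • (p1 + m1) + m • (p2 + m2)) = l • (p1 - m1) + m • (p2 - m2) := by
        rw [map_add, map_smul, map_smul, map_add, map_add, hap1, hap2, ham1, ham2]
        simp only [sub_eq_add_neg]
      have e1 : polar Q u (a (l • (p1 + m1) + m • (p2 + m2))) = 0 := by
        rw [e0]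
        simp only [polar_add_right, polar_smul_right, polar_sub_right, hup1, hup2, hum1, hum2]
        simp
      have e2 : polar Q u (a u) = 0 := by rw [hau]; exact polar_self_of_sing hu
      have e3 : polar Q (l • (p1 + m1) + m • (p2 + m2)) (a u) = 0 := by
        rw [hau, polar_comm]; exact hus
      have e4 : polar Q (l • (p1 + m1) + m • (p2 + m2)) (a (l • (p1 + m1) + m • (p2 + m2))) =
          4 * (Q p1 * l ^ 2 + Q p2 * m ^ 2) := by
        rw [e0]
        simp only [polar_add_left, polar_smul_left, polar_add_right, polar_smul_right,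
          polar_sub_right, hp12', hp21', hm12', hm21', h11, h12, h21, h22, h11', h12', h21', h22',
          polar_self', hm1', hm2', smul_eq_mul]
        ring
      rw [e1, e2, e3, e4, polar_transport hg hgu hgu, ← hβ]
      ring
    rw [h4, ← hB, sub_neg_eq_add] at h3
    exact h3
  obtain ⟨t, ht1, ht2⟩ := exists_avoid τ
  set L1 := Lf Q (a : V →ₗ[K] V) (B : V →ₗ[K] V) u (p1 + m1)
  set L2 := Lf Q (a : V →ₗ[K] V) (B : V →ₗ[K] V) u (p2 + m2)
  have h4 : (4 : K) ≠ 0 := by
    have : (4 : K) = 2 * 2 := by norm_num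
    rw [this]
    exact mul_ne_zero h2 h2
  obtain ⟨x, y, hxy⟩ := exists_two_squares h2 (a := 4 * β * Q p1) (b := 4 * β * Q p2)
    (mul_ne_zero (mul_ne_zero h4 hbu) hp1') (mul_ne_zero (mul_ne_zero h4 hbu) hp2')
    (t - tr (a * B) + L1 ^ 2 / (16 * β * Q p1) + L2 ^ 2 / (16 * β * Q p2))
  have h16 : (16 : K) ≠ 0 := by
    have : (16 : K) = 4 * 4 := by norm_num
    rw [this]
    exact mul_ne_zero h4 h4
  have h8 : (8 : K) ≠ 0 := by
    have : (8 : K) = 4 * 2 := by norm_num
    rw [this]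
    exact mul_ne_zero h4 h2
  have h5 := key (x - L1 / (8 * β * Q p1)) (y - L2 / (8 * β * Q p2))
  have h6 : tr (a * B) + ((x - L1 / (8 * β * Q p1)) * L1 + (y - L2 / (8 * β * Q p2)) * L2) +
      4 * β * (Q p1 * (x - L1 / (8 * β * Q p1)) ^ 2 + Q p2 * (y - L2 / (8 * β * Q p2)) ^ 2) = t := by
    have e1 : t = 4 * β * Q p1 * x ^ 2 + 4 * β * Q p2 * y ^ 2 + tr (a * B) - L1 ^ 2 / (16 * β * Q p1) -
        L2 ^ 2 / (16 * β * Q p2) := by linear_combination -hxy
    rw [e1]
    field_simp
    ring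
  rw [h6] at h5
  rcases h5 with h | h
  · exact ht1 h
  · exact ht2 h

end Odd

end Cfsg.Agent.H105.SzO
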