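import Mathlib
import Cfsg.Agent.H105.SzO4

/-!
# Products of two centralizers in orthogonal groups, part 5: odd characteristic, reduction to a skew
isometry and an involution
-/

set_option autoImplicit false

namespace Cfsg.Agent.H105.SzO

open Module QuadraticMap Cfsg.Agent.LieClassical.OrthCore Cfsg.Agent.LieClassical.OrthTrans
open Cfsg.Agent.LieClassical.OrthFinite Cfsg.Agent.H955 Cfsg.Agent.H105.Sz

universe u v w

variable {K : Type u} [Field K] {V : Type v} [AddCommGroup V] [Module K V]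
  {Q : QuadraticForm K V} [FiniteDimensional K V]

/-- eigenspaces of an involution -/
theorem eig_dims (h2 : (2 : K) ≠ 0) {a : V ≃ₗ[K] V} (haa : ∀ v, a (a v) = v) {W W' : Submodule K V}
    (hW : ∀ v, v ∈ W ↔ a v = v) (hW' : ∀ v, v ∈ W' ↔ a v = -v) :
    finrank K W + finrank K W' = finrank K V := by
  have h1 : IsCompl W W' := by
    refine ⟨disjoint_iff.2 ?_, codisjoint_iff.2 ?_⟩
    · rw [Submodule.eq_bot_iff]
      rintro x ⟨hx, hx'⟩
      have e1 := (hW x).1 hx
      have e2 := (hW' x).1 hx'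
      rw [e1] at e2
      have : (2 : K) • x = 0 := by rw [two_smul]; nth_rewrite 1 [e2]; exact neg_add_cancel x
      exact (smul_eq_zero.1 this).resolve_left h2
    · rw [Submodule.eq_top_iff']
      intro v
      refine Submodule.mem_sup.2 ⟨(2 : K)⁻¹ • (v + a v), ?_, (2 : K)⁻¹ • (v - a v), ?_, ?_⟩
      · rw [hW, map_smul, map_add, haa, add_comm]
      · rw [hW', map_smul, map_sub, haa, ← smul_neg, neg_sub]
      · rw [← smul_add]
        have : v + a v + (v - a v) = (2 : K) • v := by rw [two_smul]; abel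
        rw [this, smul_smul, inv_mul_cancel₀ h2, one_smul]
  exact Submodule.finrank_add_eq_of_isCompl h1

theorem eig_swap {a x : V ≃ₗ[K] V} {W W' : Submodule K V}
    (hW : ∀ v, v ∈ W ↔ a v = v) (hW' : ∀ v, v ∈ W' ↔ a v = -v) (hx : ∀ v, a (x v) = -x (a v)) :
    finrank K W = finrank K W' := by
  have h1 : W.map (x : V →ₗ[K] V) ≤ W' := by
    rintro _ ⟨v, hv, rfl⟩
    have hv : v ∈ W := hv
    rw [hW']
    change a (x v) = -x v
    rw [hx, (hW v).1 hv]
  have h3 : W'.map (x : V →ₗ[K] V) ≤ W := by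
    rintro _ ⟨v, hv, rfl⟩
    have hv : v ∈ W' := hv
    rw [hW]
    change a (x v) = x v
    rw [hx, (hW' v).1 hv, map_neg, neg_neg]
  have e1 : finrank K (W.map (x : V →ₗ[K] V)) = finrank K W := LinearEquiv.finrank_map_eq x W
  have e2 : finrank K (W'.map (x : V →ₗ[K] V)) = finrank K W' := LinearEquiv.finrank_map_eq x W'
  have e3 := Submodule.finrank_mono h1
  have e4 := Submodule.finrank_mono h3
  omega

/-- the eigenspace for the eigenvalue `1` -/
def Wp (a : V ≃ₗ[K] V) : Submodule K V := LinearMap.ker ((a : V →ₗ[K] V) - LinearMap.id)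

/-- the eigenspace for the eigenvalue `-1` -/
def Wm (a : V ≃ₗ[K] V) : Submodule K V := LinearMap.ker ((a : V →ₗ[K] V) + LinearMap.id)

omit [FiniteDimensional K V] in
theorem mem_Wp {a : V ≃ₗ[K] V} (v : V) : v ∈ Wp a ↔ a v = v := by
  rw [Wp, LinearMap.mem_ker, LinearMap.sub_apply, sub_eq_zero]
  rfl

omit [FiniteDimensional K V] in
theorem mem_Wm {a : V ≃ₗ[K] V} (v : V) : v ∈ Wm a ↔ a v = -v := by
  rw [Wm, LinearMap.mem_ker, LinearMap.add_apply, add_eq_zero_iff_eq_neg]
  rfl

variable [Finite K]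

theorem skew_or_skew (hQ : Nondeg Q) (hd : 7 ≤ finrank K V) (h2 : (2 : K) ≠ 0) {a b : V ≃ₗ[K] V}
    (hab : PBad (E Q) a b) (ha : NS Q a ∨ a * a = 1 ∨ ∀ v, a (a v) = -v)
    (hb : NS Q b ∨ b * b = 1 ∨ ∀ v, b (b v) = -v) :
    (∃ c : K, ∀ v, a v + a⁻¹ v = c • v) ∨ ∃ c : K, ∀ v, b v + b⁻¹ v = c • v := by
  have hne : Nontrivial V := Module.nontrivial_of_finrank_pos (R := K) (by omega)
  have key1 : ∀ a : V ≃ₗ[K] V, (∀ v, a (a v) = -v) → ∃ c : K, ∀ v, a v + a⁻¹ v = c • v := by
    intro a ha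
    refine ⟨0, fun v => ?_⟩
    have h1 : a⁻¹ v = -a v := by
      apply a.injective
      have : a (a⁻¹ v) = v := a.apply_symm_apply v
      rw [this, map_neg, ha, neg_neg]
    rw [h1, zero_smul, add_neg_cancel]
  have key2 : ∀ a b : V ≃ₗ[K] V, PBad (E Q) a b → a * a = 1 → ¬ NS Q a →
      ∃ c : K, ∀ v, b v + b⁻¹ v = c • v := by
    intro a b hab haa hns
    unfold NS at hns
    push Not at hns
    obtain ⟨x, _, hx⟩ := hns
    have haa' : ∀ v, a (a v) = v := fun v => by
      change (a * a) v = v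
      rw [haa]; rfl
    have h3 := eig_dims h2 haa' (W := Wp a) (W' := Wm a) mem_Wp mem_Wm
    have h4 := eig_swap (W := Wp a) (W' := Wm a) mem_Wp mem_Wm hx
    exact skew_of_alt hQ hd (E_le_O hab.2.1) fun u hu =>
      alt_of_inv hQ (by omega) h2 hab haa' (W := Wp a) (W' := Wm a) mem_Wp mem_Wm (by omega)
        (by omega) hu
  by_cases hna : NS Q a
  · by_cases hnb : NS Q b
    · rcases alt_or_alt hQ hd h2 (τ := tr (a * b)) (fun g hg => trace_ns hQ hab hna hnb hg) with h | h
      · left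
        exact skew_of_alt hQ hd (E_le_O hab.1) h
      · right
        exact skew_of_alt hQ hd (E_le_O hab.2.1) h
    · rcases hb with hb | hb | hb
      · exact absurd hb hnb
      · left
        exact key2 b a hab.symm hb hnb
      · right
        exact key1 b hb
  · rcases ha with ha | ha | ha
    · exact absurd ha hna
    · right
      exact key2 a b hab ha hna
    · left
      exact key1 a ha

/-- **Reduction in odd characteristic.** -/
theorem odd_main (hQ : Nondeg Q) (hd : 7 ≤ finrank K V) (h2 : (2 : K) ≠ 0) {a b : V ≃ₗ[K] V}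
    (hab : PBad (E Q) a b) (ha : ¬ Scalar a) (hb : ¬ Scalar b)
    (S : ∀ a b : V ≃ₗ[K] V, PBad (E Q) a b → ¬ Scalar a → ¬ Scalar b → ∀ c : K,
      (∀ v, a v + a⁻¹ v = c • v) → b * b = 1 → False) : False := by
  have hne : Nontrivial V := Module.nontrivial_of_finrank_pos (R := K) (by omega)
  obtain ⟨k, hk, hk'⟩ := exists_red hQ h2 hab.1 ha
  have h1 := pbad_pow_left hab k
  obtain ⟨l, hl, hl'⟩ := exists_red hQ h2 h1.2.1 hb
  have h3 := pbad_pow_right h1 l
  rcases skew_or_skew hQ hd h2 h3 hk' hl' with ⟨c, hc⟩ | ⟨c, hc⟩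
  · exact S _ _ h3 hk hl c hc (sq_one_of_skew hQ hd h2 h3 hk hc)
  · exact S _ _ h3.symm hl hk c hc (sq_one_of_skew hQ hd h2 h3.symm hl hc)

end Cfsg.Agent.H105.SzO
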