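import Mathlib
import Cfsg.Agent.H105.SzO5
import Cfsg.Agent.LieClassical.OrthForms

/-!
# Products of two centralizers in orthogonal groups, part 6: transfer to `PΩ`
-/

set_option autoImplicit false

namespace Cfsg.Agent.H105.SzO

open Module QuadraticMap Cfsg.Agent.LieClassical.OrthCore Cfsg.Agent.LieClassical.OrthTrans
open Cfsg.Agent.LieClassical.OrthFinite Cfsg.Agent.LieClassical.OrthSimple Cfsg.Agent.H105.Sz

/-- central elements of `Ω` are scalars. -/
theorem center_scalar {F V : Type*} [Field F] [AddCommGroup V] [Module F V] {Q : QuadraticForm F V}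
    (hG : Good Q) (z : E Q) (hz : z ∈ Subgroup.center (E Q)) : Scalar (z : V ≃ₗ[F] V) := by
  have hNE : (Subgroup.center (E Q)).map (E Q).subtype ≤ E Q := Subgroup.map_subtype_le _
  have hN' : ∀ g ∈ E Q, ∀ n ∈ (Subgroup.center (E Q)).map (E Q).subtype,
      g * n * g⁻¹ ∈ (Subgroup.center (E Q)).map (E Q).subtype := by
    rintro g hg _ ⟨n, hn, rfl⟩
    exact ⟨⟨g, hg⟩ * n * ⟨g, hg⟩⁻¹, (inferInstance : (Subgroup.center (E Q)).Normal).conj_mem n hn ⟨g, hg⟩, rfl⟩
  rcases good_normal_dichotomy hG hNE hN' with h | h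
  · exact h z ⟨z, hz, rfl⟩
  · exfalso
    have h1 : (Subgroup.center (E Q)) = ⊤ := by
      rw [eq_top_iff, ← Subgroup.map_le_map_iff_of_injective (Subgroup.subtype_injective (E Q)),
        h, ← MonoidHom.range_eq_map, Subgroup.range_subtype]
    obtain ⟨g, hg, hg1⟩ := good_E_ne_bot hG
    apply hg1
    have h2 : ⁅E Q, E Q⁆ = ⊥ := by
      rw [Subgroup.commutator_eq_bot_iff_le_centralizer]
      intro x hx
      rw [Subgroup.mem_centralizer_iff]
      intro y hy
      have h3 : (⟨y, hy⟩ : E Q) ∈ Subgroup.center (E Q) := by rw [h1]; trivial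
      exact (congrArg Subtype.val (Subgroup.mem_center_iff.1 h3 ⟨x, hx⟩)).symm
    rw [hG.E_perfect] at h2
    rw [h2] at hg
    exact (Subgroup.mem_bot).1 hg

theorem szep_POmega {ι : Type} [Fintype ι] [DecidableEq ι] {F : Type*} [Field F] [Finite F]
    {Q : QuadraticForm F (ι → F)} (hQ : Nondeg Q) (hd : 5 ≤ Fintype.card ι)
    (hP : ∀ a b : (ι → F) ≃ₗ[F] (ι → F), PBad (E Q) a b → ¬ Scalar a → ¬ Scalar b → False) :
    Szep (Cfsg.POmega F ⇑Q) := by
  have hG : Good Q := good_of_finite hQ (by rwa [Module.finrank_fintype_fun_eq_card])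
  refine Szep.of_equiv (quotientCenterCongr
    ((omegaEquiv Q).trans (MulEquiv.subgroupCongr hG.commutator_eq_E))) ?_
  refine szep_of_linear (E Q).subtype (Subgroup.subtype_injective _)
    (fun z hz => center_scalar hG z hz) ?_
  rw [Subgroup.range_subtype]
  exact hP

end Cfsg.Agent.H105.SzO
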