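import Mathlib

/-!
# Transitivity of `SL(V)` on independent families, up to scalars
-/

set_option autoImplicit false

namespace Cfsg.Agent.H105

open Module LinearMap

variable {K V : Type*} [Field K] [AddCommGroup V] [Module K V] [FiniteDimensional K V]

/-- two independent families of the same size are related by a linear equivalence -/
theorem exists_equiv_of_indep {ι : Type*} [Finite ι] {u v : ι → V} (hu : LinearIndependent K u)
    (hv : LinearIndependent K v) : ∃ g : V ≃ₗ[K] V, ∀ i, g (u i) = v i := by
  classical
  have : FiniteDimensional K (Submodule.span K (Set.range u)) := inferInstance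
  let f := hu.linearCombinationEquiv.symm ≪≫ₗ hv.linearCombinationEquiv
  obtain ⟨g, hg⟩ := Submodule.exists_linearEquiv_restrict_eq f
  refine ⟨g, fun i => ?_⟩
  have h1 : ((hu.linearCombinationEquiv (Finsupp.single i 1) : Submodule.span K (Set.range u)) : V)
      = u i := by simp
  have h2 : ((hv.linearCombinationEquiv (Finsupp.single i 1) : Submodule.span K (Set.range v)) : V)
      = v i := by simp
  rw [← h1, ← hg, ← h2]
  simp [f]

/-- a linear map with given determinant scaling one vector of an independent family and fixing the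
others -/
theorem exists_scale {ι : Type*} {v : ι → V} (hv : LinearIndependent K v) (i0 : ι) (a : Kˣ) :
    ∃ h : V ≃ₗ[K] V, LinearEquiv.det h = a ∧ h (v i0) = (a : K) • v i0 ∧
      ∀ i, i ≠ i0 → h (v i) = v i := by
  classical
  have hnot : v i0 ∉ Submodule.span K (v '' {i0}ᶜ) := by
    apply hv.notMem_span_image
    simp
  obtain ⟨f, hf1, hf2⟩ := Submodule.exists_dual_map_eq_bot_of_notMem hnot inferInstance
  let f' : Dual K V := (f (v i0))⁻¹ • f
  have hf0 : f' (v i0) = 1 := by simp [f', hf1]
  have hfi : ∀ i, i ≠ i0 → f' (v i) = 0 := by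
    intro i hi
    have : f (v i) ∈ (Submodule.span K (v '' {i0}ᶜ)).map f :=
      Submodule.mem_map_of_mem (Submodule.subset_span ⟨i, hi, rfl⟩)
    rw [hf2, Submodule.mem_bot] at this
    simp [f', this]
  have hu : IsUnit (1 + f' (((a : K) - 1) • v i0)) := by
    rw [map_smul, hf0]
    simp
  refine ⟨LinearEquiv.dilatransvection hu, ?_, ?_, ?_⟩
  · rw [← Units.val_inj, LinearEquiv.coe_det, LinearEquiv.dilatransvection.coe_toLinearMap,
      LinearMap.transvection.det, map_smul, hf0]
    simp
  · rw [LinearEquiv.dilatransvection.apply, hf0]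
    module
  · intro i hi
    rw [LinearEquiv.dilatransvection.apply, hfi i hi]
    simp

/-- `SL(V)` is transitive on nonempty independent families, up to scalars. -/
theorem exists_sl {ι : Type*} [Finite ι] {u v : ι → V} (hu : LinearIndependent K u)
    (hv : LinearIndependent K v) (i0 : ι) :
    ∃ (g : SpecialLinearGroup K V) (c : Kˣ), (g.1 (u i0) = (c : K) • v i0) ∧
      ∀ i, i ≠ i0 → g.1 (u i) = v i := by
  obtain ⟨g, hg⟩ := exists_equiv_of_indep hu hv
  obtain ⟨h, hd, h0, h1⟩ := exists_scale hv i0 (LinearEquiv.det g)⁻¹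
  refine ⟨⟨g.trans h, ?_⟩, (LinearEquiv.det g)⁻¹, ?_, ?_⟩
  · have : g.trans h = h * g := rfl
    rw [this, map_mul, hd, inv_mul_cancel]
  · show h (g (u i0)) = _
    rw [hg, h0]
  · intro i hi
    show h (g (u i)) = _
    rw [hg, h1 i hi]

end Cfsg.Agent.H105
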