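import Mathlib

/-!
# Products of two conjugacy classes in a 2-transitive group

`G` acts 2-transitively on `Ω`, `b c : G`, and for all `g : G` the elements `g b g⁻¹` and `c` agree
on exactly `K` points. Then `K (N - 1) = (N - 1) + (f(b) - 1)(f(c) - 1)` and, when `g b g⁻¹` and
`c` have a common fixed point, they agree on no point moved by `c`.
-/

set_option autoImplicit false

namespace Cfsg.Agent.H105

open Finset

variable {G Ω : Type*} [Group G] [Fintype G] [Fintype Ω] [DecidableEq Ω] [MulAction G Ω]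

/-- number of points where `b` and `c` agree -/
def agree (c b : G) (Ω : Type*) [Fintype Ω] [DecidableEq Ω] [MulAction G Ω] : ℕ :=
  (univ.filter fun i : Ω => b • i = c • i).card

/-- number of fixed points -/
def nfix (b : G) (Ω : Type*) [Fintype Ω] [DecidableEq Ω] [MulAction G Ω] : ℕ :=
  (univ.filter fun i : Ω => b • i = i).card

/-- the set of `g` with `g b g⁻¹ x = y` -/
def tset (b : G) (x y : Ω) : Finset G := univ.filter fun g : G => b • (g⁻¹ • x) = g⁻¹ • y

omit [Fintype G] [Fintype Ω] [DecidableEq Ω] in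
theorem conj_smul_iff (b g : G) (x y : Ω) :
    b • (g⁻¹ • x) = g⁻¹ • y ↔ (g * b * g⁻¹) • x = y := by
  rw [mul_smul, mul_smul]
  constructor
  · intro h; rw [h, smul_inv_smul]
  · intro h; rw [← h, inv_smul_smul]

theorem mem_tset {b : G} {x y : Ω} {g : G} :
    g ∈ tset b x y ↔ (g * b * g⁻¹) • x = y := by
  unfold tset
  rw [mem_filter]
  simp only [mem_univ, true_and, mul_smul]
  constructor
  · intro h; rw [h, smul_inv_smul]
  · intro h; rw [← h, inv_smul_smul]

theorem tset_smul (b : G) (x y : Ω) (h : G) : (tset b (h • x) (h • y)).card = (tset b x y).card := by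
  refine card_bij (fun g _ => h⁻¹ * g) ?_ ?_ ?_
  · intro g hg
    unfold tset at hg ⊢
    rw [mem_filter] at hg ⊢
    refine ⟨mem_univ _, ?_⟩
    have := hg.2
    simpa [mul_inv_rev, mul_smul] using this
  · intro g _ g' _ hgg
    exact mul_left_cancel hgg
  · intro g hg
    unfold tset at hg
    rw [mem_filter] at hg
    refine ⟨h * g, ?_, by simp⟩
    unfold tset
    rw [mem_filter]
    refine ⟨mem_univ _, ?_⟩
    simpa [mul_inv_rev, mul_smul] using hg.2

/-- the set of `g` with `g b g⁻¹` fixing `x` and `y` -/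
def sset (b : G) (x y : Ω) : Finset G :=
  univ.filter fun g : G => b • (g⁻¹ • x) = g⁻¹ • x ∧ b • (g⁻¹ • y) = g⁻¹ • y

theorem sset_smul (b : G) (x y : Ω) (h : G) : (sset b (h • x) (h • y)).card = (sset b x y).card := by
  refine card_bij (fun g _ => h⁻¹ * g) ?_ ?_ ?_
  · intro g hg
    unfold sset at hg ⊢
    rw [mem_filter] at hg ⊢
    refine ⟨mem_univ _, ?_⟩
    have := hg.2
    simpa [mul_inv_rev, mul_smul] using this
  · intro g _ g' _ hgg
    exact mul_left_cancel hgg
  · intro g hg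
    unfold sset at hg
    rw [mem_filter] at hg
    refine ⟨h * g, ?_, by simp⟩
    unfold sset
    rw [mem_filter]
    refine ⟨mem_univ _, ?_⟩
    simpa [mul_inv_rev, mul_smul] using hg.2

theorem sum_tset_row (b : G) (x : Ω) : ∑ y : Ω, (tset b x y).card = Fintype.card G := by
  have : ∑ y : Ω, (tset b x y).card = ∑ y : Ω, ∑ g : G, if b • (g⁻¹ • x) = g⁻¹ • y then 1 else 0 := by
    refine sum_congr rfl fun y _ => ?_
    unfold tset
    rw [card_filter]
  rw [this, sum_comm, ← card_univ, card_eq_sum_ones]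
  refine sum_congr rfl fun g _ => ?_
  rw [Finset.sum_eq_single (g • (b • (g⁻¹ • x)))]
  · simp
  · intro y _ hy
    rw [if_neg]
    intro h
    apply hy
    rw [h]; simp
  · simp

theorem nfix_conj (b g : G) : nfix (g * b * g⁻¹) Ω = nfix b Ω := by
  unfold nfix
  symm
  refine card_bij (fun i _ => g • i) ?_ ?_ ?_
  · intro i hi
    have hi := (mem_filter.mp hi).2
    rw [mem_filter]
    exact ⟨mem_univ _, by simp [mul_smul, hi]⟩
  · intro i _ j _ hij
    exact MulAction.injective g hij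
  · intro j hj
    have hj := (mem_filter.mp hj).2
    refine ⟨g⁻¹ • j, ?_, by simp⟩
    rw [mem_filter]
    refine ⟨mem_univ _, ?_⟩
    apply MulAction.injective g
    simpa [mul_smul] using hj

theorem sum_tset_diag (b : G) : ∑ x : Ω, (tset b x x).card = Fintype.card G * nfix b Ω := by
  have : ∑ x : Ω, (tset b x x).card = ∑ x : Ω, ∑ g : G, if b • (g⁻¹ • x) = g⁻¹ • x then 1 else 0 := by
    refine sum_congr rfl fun y _ => ?_
    unfold tset
    rw [card_filter]
  rw [this, sum_comm, ← card_univ (α := G), card_eq_sum_ones, sum_mul]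
  refine sum_congr rfl fun g _ => ?_
  rw [one_mul, ← nfix_conj b g]
  unfold nfix
  rw [card_filter]
  refine sum_congr rfl fun x _ => ?_
  congr 1
  rw [eq_iff_iff, conj_smul_iff]

theorem sum_sset (b : G) : ∑ x : Ω, ∑ y : Ω, (sset b x y).card =
    Fintype.card G * (nfix b Ω * nfix b Ω) := by
  have : ∑ x : Ω, ∑ y : Ω, (sset b x y).card = ∑ x : Ω, ∑ y : Ω, ∑ g : G,
      if b • (g⁻¹ • x) = g⁻¹ • x ∧ b • (g⁻¹ • y) = g⁻¹ • y then 1 else 0 := by
    refine sum_congr rfl fun x _ => sum_congr rfl fun y _ => ?_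
    unfold sset
    rw [card_filter]
  rw [this]
  have h2 : ∀ x : Ω, ∑ y : Ω, ∑ g : G,
      (if b • (g⁻¹ • x) = g⁻¹ • x ∧ b • (g⁻¹ • y) = g⁻¹ • y then 1 else 0) =
      ∑ g : G, ∑ y : Ω,
      (if b • (g⁻¹ • x) = g⁻¹ • x ∧ b • (g⁻¹ • y) = g⁻¹ • y then 1 else 0) := fun x => sum_comm
  simp_rw [h2]
  rw [sum_comm, ← card_univ (α := G), card_eq_sum_ones, sum_mul]
  refine sum_congr rfl fun g _ => ?_
  rw [one_mul, ← nfix_conj b g]
  unfold nfix
  rw [← card_product, ← sum_product', card_eq_sum_ones, ← sum_filter]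
  refine sum_congr ?_ fun _ _ => rfl
  ext ⟨x, y⟩
  simp only [mem_filter, mem_product, mem_univ, true_and]
  rw [conj_smul_iff, conj_smul_iff]

section TwoTransitive

variable (h2 : ∀ x y x' y' : Ω, x ≠ y → x' ≠ y' → ∃ g : G, g • x = x' ∧ g • y = y')

include h2

theorem one_of_two (hN : 2 ≤ Fintype.card Ω) (x x' : Ω) : ∃ g : G, g • x = x' := by
  obtain ⟨y, hy⟩ := Fintype.exists_ne_of_one_lt_card (by omega) x
  obtain ⟨y', hy'⟩ := Fintype.exists_ne_of_one_lt_card (by omega) x'
  obtain ⟨g, hg, -⟩ := h2 x y x' y' hy.symm hy'.symm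
  exact ⟨g, hg⟩

/-- **The average.** -/
theorem two_trans_average (hN : 2 ≤ Fintype.card Ω) (b c : G) (K : ℕ)
    (hK : ∀ g : G, agree c (g * b * g⁻¹) Ω = K) :
    (K : ℤ) * (Fintype.card Ω - 1) =
      (Fintype.card Ω - 1) + (nfix b Ω - 1) * (nfix c Ω - 1) ∧
    ∀ (x0 : Ω), (Fintype.card Ω : ℤ) * (tset b x0 x0).card = Fintype.card G * nfix b Ω := by
  have h2t : ∀ x y x' y' : Ω, x ≠ y → x' ≠ y' → (tset b x y).card = (tset b x' y').card := by
    intro x y x' y' hxy hxy'
    obtain ⟨g, hg1, hg2⟩ := h2 x y x' y' hxy hxy'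
    rw [← tset_smul b x y g, hg1, hg2]
  have h1t : ∀ x x' : Ω, (tset b x x).card = (tset b x' x').card := by
    intro x x'
    obtain ⟨g, hg1⟩ := one_of_two h2 hN x x'
    rw [← tset_smul b x x g, hg1]
  obtain ⟨x0, x1, h01⟩ := Fintype.exists_pair_of_one_lt_card (α := Ω) (by omega)
  set T0 := (tset b x0 x0).card with hT0
  set T1 := (tset b x0 x1).card with hT1
  have e1 : (Fintype.card Ω : ℤ) * T0 = Fintype.card G * nfix b Ω := by
    have h := sum_tset_diag (Ω := Ω) b
    rw [sum_congr rfl fun x _ => h1t x x0, sum_const, card_univ, smul_eq_mul] at h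
    exact_mod_cast h
  have e2 : (T0 : ℤ) + (Fintype.card Ω - 1) * T1 = Fintype.card G := by
    have h3 := sum_tset_row b x0
    rw [← Finset.add_sum_erase univ _ (mem_univ x0)] at h3
    rw [sum_congr rfl (g := fun _ => T1)
      (fun y hy => h2t x0 y x0 x1 (ne_of_mem_erase hy).symm h01),
      sum_const, card_erase_of_mem (mem_univ x0), card_univ, smul_eq_mul] at h3
    rw [← h3]
    push_cast
    rw [Nat.cast_sub (by omega)]
    push_cast
    ring
  have hgr : ∑ x : Ω, (tset b x (c • x)).card = Fintype.card G * K := by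
    have : ∑ x : Ω, (tset b x (c • x)).card =
        ∑ x : Ω, ∑ g : G, if b • (g⁻¹ • x) = g⁻¹ • (c • x) then 1 else 0 := by
      refine sum_congr rfl fun y _ => ?_
      unfold tset
      rw [card_filter]
    rw [this, sum_comm, ← card_univ (α := G), card_eq_sum_ones, sum_mul]
    refine sum_congr rfl fun g _ => ?_
    rw [one_mul, ← hK g]
    unfold agree
    rw [card_filter]
    refine sum_congr rfl fun x _ => ?_
    congr 1
    rw [eq_iff_iff, conj_smul_iff]
  have e3 : (Fintype.card G : ℤ) * K = nfix c Ω * T0 + (Fintype.card Ω - nfix c Ω) * T1 := by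
    have h4 : ∀ x : Ω, (tset b x (c • x)).card = if c • x = x then T0 else T1 := by
      intro x
      by_cases hx : c • x = x
      · rw [if_pos hx, hx]; exact h1t x x0
      · rw [if_neg hx]; exact h2t x (c • x) x0 x1 (fun h => hx h.symm) h01
    rw [sum_congr rfl (fun x _ => h4 x), sum_ite, sum_const, sum_const, smul_eq_mul,
      smul_eq_mul] at hgr
    have h5 : (univ.filter fun x : Ω => ¬ c • x = x).card = Fintype.card Ω - nfix c Ω := by
      have := card_filter_add_card_filter_not (s := (univ : Finset Ω)) (fun x => c • x = x)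
      rw [card_univ] at this
      unfold nfix
      omega
    have h6 : nfix c Ω ≤ Fintype.card Ω := by
      have := card_filter_le (univ : Finset Ω) (fun x => c • x = x)
      rw [card_univ] at this
      exact this
    have h7 : (univ.filter fun x : Ω => c • x = x).card = nfix c Ω := rfl
    rw [h5, h7] at hgr
    rw [← Nat.cast_mul, ← hgr]
    push_cast
    rw [Nat.cast_sub h6]
  have hG0 : (Fintype.card G : ℤ) ≠ 0 := by
    have : 0 < Fintype.card G := Fintype.card_pos
    exact_mod_cast this.ne'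
  have hN0 : (Fintype.card Ω : ℤ) ≠ 0 := by
    have : 0 < Fintype.card Ω := by omega
    exact_mod_cast this.ne'
  refine ⟨?_, fun x => by rw [h1t x x0]; exact e1⟩
  apply mul_left_cancel₀ hG0
  apply mul_left_cancel₀ hN0
  set N : ℤ := (Fintype.card Ω : ℤ)
  calc N * (Fintype.card G * (K * (N - 1))) = (Fintype.card G * K) * (N * (N - 1)) := by ring
    _ = nfix c Ω * (N - 1) * (N * T0) + (N - nfix c Ω) * (N * ((N - 1) * T1)) := by rw [e3]; ring
    _ = nfix c Ω * (N - 1) * (N * T0) + (N - nfix c Ω) * (N * Fintype.card G - N * T0) := by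
        rw [← e2]; ring
    _ = N * (Fintype.card G * ((N - 1) + (nfix b Ω - 1) * (nfix c Ω - 1))) := by rw [e1]; ring

/-- **Common fixed points.** If `g b g⁻¹` and `c` have a common fixed point, they do not agree on
a point moved by `c`. -/
theorem two_trans_common (hN : 2 ≤ Fintype.card Ω) (b c : G) (K : ℕ)
    (hK : ∀ g : G, agree c (g * b * g⁻¹) Ω = K) (g : G) (p w : Ω) (hcp : c • p = p)
    (hbp : (g * b * g⁻¹) • p = p) (hcw : c • w ≠ w) : (g * b * g⁻¹) • w ≠ c • w := by
  intro hbw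
  obtain ⟨hav, hT⟩ := two_trans_average h2 hN b c K hK
  -- the sum over `g` of (common fixed points) * K
  set N : ℤ := (Fintype.card Ω : ℤ) with hNdef
  obtain ⟨x0, x1, h01⟩ := Fintype.exists_pair_of_one_lt_card (α := Ω) (by omega)
  have h1t : ∀ x : Ω, (tset b x x).card = (tset b x0 x0).card := by
    intro x
    obtain ⟨g, hg1⟩ := one_of_two h2 hN x x0
    rw [← tset_smul b x x g, hg1]
  have hs2 : ∀ x y : Ω, x ≠ y → (sset b x y).card = (sset b x0 x1).card := by
    intro x y hxy
    obtain ⟨g, hg1, hg2⟩ := h2 x y x0 x1 hxy h01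
    rw [← sset_smul b x y g, hg1, hg2]
  have hs1 : ∀ x : Ω, (sset b x x).card = (tset b x0 x0).card := by
    intro x
    rw [← h1t x]
    unfold sset tset
    simp only [and_self]
  have hT0 := hT x0
  set T0 := (tset b x0 x0).card with hT0'
  set S2 := (sset b x0 x1).card with hS2'
  have inner : ∀ (F : Finset Ω) (x : Ω), x ∈ F → ∑ y ∈ F, (sset b x y).card = T0 + (F.card - 1) * S2 := by
    intro F x hx
    rw [← Finset.add_sum_erase F _ hx, hs1 x]
    rw [sum_congr rfl (g := fun _ => S2) (fun y hy => hs2 x y (ne_of_mem_erase hy).symm),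
      sum_const, card_erase_of_mem hx, smul_eq_mul]
  have e2 : N * T0 + N * (N - 1) * S2 = Fintype.card G * (nfix b Ω * nfix b Ω) := by
    have h := sum_sset (Ω := Ω) b
    rw [sum_congr rfl fun x _ => inner univ x (mem_univ x), sum_const, card_univ, smul_eq_mul] at h
    have h' : (Fintype.card Ω : ℤ) * (T0 + ((Fintype.card Ω - 1 : ℕ) : ℤ) * S2) =
        Fintype.card G * (nfix b Ω * nfix b Ω) := by exact_mod_cast h
    rw [Nat.cast_sub (by omega)] at h'
    rw [← h']
    push_cast
    ring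
  let C : Finset Ω := univ.filter fun x : Ω => c • x = x
  have hCcard : C.card = nfix c Ω := rfl
  have hpC : p ∈ C := mem_filter.mpr ⟨mem_univ _, hcp⟩
  -- count the triples
  have hZ : ∑ g : G, (univ.filter fun x : Ω => (g * b * g⁻¹) • x = x ∧ c • x = x).card *
      agree c (g * b * g⁻¹) Ω = K * (nfix c Ω * T0) := by
    have h3 : ∑ g : G, (univ.filter fun x : Ω => (g * b * g⁻¹) • x = x ∧ c • x = x).card =
        nfix c Ω * T0 := by
      have h4 : ∀ g : G, (univ.filter fun x : Ω => (g * b * g⁻¹) • x = x ∧ c • x = x).card =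
          ∑ x ∈ C, if b • (g⁻¹ • x) = g⁻¹ • x then 1 else 0 := by
        intro g
        rw [← card_filter]
        congr 1
        ext x
        simp only [C, mem_filter, mem_univ, true_and, conj_smul_iff]
        exact and_comm
      rw [sum_congr rfl fun g _ => h4 g, sum_comm]
      rw [sum_congr rfl (g := fun _ => T0) fun x _ => by
        rw [← card_filter]; exact h1t x]
      rw [sum_const, smul_eq_mul, hCcard]
    rw [← h3, mul_sum]
    refine sum_congr rfl fun g _ => ?_
    rw [hK g, mul_comm]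
  have hZ2 : ∑ g : G, (univ.filter fun x : Ω => (g * b * g⁻¹) • x = x ∧ c • x = x).card *
      agree c (g * b * g⁻¹) Ω =
      ∑ x ∈ C, ∑ y : Ω, (univ.filter fun g : G => b • (g⁻¹ • x) = g⁻¹ • x ∧
        b • (g⁻¹ • y) = g⁻¹ • (c • y)).card := by
    have h5 : ∀ g : G, (univ.filter fun x : Ω => (g * b * g⁻¹) • x = x ∧ c • x = x).card *
      agree c (g * b * g⁻¹) Ω = ∑ x ∈ C, ∑ y : Ω, if b • (g⁻¹ • x) = g⁻¹ • x ∧
        b • (g⁻¹ • y) = g⁻¹ • (c • y) then 1 else 0 := by
      intro g
      unfold agree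
      rw [← card_product, ← sum_product', card_eq_sum_ones, ← sum_filter]
      refine sum_congr ?_ fun _ _ => rfl
      ext ⟨x, y⟩
      simp only [C, mem_filter, mem_product, mem_univ, true_and, and_true, conj_smul_iff]
      tauto
    rw [sum_congr rfl fun g _ => h5 g, sum_comm]
    refine sum_congr rfl fun x _ => ?_
    rw [sum_comm]
    refine sum_congr rfl fun y _ => ?_
    rw [card_filter]
  have hlow : ∀ x ∈ C, T0 + (C.card - 1) * S2 ≤ ∑ y : Ω, (univ.filter fun g : G =>
      b • (g⁻¹ • x) = g⁻¹ • x ∧ b • (g⁻¹ • y) = g⁻¹ • (c • y)).card := by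
    intro x hx
    rw [← inner C x hx]
    refine le_trans (le_of_eq ?_) (sum_le_sum_of_subset (subset_univ C))
    refine sum_congr rfl fun y hy => ?_
    unfold sset
    rw [(mem_filter.mp hy).2]
  have hlow' : T0 + (C.card - 1) * S2 + 1 ≤ ∑ y : Ω, (univ.filter fun g : G =>
      b • (g⁻¹ • p) = g⁻¹ • p ∧ b • (g⁻¹ • y) = g⁻¹ • (c • y)).card := by
    rw [← inner C p hpC]
    have hw : w ∉ C := fun h => hcw (mem_filter.mp h).2
    have h6 : ∑ y ∈ insert w C, (univ.filter fun g : G =>
      b • (g⁻¹ • p) = g⁻¹ • p ∧ b • (g⁻¹ • y) = g⁻¹ • (c • y)).card ≤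
        ∑ y : Ω, (univ.filter fun g : G =>
      b • (g⁻¹ • p) = g⁻¹ • p ∧ b • (g⁻¹ • y) = g⁻¹ • (c • y)).card :=
      sum_le_sum_of_subset (subset_univ _)
    rw [sum_insert hw] at h6
    have h7 : 1 ≤ (univ.filter fun g : G =>
      b • (g⁻¹ • p) = g⁻¹ • p ∧ b • (g⁻¹ • w) = g⁻¹ • (c • w)).card := by
      apply card_pos.mpr
      refine ⟨g, mem_filter.mpr ⟨mem_univ _, ?_⟩⟩
      rw [conj_smul_iff, conj_smul_iff]
      exact ⟨hbp, hbw⟩
    have h8 : ∑ y ∈ C, (sset b p y).card = ∑ y ∈ C, (univ.filter fun g : G =>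
      b • (g⁻¹ • p) = g⁻¹ • p ∧ b • (g⁻¹ • y) = g⁻¹ • (c • y)).card := by
      refine sum_congr rfl fun y hy => ?_
      unfold sset
      rw [(mem_filter.mp hy).2]
    rw [h8]
    omega
  have hfin : C.card * (T0 + (C.card - 1) * S2) + 1 ≤ K * (nfix c Ω * T0) := by
    rw [← hZ, hZ2]
    have h9 : ∑ x ∈ C, (if x = p then T0 + (C.card - 1) * S2 + 1 else T0 + (C.card - 1) * S2) ≤
        ∑ x ∈ C, ∑ y : Ω, (univ.filter fun g : G => b • (g⁻¹ • x) = g⁻¹ • x ∧
        b • (g⁻¹ • y) = g⁻¹ • (c • y)).card := by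
      refine sum_le_sum fun x hx => ?_
      by_cases hxp : x = p
      · rw [if_pos hxp, hxp]; exact hlow'
      · rw [if_neg hxp]; exact hlow x hx
    refine le_trans (le_of_eq ?_) h9
    rw [← Finset.add_sum_erase C _ hpC, if_pos rfl,
      sum_congr rfl (g := fun _ => T0 + (C.card - 1) * S2) (fun x hx => if_neg (ne_of_mem_erase hx)),
      sum_const, card_erase_of_mem hpC, smul_eq_mul]
    have hCpos : 0 < C.card := card_pos.mpr ⟨p, hpC⟩
    obtain ⟨m, hm⟩ : ∃ m, C.card = m + 1 := ⟨C.card - 1, by omega⟩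
    rw [hm]
    simp only [Nat.add_sub_cancel]
    ring
  have hCpos : 0 < C.card := card_pos.mpr ⟨p, hpC⟩
  have hfinz : (nfix c Ω : ℤ) * (T0 + (nfix c Ω - 1) * S2) + 1 ≤ K * (nfix c Ω * T0) := by
    have h10 : ((C.card * (T0 + (C.card - 1) * S2) + 1 : ℕ) : ℤ) ≤ ((K * (nfix c Ω * T0) : ℕ) : ℤ) := by
      exact_mod_cast hfin
    push_cast at h10
    rw [Nat.cast_sub hCpos, hCcard] at h10
    push_cast at h10
    exact h10
  have hNpos : 0 < N * (N - 1) := by
    have : (2 : ℤ) ≤ N := by rw [hNdef]; exact_mod_cast hN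
    nlinarith
  have h11 := mul_le_mul_of_nonneg_left hfinz hNpos.le
  -- evaluate both sides
  have e3 : N * (N - 1) * (K * (nfix c Ω * T0)) =
      ((N - 1) + (nfix b Ω - 1) * (nfix c Ω - 1)) * nfix c Ω * (Fintype.card G * nfix b Ω) := by
    rw [← hav, ← hT0]; ring
  have e4 : N * (N - 1) * ((nfix c Ω : ℤ) * (T0 + (nfix c Ω - 1) * S2) + 1) =
      (nfix c Ω : ℤ) * (N - 1) * (N * T0) + nfix c Ω * (nfix c Ω - 1) * (N * (N - 1) * S2) +
        N * (N - 1) := by ring
  have e5 : N * (N - 1) * S2 = Fintype.card G * (nfix b Ω * nfix b Ω) - Fintype.card G * nfix b Ω := by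
    rw [← e2, ← hT0]; ring
  rw [e3, e4, e5, hT0] at h11
  nlinarith

end TwoTransitive

end Cfsg.Agent.H105
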