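import Mathlib
import Cfsg.Agent.H105.SzTransfer
import Cfsg.Agent.S2271
import Cfsg.Agent.S2272
import Cfsg.Agent.S2450
import Cfsg.Prelude.Def_Classical

/-!
# Szep's conjecture for alternating and linear groups
-/

set_option autoImplicit false

namespace Cfsg.Agent.H105.Sz

open Cfsg

/-- products of conjugates are conjugate in a product of two centralizers. -/
theorem isConj_of_bad {G : Type*} [Group G] {a b : G}
    (h : ∀ g : G, ∃ x ∈ Subgroup.centralizer ({a} : Set G), ∃ y ∈ Subgroup.centralizer ({b} : Set G),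
      g = x * y) (u v : G) : IsConj (a * b) (u * a * u⁻¹ * (v * b * v⁻¹)) := by
  obtain ⟨x, hx, y, hy, e⟩ := h (u⁻¹ * v)
  rw [Subgroup.mem_centralizer_singleton_iff] at hx hy
  have hv : v = u * (x * y) := by rw [← e]; group
  rw [isConj_iff]
  refine ⟨u * x, ?_⟩
  have h1 : y * b * y⁻¹ = b := by rw [hy, mul_inv_cancel_right]
  have h2 : x * a * x⁻¹ = a := by rw [hx, mul_inv_cancel_right]
  calc u * x * (a * b) * (u * x)⁻¹ = u * (x * a * x⁻¹) * (x * b * x⁻¹) * u⁻¹ := by group
    _ = u * a * (x * (y * b * y⁻¹) * x⁻¹) * u⁻¹ := by rw [h2, h1]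
    _ = u * a * u⁻¹ * (u * (x * y) * b * (u * (x * y))⁻¹) := by group
    _ = u * a * u⁻¹ * (v * b * v⁻¹) := by rw [← hv]

theorem szep_of_isConj {G : Type*} [Group G]
    (h : ∀ a b : G, a ≠ 1 → b ≠ 1 → ∃ u v : G, ¬ IsConj (a * b) (u * a * u⁻¹ * (v * b * v⁻¹))) :
    Szep G := by
  intro a b ha hb
  by_contra hcon
  push Not at hcon
  obtain ⟨u, v, huv⟩ := h a b ha hb
  exact huv (isConj_of_bad hcon u v)

theorem card_fix_conj {n : ℕ} (p u : Equiv.Perm (Fin n)) :
    Nat.card (Function.fixedPoints ⇑(u * p * u⁻¹)) = Nat.card (Function.fixedPoints ⇑p) := by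
  have e : Function.fixedPoints ⇑(u * p * u⁻¹) = u '' Function.fixedPoints ⇑p := by
    ext x
    constructor
    · intro hx
      have hx' : u (p (u⁻¹ x)) = x := hx
      refine ⟨u⁻¹ x, ?_, by simp⟩
      change p (u⁻¹ x) = u⁻¹ x
      apply u.injective
      rw [hx']
      simp
    · rintro ⟨y, hy, rfl⟩
      have hy' : p y = y := hy
      change u (p (u⁻¹ (u y))) = u y
      rw [show u⁻¹ (u y) = y from u.symm_apply_apply y, hy']
  rw [e]
  exact Nat.card_image_of_injective u.injective _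

theorem szep_of_isAlternating {G : Type*} [Group G] (h : IsAlternating G) : Szep G := by
  obtain ⟨n, hn, ⟨e⟩⟩ := h
  refine Szep.of_equiv e ?_
  intro a b ha hb
  by_contra hcon
  push Not at hcon
  obtain ⟨g1, h1, g2, h2, hg1, hh1, hg2, hh2, hne⟩ := Cfsg.Agent.S2271.result n hn a b
    (fun h => ha (Subtype.ext h)) (fun h => hb (Subtype.ext h))
  apply hne
  have key : ∀ g k : Equiv.Perm (Fin n), g ∈ alternatingGroup (Fin n) → k ∈ alternatingGroup (Fin n) →
      Nat.card (Function.fixedPoints ⇑(g * a * g⁻¹ * (k * b * k⁻¹))) =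
        Nat.card (Function.fixedPoints ⇑((a : Equiv.Perm (Fin n)) * b)) := by
    intro g k hg hk
    obtain ⟨c, hc⟩ := isConj_iff.1 (isConj_of_bad hcon ⟨g, hg⟩ ⟨k, hk⟩)
    have hc' : (c : Equiv.Perm (Fin n)) * (a * b) * (c : Equiv.Perm (Fin n))⁻¹ =
        g * a * g⁻¹ * (k * b * k⁻¹) := congrArg Subtype.val hc
    rw [← hc', card_fix_conj]
  rw [key _ _ hg1 hh1, key _ _ hg2 hh2]

theorem szep_of_isPSL {G : Type*} [Group G] (h : IsPSL G) : Szep G := by
  obtain ⟨F, _, _, n, hn, h4, ⟨e⟩⟩ := h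
  refine Szep.of_equiv e ?_
  rcases Nat.lt_or_ge 2 n with h3 | h3
  · exact szep_of_isConj fun a b ha hb => Cfsg.Agent.S2272.result n h3 a b ha hb
  · obtain rfl : n = 2 := by omega
    refine szep_of_isConj fun a b ha hb => ?_
    by_contra hcon
    push Not at hcon
    refine Cfsg.Agent.S2450.result (h4 rfl) a b ha hb (a * b) ?_
    ext g
    constructor
    · rintro ⟨u, v, rfl⟩
      exact hcon u v
    · intro hg
      obtain ⟨c, hc⟩ := isConj_iff.1 hg
      refine ⟨c, c, ?_⟩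
      rw [← hc]
      group

end Cfsg.Agent.H105.Sz
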