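import Mathlib
import Cfsg.Agent.H105.SzO5
import Cfsg.Agent.H174.AltRank
import Cfsg.Agent.H141.SpinOdd

/-!
# Products of two centralizers in orthogonal groups, part 10: odd characteristic, `b` is minus a
reflection
-/

set_option autoImplicit false

namespace Cfsg.Agent.H105.SzO

open Module QuadraticMap Cfsg.Agent.LieClassical.OrthCore Cfsg.Agent.LieClassical.OrthTrans
open Cfsg.Agent.LieClassical.OrthFinite Cfsg.Agent.H955 Cfsg.Agent.H105.Sz
open Cfsg.Agent.H141.SpinFacts Cfsg.Agent.H160.QSpin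

universe u v w

section Lin

variable {K : Type u} [Field K] {V : Type v} [AddCommGroup V] [Module K V]
  {Q : QuadraticForm K V} [FiniteDimensional K V]

/-- in odd dimension no automorphism is conjugate to its negative. -/
theorem no_sign_of_odd (h2 : (2 : K) ≠ 0) (hodd : Odd (finrank K V)) {a x : V ≃ₗ[K] V} {b : V ≃ₗ[K] V}
    (hdet : LinearMap.det (a : V →ₗ[K] V) = LinearMap.det (b : V →ₗ[K] V))
    (h : ∀ v, a (x v) = -x (b v)) : False := by
  have e : (a : V →ₗ[K] V) * (x : V →ₗ[K] V) = (-1 : K) • ((x : V →ₗ[K] V) * (b : V →ₗ[K] V)) := by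
    ext v
    change a (x v) = (-1 : K) • x (b v)
    rw [h, neg_smul, one_smul]
  have e1 := congrArg LinearMap.det e
  rw [map_mul, LinearMap.det_smul, map_mul, hodd.neg_one_pow, hdet] at e1
  have hb : LinearMap.det (b : V →ₗ[K] V) ≠ 0 := (LinearEquiv.isUnit_det' b).ne_zero
  have hx : LinearMap.det (x : V →ₗ[K] V) ≠ 0 := (LinearEquiv.isUnit_det' x).ne_zero
  have e2 : (2 : K) * (LinearMap.det (b : V →ₗ[K] V) * LinearMap.det (x : V →ₗ[K] V)) = 0 := by
    linear_combination e1
  rcases mul_eq_zero.1 e2 with h | h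
  · exact h2 h
  · exact mul_ne_zero hb hx h

/-- a skew map has even rank. -/
theorem even_rank_skew (h2 : (2 : K) ≠ 0) (hQ : Nondeg Q) {T : V →ₗ[K] V}
    (hT : ∀ x y, polar Q (T x) y = -polar Q x (T y)) : Even (finrank K (LinearMap.range T)) := by
  let β : LinearMap.BilinForm K V := (polarBilin Q) ∘ₗ T
  have hβ : ∀ x y, β x y = polar Q (T x) y := fun _ _ => rfl
  have halt : β.IsAlt := by
    intro x
    rw [hβ]
    have h3 := hT x x
    rw [polar_comm Q x] at h3
    have h4 : 2 * polar Q (T x) x = 0 := by linear_combination h3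
    exact (mul_eq_zero.1 h4).resolve_left h2
  have hinj : Function.Injective (polarBilin Q : V →ₗ[K] (V →ₗ[K] K)) := by
    rw [← LinearMap.ker_eq_bot, Submodule.eq_bot_iff]
    intro x hx
    exact hQ x (fun y => by
      have : (polarBilin Q x) y = 0 := by rw [LinearMap.mem_ker.1 hx]; rfl
      exact this)
  have h3 := Cfsg.Agent.H174.even_finrank_range_of_isAlt β halt
  have h4 : LinearMap.range β = (LinearMap.range T).map (polarBilin Q) := LinearMap.range_comp _ _
  rw [h4] at h3
  have h5 : finrank K ((LinearMap.range T).map (polarBilin Q : V →ₗ[K] (V →ₗ[K] K))) =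
      finrank K (LinearMap.range T) :=
    ((LinearMap.range T).equivMapOfInjective _ hinj).symm.finrank_eq
  rw [h5] at h3
  exact h3

/-- a skew isometry in odd dimension is `±(1+s)`. -/
theorem exists_unip (h2 : (2 : K) ≠ 0) (hQ : Nondeg Q) (hodd : Odd (finrank K V)) {a : V ≃ₗ[K] V}
    (ha : a ∈ O Q) {c : K} (hc : ∀ v, a v + a⁻¹ v = c • v) :
    ∃ l : K, l * l = 1 ∧ c = 2 * l := by
  let T : V →ₗ[K] V := (a : V →ₗ[K] V) - (c / 2) • LinearMap.id
  have hT : ∀ x y, polar Q (T x) y = -polar Q x (T y) := by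
    intro x y
    have h3 := polar_skew ha hc x y
    change polar Q (a x - (c / 2) • x) y = -polar Q x (a y - (c / 2) • y)
    rw [polar_sub_left, polar_sub_right, polar_smul_left, polar_smul_right, smul_eq_mul]
    field_simp
    linear_combination 2 * h3
  have h3 := even_rank_skew h2 hQ hT
  have h4 := LinearMap.finrank_range_add_finrank_ker T
  have h5 : LinearMap.ker T ≠ ⊥ := by
    intro hbot
    rw [hbot, finrank_bot, add_zero] at h4
    rw [h4] at h3
    exact (Nat.not_even_iff_odd.2 hodd) h3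
  obtain ⟨x, hx, hx0⟩ := Submodule.exists_mem_ne_zero_of_ne_bot h5
  have hx' : a x = (c / 2) • x := by
    have : a x - (c / 2) • x = 0 := hx
    exact sub_eq_zero.1 this
  have hl0 : c / 2 ≠ 0 := by
    intro h0
    rw [h0, zero_smul] at hx'
    exact hx0 ((LinearEquiv.map_eq_zero_iff a).1 hx')
  have h6 : a⁻¹ x = (c / 2)⁻¹ • x := by
    apply a.injective
    have : a (a⁻¹ x) = x := a.apply_symm_apply x
    rw [this, map_smul, hx', smul_smul, inv_mul_cancel₀ hl0, one_smul]
  have h7 := hc x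
  rw [hx', h6, ← add_smul] at h7
  have h8 : (c / 2 + (c / 2)⁻¹ - c) • x = 0 := by rw [sub_smul, h7, sub_self]
  have h9 := (smul_eq_zero.1 h8).resolve_right hx0
  refine ⟨c / 2, ?_, by field_simp⟩
  have h10 : (c / 2)⁻¹ = c / 2 := by
    have : c = c / 2 + c / 2 := by field_simp; ring
    linear_combination h9 + this
  nth_rewrite 1 [← h10]
  exact inv_mul_cancel₀ hl0

end Lin

section Step3

variable {K : Type u} [Field K] [Finite K] {V : Type v} [AddCommGroup V] [Module K V]
  {Q : QuadraticForm K V} [FiniteDimensional K V]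

omit [Finite K] [FiniteDimensional K V] in
/-- an involution whose `(-1)`-eigenspace (up to sign `e`) is a line is a reflection. -/
theorem eq_refl (h2 : (2 : K) ≠ 0) {b : V ≃ₗ[K] V} {e : K} {w : V} (hw : Q w ≠ 0)
    (hbw : b w = e • w) (hb : ∀ x, polar Q x w = 0 → b x = -(e • x)) (v : V) :
    b v = -(e • refl Q w hw v) := by
  set k := (Q w)⁻¹ * polar Q w v * 2⁻¹ with hk
  have h3 : polar Q (v - k • w) w = 0 := by
    rw [polar_sub_left, polar_smul_left, polar_self', smul_eq_mul, hk, polar_comm Q v w]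
    field_simp
    ring
  have h4 := hb _ h3
  have h5 : v = (v - k • w) + k • w := by abel
  have h6 : b v = -(e • (v - k • w)) + k • (e • w) := by
    conv_lhs => rw [h5]
    rw [map_add, h4, map_smul, hbw]
  rw [h6, refl_apply]
  have h7 : (Q w)⁻¹ * polar Q w v = 2 * k := by
    rw [hk]
    field_simp
  rw [h7]
  module

/-- the spinor argument -/
theorem spin_arg (h2 : (2 : K) ≠ 0) (hQ : Nondeg Q) {R : Submodule K V} (hR : ∀ x ∈ R, Q x = 0)
    (hRe : Even (finrank K R)) {z : V} (hz : Q z ≠ 0) (hzR : z ∈ perp Q R)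
    (hdec : ∀ v ∈ perp Q R, ∃ r ∈ R, ∃ c : K, v = r + c • z) (nb : V ≃ₗ[K] V) (hnb : ∀ v, nb v = -v)
    (hnbO : nb ∈ O Q) [Finite V] :
    spin Q ⟨nb, hnbO⟩ = spin Q ⟨refl Q z hz, refl_mem_O hz⟩ := by
  obtain ⟨k, hk⟩ := hRe
  -- a complex structure on `R`
  have hfr : finrank K R = finrank K ((Fin k → K) × (Fin k → K)) := by
    rw [hk, finrank_prod, finrank_fin_fun]
  let e := LinearEquiv.ofFinrankEq R ((Fin k → K) × (Fin k → K)) hfr
  let J0 : ((Fin k → K) × (Fin k → K)) →ₗ[K] ((Fin k → K) × (Fin k → K)) :=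
    LinearMap.prod (-(LinearMap.snd K _ _)) (LinearMap.fst K _ _)
  have hJ0 : ∀ x, J0 (J0 x) = -x := by
    rintro ⟨x, y⟩
    rfl
  let J : R →ₗ[K] R := (e.symm : _ →ₗ[K] R) ∘ₗ J0 ∘ₗ (e : R →ₗ[K] _)
  have hJ : ∀ x, J (J x) = -x := by
    intro x
    change e.symm (J0 (e (e.symm (J0 (e x))))) = -x
    rw [e.apply_symm_apply, hJ0, map_neg, e.symm_apply_apply]
  have hJinj : Function.Injective J := by
    intro x y hxy
    have := congrArg J hxy
    rw [hJ, hJ, neg_inj] at this
    exact this
  obtain ⟨g, hg, hgJ⟩ := Cfsg.Agent.H958.witt_maps hQ R.subtype (R.subtype ∘ₗ J)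
    (Submodule.subtype_injective R) ((Submodule.subtype_injective R).comp hJinj)
    (fun x => by
      change Q (J x : V) = Q (x : V)
      rw [hR _ (J x).2, hR _ x.2])
  have hgR : ∀ x : R, g (x : V) = (J x : V) := hgJ
  have hggR : ∀ x ∈ R, g (g x) = -x := by
    intro x hx
    have h3 := hgR ⟨x, hx⟩
    change g x = _ at h3
    rw [h3, hgR, hJ]
    rfl
  have hgRR : ∀ x ∈ R, g x ∈ R := by
    intro x hx
    have h3 := hgR ⟨x, hx⟩
    change g x = _ at h3
    rw [h3]
    exact (J ⟨x, hx⟩).2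
  -- `g` preserves `R^⊥`
  have hgP : ∀ x ∈ perp Q R, g x ∈ perp Q R := by
    intro x hx r hr
    have h3 : r = g (g (-r)) := by rw [map_neg, map_neg, hggR r hr, neg_neg]
    have h4 : g (-r) ∈ R := hgRR _ (R.neg_mem hr)
    rw [h3, polar_map hg]
    exact hx _ h4
  obtain ⟨r0, hr0, ε, hgz⟩ := hdec _ (hgP z hzR)
  have hQr : ∀ r ∈ R, ∀ c : K, Q (r + c • z) = c * c * Q z := by
    intro r hr c
    rw [Q_add, hR r hr, QuadraticMap.map_smul, polar_smul_right, hzR r hr, smul_eq_mul]
    simp
  have hε : ε * ε = 1 := by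
    have h3 := mem_O.1 hg z
    rw [hgz, hQr r0 hr0] at h3
    have h4 : (ε * ε - 1) * Q z = 0 := by linear_combination h3
    have := (mul_eq_zero.1 h4).resolve_right hz
    linear_combination this
  -- the unipotent element
  let u : V ≃ₗ[K] V := nb * (g * g) * refl Q z hz
  have hu : ∀ v, u v = -(g (g (refl Q z hz v))) := fun v => hnb _
  have huO : u ∈ O Q := (O Q).mul_mem ((O Q).mul_mem hnbO ((O Q).mul_mem hg hg)) (refl_mem_O hz)
  have huR : ∀ r ∈ R, u r = r := by
    intro r hr
    rw [hu, refl_apply, polar_comm, hzR r hr, mul_zero, zero_smul, sub_zero, hggR r hr, neg_neg]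
  have hrz : refl Q z hz z = -z := by
    rw [refl_apply, polar_self']
    have : (Q z)⁻¹ * (2 * Q z) = 2 := by field_simp
    rw [this, two_smul]
    abel
  have huz : ∃ r ∈ R, u z = z + r := by
    refine ⟨ε • r0 + g r0, R.add_mem (R.smul_mem _ hr0) (hgRR _ hr0), ?_⟩
    rw [hu, hrz, map_neg, map_neg, neg_neg, hgz, map_add, map_smul, hgz, smul_add, smul_smul, hε,
      one_smul]
    abel
  have huP : ∀ v ∈ perp Q R, u v - v ∈ R := by
    intro v hv
    obtain ⟨r, hr, c, rfl⟩ := hdec v hv
    obtain ⟨r', hr', e1⟩ := huz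
    rw [map_add, map_smul, huR r hr, e1]
    have : r + c • (z + r') - (r + c • z) = c • r' := by module
    rw [this]
    exact R.smul_mem _ hr'
  have huV : ∀ v, u v - v ∈ perp Q R := by
    intro v r hr
    have h3 := polar_map huO r v
    rw [huR r hr] at h3
    rw [polar_sub_right, h3, sub_self]
  have hcube : ∀ x, u (u (u x)) - 3 • u (u x) + 3 • u x - x = 0 := by
    intro x
    have h3 := huP _ (huV x)
    have h4 := huR _ h3
    simp only [map_sub] at h4
    have h5 : u (u (u x)) - 3 • u (u x) + 3 • u x - x =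
        (u (u (u x)) - u (u x) - (u (u x) - u x)) - (u (u x) - u x - (u x - x)) := by
      rw [show (3 : ℕ) = 1 + 1 + 1 from rfl]
      simp only [add_smul, one_smul]
      abel
    rw [h5, h4, sub_self]
  obtain ⟨m, hm, hum, -⟩ := pow_eq_one_of_cube h2 u hcube
  have hsu : spin Q ⟨u, huO⟩ = 1 := hom_eq_one_of_odd (spin Q) ⟨m, hm, Subtype.ext hum⟩
  have e3 : (⟨u, huO⟩ : O Q) = ⟨nb, hnbO⟩ * (⟨g, hg⟩ * ⟨g, hg⟩) * ⟨refl Q z hz, refl_mem_O hz⟩ := rfl
  rw [e3, map_mul, map_mul, map_mul, Int.units_mul_self, mul_one] at hsu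
  have h6 := Int.units_mul_self (spin Q ⟨refl Q z hz, refl_mem_O hz⟩)
  calc spin Q ⟨nb, hnbO⟩ = spin Q ⟨nb, hnbO⟩ * (spin Q ⟨refl Q z hz, refl_mem_O hz⟩ *
        spin Q ⟨refl Q z hz, refl_mem_O hz⟩) := by rw [h6, mul_one]
    _ = spin Q ⟨refl Q z hz, refl_mem_O hz⟩ := by rw [← mul_assoc, hsu, one_mul]

/-- **T3.** -/
theorem odd_step3 (hQ : Nondeg Q) (hd : 7 ≤ finrank K V) (h2 : (2 : K) ≠ 0) {a b : V ≃ₗ[K] V}
    (hab : PBad (E Q) a b) (ha : ¬ Scalar a) {c : K} (hac : ∀ v, a v + a⁻¹ v = c • v)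
    (hbb : b * b = 1) (W W' : Submodule K V) (hW : ∀ v, v ∈ W ↔ b v = v)
    (hW' : ∀ v, v ∈ W' ↔ b v = -v) (h1 : finrank K W = 1 ∨ finrank K W' = 1) : False := by
  have hne : Nontrivial V := Module.nontrivial_of_finrank_pos (R := K) (by omega)
  have hfV : Finite V := Module.finite_of_finite K
  have hG := good_of_finite hQ (by omega : 5 ≤ finrank K V)
  have haO := E_le_O hab.1
  have hbO := E_le_O hab.2.1
  have hbb' : ∀ v, b (b v) = v := fun v => by
    change (b * b) v = v
    rw [hbb]; rfl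
  have hEdet : ∀ g ∈ E Q, LinearMap.det (g : V →ₗ[K] V) = 1 := by
    intro g hg
    rw [← hG.commutator_eq_E] at hg
    exact det_eq_one' hg
  have hperp : ∀ x y, b x = x → b y = -y → polar Q x y = 0 := by
    intro x y hx hy
    have h3 := polar_map hbO x y
    rw [hx, hy, polar_neg_right] at h3
    have h4 : 2 * polar Q x y = 0 := by linear_combination -h3
    exact (mul_eq_zero.1 h4).resolve_left h2
  have hdec : ∀ v : V, ∃ x y, b x = x ∧ b y = -y ∧ v = x + y := by
    intro v
    refine ⟨(2 : K)⁻¹ • (v + b v), (2 : K)⁻¹ • (v - b v), ?_, ?_, ?_⟩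
    · rw [map_smul, map_add, hbb', add_comm]
    · rw [map_smul, map_sub, hbb', ← smul_neg, neg_sub]
    · rw [← smul_add]
      have : v + b v + (v - b v) = (2 : K) • v := by rw [two_smul]; abel
      rw [this, smul_smul, inv_mul_cancel₀ h2, one_smul]
  rcases h1 with h1 | h1
  · -- `b = -refl w`
    obtain ⟨⟨w, hwW⟩, hw0, hwspan⟩ := finrank_eq_one_iff'.1 h1
    have hbw : b w = w := (hW w).1 hwW
    have hW1 : ∀ x, b x = x → ∃ k : K, x = k • w := by
      intro x hx
      obtain ⟨k, hk⟩ := hwspan ⟨x, (hW x).2 hx⟩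
      exact ⟨k, (congrArg Subtype.val hk).symm⟩
    have hw0' : w ≠ 0 := fun h => hw0 (Subtype.ext h)
    have hQw : Q w ≠ 0 := by
      intro h0
      apply hw0'
      apply hQ
      intro y
      obtain ⟨p, r, hp, hr, rfl⟩ := hdec y
      obtain ⟨k, rfl⟩ := hW1 p hp
      rw [polar_add_right, polar_smul_right, polar_self_of_sing h0, smul_zero, zero_add]
      exact hperp w r hbw hr
    have hbr : ∀ v, b v = -refl Q w hQw v := by
      intro v
      have h3 := eq_refl (e := 1) h2 hQw (by rw [hbw, one_smul]) (fun x hx => by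
        obtain ⟨p, r, hp, hr, rfl⟩ := hdec x
        obtain ⟨k, rfl⟩ := hW1 p hp
        rw [polar_add_left, polar_smul_left, polar_comm Q r w, hperp w r hbw hr, add_zero,
          polar_self', smul_eq_mul, mul_eq_zero] at hx
        rw [hx.resolve_right (mul_ne_zero h2 hQw), zero_smul, zero_add, hr, one_smul]) v
      rw [h3, one_smul]
    -- the dimension is odd
    have hodd : Odd (finrank K V) := by
      by_contra heven
      rw [Nat.not_odd_iff_even] at heven
      have e : (b : V →ₗ[K] V) = (-1 : K) • ((refl Q w hQw : V ≃ₗ[K] V) : V →ₗ[K] V) := by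
        ext v
        change b v = (-1 : K) • refl Q w hQw v
        rw [hbr, neg_smul, one_smul]
      have e1 := congrArg LinearMap.det e
      rw [LinearMap.det_smul, heven.neg_one_pow, hEdet b hab.2.1, one_mul] at e1
      have e2 := congrArg Units.val (det_refl hQw)
      rw [LinearEquiv.coe_det] at e2
      rw [e2] at e1
      have e3 : (1 : K) = -1 := by simpa using e1
      exact h2 (by linear_combination e3)
    obtain ⟨l, hl, hcl⟩ := exists_unip h2 hQ hodd haO hac
    -- the nilpotent part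
    let s : V →ₗ[K] V := l • (a : V →ₗ[K] V) - LinearMap.id
    have hs : ∀ v, s v = l • a v - v := fun _ => rfl
    have hav : ∀ v, a v = l • (v + s v) := by
      intro v
      rw [hs]
      have : v + (l • a v - v) = l • a v := by abel
      rw [this, smul_smul, hl, one_smul]
    have hskew : ∀ x y, polar Q (s x) y = -polar Q x (s y) := by
      intro x y
      rw [hs, hs, polar_sub_left, polar_sub_right, polar_smul_left, polar_smul_right, smul_eq_mul]
      have h3 := polar_skew haO hac x y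
      rw [hcl] at h3
      linear_combination l * h3 + 2 * polar Q x y * hl
    have hRsing : ∀ x ∈ LinearMap.range s, Q x = 0 := by
      rintro _ ⟨v, rfl⟩
      have h3 := mem_O.1 haO v
      rw [hav, QuadraticMap.map_smul, hl, one_smul, Q_add] at h3
      have h4 := hskew v v
      rw [polar_comm] at h4
      have h5 : 2 * polar Q v (s v) = 0 := by linear_combination h4
      have h6 := (mul_eq_zero.1 h5).resolve_left h2
      rw [h6] at h3
      linear_combination h3
    have hker : ∀ v, v ∈ perp Q (LinearMap.range s) ↔ s v = 0 := by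
      intro v
      constructor
      · intro hv
        apply hQ
        intro y
        have h3 : polar Q (s y) v = 0 := hv (s y) ⟨y, rfl⟩
        rw [polar_comm] at h3
        rw [hskew, h3, neg_zero]
      · rintro hv _ ⟨y, rfl⟩
        have h3 := hskew y v
        rw [hv, polar_zero_right, neg_zero] at h3
        exact h3
    have hs0 : ∃ v, s v ≠ 0 := by
      by_contra hcon
      push Not at hcon
      exact ha ⟨l, fun v => by rw [hav, hcon, add_zero]⟩
    -- no vector of `R^⊥` has the norm of `w`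
    have hA3 : ∀ v0 ∈ perp Q (LinearMap.range s), Q v0 ≠ Q w := by
      intro v0 hv0 hQv0
      obtain ⟨v1, hv1⟩ := hs0
      have hr : Q (s v1) = 0 := hRsing _ ⟨v1, rfl⟩
      obtain ⟨r', hr'⟩ := LieClassical.OrthTrans.exists_hyp hQ hr hv1
      set v := r' + Q w • s v1 with hv
      have hQv : Q v = Q w := by
        rw [hv, Q_add, QuadraticMap.map_smul, hr'.right, hr, polar_smul_right, hr'.pair']
        simp
      have hn0 : ∀ x, Q x = Q w → x ≠ 0 := by
        rintro _ hx rfl
        rw [QuadraticMap.map_zero] at hx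
        exact hQw hx.symm
      obtain ⟨g1, hg1, e1⟩ := hG.trans_norm hw0' (hn0 v0 hQv0) hQv0.symm
      obtain ⟨g2, hg2, e2⟩ := hG.trans_norm hw0' (hn0 v hQv) hQv.symm
      have hg : g2 * g1⁻¹ ∈ E Q := (E Q).mul_mem hg2 ((E Q).inv_mem hg1)
      have hab1 := hab.conj_right hg1
      obtain ⟨x, hx, h3, h4⟩ := key_sign hQ hab1 hg
      have h3' : ∀ y, a (x y) = x (a y) :=
        h3.resolve_right fun h => no_sign_of_odd h2 hodd rfl h
      have h4' : ∀ y, (g2 * g1⁻¹) ((g1 * b * g1⁻¹) ((g2 * g1⁻¹)⁻¹ (x y))) = x ((g1 * b * g1⁻¹) y) := by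
        refine h4.resolve_right fun h => no_sign_of_odd (a := (g2 * g1⁻¹) * (g1 * b * g1⁻¹) * (g2 * g1⁻¹)⁻¹)
          (b := g1 * b * g1⁻¹) h2 hodd ?_ h
        rw [hEdet _ ((E Q).mul_mem ((E Q).mul_mem hg hab1.2.1) ((E Q).inv_mem hg)), hEdet _ hab1.2.1]
      have h5 : (g1 * b * g1⁻¹) v0 = v0 := by
        change g1 (b (g1⁻¹ v0)) = v0
        have h6 : g1⁻¹ v0 = w := by
          rw [← e1]
          exact g1.symm_apply_apply w
        rw [h6, hbw, e1]
      have h6 := h4' v0
      rw [h5] at h6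
      have h7 : g2 (b (g2⁻¹ (x v0))) = x v0 := by
        have e3 : (g2 * g1⁻¹) * (g1 * b * g1⁻¹) * (g2 * g1⁻¹)⁻¹ = g2 * b * g2⁻¹ := by group
        have e4 := congrArg (fun f : V ≃ₗ[K] V => f (x v0)) e3
        exact e4.symm.trans h6
      have h8 : b (g2⁻¹ (x v0)) = g2⁻¹ (x v0) := by
        apply g2.injective
        rw [h7]
        exact (g2.apply_symm_apply (x v0)).symm
      obtain ⟨k, hk⟩ := hW1 _ h8
      have h9 : x v0 = k • v := by
        rw [← e2, ← map_smul, ← hk]
        exact (g2.apply_symm_apply (x v0)).symm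
      have hk0 : k ≠ 0 := by
        rintro rfl
        rw [zero_smul] at h9
        exact hn0 v0 hQv0 ((LinearEquiv.map_eq_zero_iff x).1 h9)
      have h10 : s (x v0) = 0 := by
        rw [hs, h3', ← map_smul, ← map_sub, ← hs, (hker v0).1 hv0, map_zero]
      rw [h9, map_smul] at h10
      have h11 : s v = 0 := (smul_eq_zero.1 h10).resolve_left hk0
      have h12 := (hker v).2 h11 (s v1) ⟨v1, rfl⟩
      rw [hv, polar_add_right, hr'.pair, polar_smul_right, polar_self_of_sing hr, smul_zero,
        add_zero] at h12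
      exact one_ne_zero h12
    -- the one-dimensional complement
    obtain ⟨X, hX, hXn, hXf⟩ := exists_nondeg_compl hQ hRsing
    have hX1 : finrank K X = 1 := by
      by_contra hX1
      have h3 : 2 ≤ finrank K X := by
        obtain ⟨t, ht⟩ := hodd
        omega
      obtain ⟨v, hv⟩ := exists_value h2 hXn h3 (Q w)
      exact hA3 v (hX v.2) hv
    obtain ⟨⟨z, hzX⟩, hz0, hzspan⟩ := finrank_eq_one_iff'.1 hX1
    have hzR := hX hzX
    have hQz : Q z ≠ 0 := by
      intro h0
      apply hz0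
      apply hXn
      rintro ⟨y, hy⟩
      obtain ⟨k, hk⟩ := hzspan ⟨y, hy⟩
      have hk' : k • z = y := congrArg Subtype.val hk
      change polar Q z y = 0
      rw [← hk', polar_smul_right, polar_self_of_sing h0, smul_zero]
    have hRR : LinearMap.range s ≤ perp Q (LinearMap.range s) := by
      intro x hx y hy
      rw [polar, hRsing _ ((LinearMap.range s).add_mem hy hx), hRsing _ hx, hRsing _ hy]
      ring
    have hinf : X ⊓ LinearMap.range s = ⊥ := by
      rw [Submodule.eq_bot_iff]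
      rintro x ⟨hx, hx'⟩
      have h3 := nondeg_res_iff.1 hXn x hx (fun y hy => hX hy x hx')
      exact h3
    have hsup : X ⊔ LinearMap.range s = perp Q (LinearMap.range s) := by
      apply Submodule.eq_of_le_of_finrank_eq (sup_le hX hRR)
      have h3 := Submodule.finrank_sup_add_finrank_inf_eq X (LinearMap.range s)
      rw [hinf, finrank_bot, add_zero] at h3
      have h4 := finrank_add_perp hQ (LinearMap.range s)
      omega
    have hdecR : ∀ v ∈ perp Q (LinearMap.range s), ∃ r ∈ LinearMap.range s, ∃ c : K, v = r + c • z := by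
      intro v hv
      rw [← hsup] at hv
      obtain ⟨p, hp, r, hr, rfl⟩ := Submodule.mem_sup.1 hv
      obtain ⟨k, hk⟩ := hzspan ⟨p, hp⟩
      have hk' : k • z = p := congrArg Subtype.val hk
      exact ⟨r, hr, k, by rw [hk', add_comm]⟩
    -- the spinor norm
    let nb : V ≃ₗ[K] V := LinearEquiv.neg K
    have hnb : ∀ v, nb v = -v := fun v => rfl
    have hnbO : nb ∈ O Q := fun v => by rw [hnb, QuadraticMap.map_neg]
    have h3 := spin_arg h2 hQ hRsing (even_rank_skew h2 hQ hskew) hQz hzR hdecR nb hnb hnbO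
    have h4 : spin Q ⟨b, hbO⟩ = 1 := by
      have hbE : b ∈ ⁅O Q, O Q⁆ := by rw [hG.commutator_eq_E]; exact hab.2.1
      exact hom_eq_one (spin Q) hbE hbO
    have h5 : (⟨b, hbO⟩ : O Q) = ⟨nb, hnbO⟩ * ⟨refl Q w hQw, refl_mem_O hQw⟩ :=
      Subtype.ext (LinearEquiv.ext fun v => hbr v)
    rw [h5, map_mul, h3, spin_refl' h2 hQz, spin_refl' h2 hQw, neg_mul_neg, ← chi_mul hQz hQw,
      chi_eq_one_iff] at h4
    obtain ⟨μ, hμ⟩ := h4
    refine hA3 ((μ / Q z) • z) ((perp Q (LinearMap.range s)).smul_mem _ hzR) ?_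
    rw [QuadraticMap.map_smul, smul_eq_mul]
    field_simp
    linear_combination -hμ
  · -- `b = refl w`
    obtain ⟨⟨w, hwW⟩, hw0, hwspan⟩ := finrank_eq_one_iff'.1 h1
    have hbw : b w = -w := (hW' w).1 hwW
    have hW1 : ∀ x, b x = -x → ∃ k : K, x = k • w := by
      intro x hx
      obtain ⟨k, hk⟩ := hwspan ⟨x, (hW' x).2 hx⟩
      exact ⟨k, (congrArg Subtype.val hk).symm⟩
    have hw0' : w ≠ 0 := fun h => hw0 (Subtype.ext h)
    have hQw : Q w ≠ 0 := by
      intro h0
      apply hw0'
      apply hQ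
      intro y
      obtain ⟨p, r, hp, hr, rfl⟩ := hdec y
      obtain ⟨k, rfl⟩ := hW1 r hr
      rw [polar_add_right, polar_smul_right, polar_self_of_sing h0, smul_zero, add_zero, polar_comm]
      exact hperp p w hp hbw
    have hbr : ∀ v, b v = refl Q w hQw v := by
      intro v
      have h3 := eq_refl (e := -1) h2 hQw (by rw [hbw, neg_smul, one_smul]) (fun x hx => by
        obtain ⟨p, r, hp, hr, rfl⟩ := hdec x
        obtain ⟨k, rfl⟩ := hW1 r hr
        rw [polar_add_left, polar_smul_left, hperp p w hp hbw, zero_add,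
          polar_self', smul_eq_mul, mul_eq_zero] at hx
        rw [hx.resolve_right (mul_ne_zero h2 hQw), zero_smul, add_zero, hp, neg_smul, one_smul,
          neg_neg]) v
      rw [h3, neg_smul, one_smul, neg_neg]
    have e : b = refl Q w hQw := LinearEquiv.ext hbr
    have e1 := hEdet b hab.2.1
    have e2 := congrArg Units.val (det_refl hQw)
    rw [LinearEquiv.coe_det, ← e, e1] at e2
    have e3 : (1 : K) = -1 := by simpa using e2
    exact h2 (by linear_combination e3)

end Step3

end Cfsg.Agent.H105.SzO
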