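import Mathlib
import Cfsg.Agent.H105.SzO5

/-!
# Products of two centralizers in orthogonal groups, part 7: odd characteristic, a skew isometry and an
involution with two large eigenspaces
-/

set_option autoImplicit false

namespace Cfsg.Agent.H105.SzO

open Module QuadraticMap Cfsg.Agent.LieClassical.OrthCore Cfsg.Agent.LieClassical.OrthTrans
open Cfsg.Agent.LieClassical.OrthFinite Cfsg.Agent.H955 Cfsg.Agent.H105.Sz

universe u v w

variable {K : Type u} [Field K] {V : Type v} [AddCommGroup V] [Module K V]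
  {Q : QuadraticForm K V} [FiniteDimensional K V]

/-- `v ↦ (t,v) x + (x,v) t` -/
def D1 (Q : QuadraticForm K V) (t x : V) : Module.End K V :=
  (polarBilin Q t).smulRight x + (polarBilin Q x).smulRight t

/-- `v ↦ (t,v) t` -/
def D2 (Q : QuadraticForm K V) (t : V) : Module.End K V := (polarBilin Q t).smulRight t

omit [FiniteDimensional K V] in
theorem D1_apply (t x v : V) : D1 Q t x v = polar Q t v • x + polar Q x v • t := rfl

omit [FiniteDimensional K V] in
theorem D2_apply (t v : V) : D2 Q t v = polar Q t v • t := rfl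

theorem trace_D1 (X : Module.End K V) (t x : V) :
    LinearMap.trace K V (X * D1 Q t x) = polar Q t (X x) + polar Q x (X t) := by
  have e : X * D1 Q t x = (polarBilin Q t).smulRight (X x) + (polarBilin Q x).smulRight (X t) := by
    ext v
    simp only [Module.End.mul_apply, D1_apply, LinearMap.add_apply, LinearMap.smulRight_apply,
      polarBilin_apply_apply, map_add, map_smul]
  rw [e, map_add, LinearMap.trace_smulRight, LinearMap.trace_smulRight, polarBilin_apply_apply,
    polarBilin_apply_apply]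

theorem trace_D2 (X : Module.End K V) (t : V) :
    LinearMap.trace K V (X * D2 Q t) = polar Q t (X t) := by
  have e : X * D2 Q t = (polarBilin Q t).smulRight (X t) := by
    ext v
    simp only [Module.End.mul_apply, D2_apply, LinearMap.smulRight_apply,
      polarBilin_apply_apply, map_smul]
  rw [e, LinearMap.trace_smulRight, polarBilin_apply_apply]

omit [FiniteDimensional K V] in
theorem trace_expand (A B D E' : Module.End K V) (s r : K) :
    LinearMap.trace K V ((A * (B + s • D - r • E')) * (A * (B + s • D - r • E'))) =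
      LinearMap.trace K V ((A * B) * (A * B)) + 2 * s * LinearMap.trace K V (A * B * A * D) -
        2 * r * LinearMap.trace K V (A * B * A * E') + s ^ 2 * LinearMap.trace K V (A * D * A * D) -
        2 * s * r * LinearMap.trace K V (A * D * A * E') +
        r ^ 2 * LinearMap.trace K V (A * E' * A * E') := by
  have e : (A * (B + s • D - r • E')) * (A * (B + s • D - r • E')) =
      (A * B) * (A * B) + s • (A * B * (A * D)) + s • (A * D * (A * B)) - r • (A * B * (A * E')) -
      r • (A * E' * (A * B)) + (s ^ 2) • (A * D * (A * D)) - (s * r) • (A * D * (A * E')) -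
      (s * r) • (A * E' * (A * D)) + (r ^ 2) • (A * E' * (A * E')) := by
    simp only [mul_add, add_mul, mul_sub, sub_mul, mul_smul_comm, smul_mul_assoc, smul_sub, smul_add,
      smul_smul]
    module
  rw [e]
  simp only [map_add, map_sub, map_smul, smul_eq_mul]
  rw [LinearMap.trace_mul_comm K (A * D) (A * B), LinearMap.trace_mul_comm K (A * E') (A * B),
    LinearMap.trace_mul_comm K (A * E') (A * D)]
  simp only [← mul_assoc]
  ring

omit [FiniteDimensional K V] in
/-- the conjugate of an involution by a Siegel element. -/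
theorem conj_siegel_inv {b : V ≃ₗ[K] V} (hb : b ∈ O Q) {t x : V} (ht : Q t = 0)
    (hbt : b t = t) (hbx : b x = -x) (l : K) (hw : polar Q t (l • x) = 0) (htx : polar Q t x = 0) :
    ((siegel Q t (l • x) ht hw * b * (siegel Q t (l • x) ht hw)⁻¹ : V ≃ₗ[K] V) : V →ₗ[K] V) =
      (b : V →ₗ[K] V) + (2 * l) • D1 Q t x - (4 * l ^ 2 * Q x) • D2 Q t := by
  have hw' : polar Q t (-(l • x)) = 0 := by rw [polar_neg_right, hw, neg_zero]
  rw [siegel_inv ht hw hw']
  ext v
  change siegel Q t (l • x) ht hw (b (siegel Q t (-(l • x)) ht hw' v)) =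
    b v + (2 * l) • (D1 Q t x) v - (4 * l ^ 2 * Q x) • (D2 Q t) v
  have htt : polar Q t t = 0 := polar_self_of_sing ht
  have hxt : polar Q x t = 0 := by rw [polar_comm]; exact htx
  have h1 : polar Q t (b v) = polar Q t v := by
    have := polar_map hb t v
    rwa [hbt] at this
  have h2 : polar Q x (b v) = -polar Q x v := by
    have := polar_map hb x v
    rw [hbx, polar_neg_left] at this
    linear_combination -this
  rw [siegel_apply, siegel_apply, D1_apply, D2_apply]
  simp only [map_add, map_sub, map_smul, map_neg, hbt, hbx, polar_add_right, polar_sub_right,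
    polar_smul_right, polar_smul_left, polar_neg_left, polar_neg_right, htt, hxt, htx, h1, h2,
    polar_self', QuadraticMap.map_smul, QuadraticMap.map_neg, smul_eq_mul]
  module

/-- the set-up: constant traces of `(a b^g)²`. -/
structure TC (Q : QuadraticForm K V) (a b : V ≃ₗ[K] V) : Prop where
  ha : a ∈ O Q
  hb : b ∈ O Q
  hbb : ∀ v, b (b v) = v
  skew : ∃ c : K, ∀ v, a v + a⁻¹ v = c • v
  const : ∀ g ∈ E Q, tr ((a * (g * b * g⁻¹)) * (a * (g * b * g⁻¹))) = tr ((a * b) * (a * b))

omit [FiniteDimensional K V] in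
theorem TC.conj {a b : V ≃ₗ[K] V} (h : TC Q a b) {g : V ≃ₗ[K] V} (hg : g ∈ E Q) :
    TC Q a (g * b * g⁻¹) where
  ha := h.ha
  hb := (O Q).mul_mem ((O Q).mul_mem (E_le_O hg) h.hb) ((O Q).inv_mem (E_le_O hg))
  hbb := fun v => by
    have h1 : ∀ w, g⁻¹ (g w) = w := fun w => g.symm_apply_apply w
    have h2 : ∀ w, g (g⁻¹ w) = w := fun w => g.apply_symm_apply w
    change g (b (g⁻¹ (g (b (g⁻¹ v))))) = v
    rw [h1, h.hbb, h2]
  skew := h.skew
  const := fun k hk => by
    have e : k * (g * b * g⁻¹) * k⁻¹ = (k * g) * b * (k * g)⁻¹ := by group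
    rw [e, h.const _ ((E Q).mul_mem hk hg), h.const _ hg]

omit [FiniteDimensional K V] in
theorem TC.perp (h2 : (2 : K) ≠ 0) {a b : V ≃ₗ[K] V} (h : TC Q a b) {x y : V} (hx : b x = x)
    (hy : b y = -y) : polar Q x y = 0 := by
  have h3 := polar_map h.hb x y
  rw [hx, hy, polar_neg_right] at h3
  have h4 : 2 * polar Q x y = 0 := by linear_combination -h3
  exact (mul_eq_zero.1 h4).resolve_left h2

omit [FiniteDimensional K V] in
theorem TC.dec (h2 : (2 : K) ≠ 0) {a b : V ≃ₗ[K] V} (h : TC Q a b) (v : V) :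
    ∃ x y, b x = x ∧ b y = -y ∧ v = x + y := by
  refine ⟨(2 : K)⁻¹ • (v + b v), (2 : K)⁻¹ • (v - b v), ?_, ?_, ?_⟩
  · rw [map_smul, map_add, h.hbb, add_comm]
  · rw [map_smul, map_sub, h.hbb, ← smul_neg, neg_sub]
  · rw [← smul_add]
    have : v + b v + (v - b v) = (2 : K) • v := by rw [two_smul]; abel
    rw [this, smul_smul, inv_mul_cancel₀ h2, one_smul]

/-- the quadratic identity -/
theorem TC.quad (h2 : (2 : K) ≠ 0) {a b : V ≃ₗ[K] V} (h : TC Q a b) {t x p' p : V}
    (ht : Q t = 0) (hbt : b t = t) (hbx : b x = -x) (hp' : b p' = p') (hp : b p = -p)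
    (hat : a t = p' + p) : polar Q x p ^ 2 = 4 * Q x * Q p := by
  obtain ⟨c, hc⟩ := h.skew
  have htx : polar Q t x = 0 := h.perp h2 hbt hbx
  have key : ∀ l : K, 2 * (2 * l) * LinearMap.trace K V ((a : V →ₗ[K] V) * (b : V →ₗ[K] V) *
      (a : V →ₗ[K] V) * D1 Q t x) + 8 * l ^ 2 * (polar Q x p ^ 2 - 4 * Q x * Q p) = 0 := by
    intro l
    have hw : polar Q t (l • x) = 0 := by rw [polar_smul_right, htx, smul_zero]
    have h3 := h.const _ (siegel_mem_E ht hw)
    have h4 := conj_siegel_inv (Q := Q) h.hb ht hbt hbx l hw htx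
    unfold tr at h3
    have h5 : ((a * (siegel Q t (l • x) ht hw * b * (siegel Q t (l • x) ht hw)⁻¹) *
        (a * (siegel Q t (l • x) ht hw * b * (siegel Q t (l • x) ht hw)⁻¹)) : V ≃ₗ[K] V) : V →ₗ[K] V) =
        ((a : V →ₗ[K] V) * ((siegel Q t (l • x) ht hw * b * (siegel Q t (l • x) ht hw)⁻¹ : V ≃ₗ[K] V) :
          V →ₗ[K] V) : Module.End K V) * ((a : V →ₗ[K] V) *
          ((siegel Q t (l • x) ht hw * b * (siegel Q t (l • x) ht hw)⁻¹ : V ≃ₗ[K] V) : V →ₗ[K] V)) := rfl
    have h6 : ((a * b * (a * b) : V ≃ₗ[K] V) : V →ₗ[K] V) =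
        ((a : V →ₗ[K] V) * (b : V →ₗ[K] V) : Module.End K V) * ((a : V →ₗ[K] V) * (b : V →ₗ[K] V)) := rfl
    rw [h5, h4, h6] at h3
    have h7 := trace_expand (K := K) (V := V) (a : V →ₗ[K] V) (b : V →ₗ[K] V) (D1 Q t x) (D2 Q t)
      (2 * l) (4 * l ^ 2 * Q x)
    rw [h3] at h7
    -- the coefficients
    have hta : polar Q t (a t) = 0 := alt_of_skew h2 h.ha hc ht
    have hxat : polar Q x (a t) = polar Q x p := by
      rw [hat, polar_add_right, polar_comm Q x p', h.perp h2 hp' hbx, zero_add]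
    have htax : polar Q t (a x) = -polar Q x p := by
      have := polar_skew h.ha hc t x
      rw [htx, mul_zero, polar_comm Q (a t) x, hxat] at this
      linear_combination this
    have c1 : LinearMap.trace K V ((a : V →ₗ[K] V) * D2 Q t * (a : V →ₗ[K] V) * D2 Q t) = 0 := by
      rw [trace_D2]
      change polar Q t (a (D2 Q t (a t))) = 0
      rw [D2_apply, hta, zero_smul, map_zero, polar_zero_right]
    have c2 : LinearMap.trace K V ((a : V →ₗ[K] V) * D1 Q t x * (a : V →ₗ[K] V) * D2 Q t) = 0 := by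
      rw [trace_D2]
      change polar Q t (a (D1 Q t x (a t))) = 0
      rw [D1_apply, hta, zero_smul, zero_add, map_smul, polar_smul_right, hta, smul_zero]
    have c3 : LinearMap.trace K V ((a : V →ₗ[K] V) * D1 Q t x * (a : V →ₗ[K] V) * D1 Q t x) =
        2 * polar Q x p ^ 2 := by
      rw [trace_D1]
      change polar Q t (a (D1 Q t x (a x))) + polar Q x (a (D1 Q t x (a t))) = _
      rw [D1_apply, D1_apply, hta, zero_smul, zero_add, map_add, map_smul, map_smul, map_smul,
        polar_add_right, polar_smul_right, polar_smul_right, polar_smul_right, hta, htax, hxat]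
      simp only [smul_eq_mul]
      ring
    have c4 : LinearMap.trace K V ((a : V →ₗ[K] V) * (b : V →ₗ[K] V) * (a : V →ₗ[K] V) * D2 Q t) =
        4 * Q p := by
      rw [trace_D2]
      change polar Q t (a (b (a t))) = 4 * Q p
      have h8 := polar_skew h.ha hc t (b (a t))
      have h9 : polar Q t (b (a t)) = 0 := by
        have := polar_map h.hb t (a t)
        rw [hbt, hta] at this
        exact this
      have h10 : polar Q p' p = 0 := h.perp h2 hp' hp
      have h11 : polar Q p p' = 0 := by rw [polar_comm]; exact h10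
      have h12 : Q p' + Q p = 0 := by
        have := mem_O.1 h.ha t
        rw [hat, Q_add, h10, ht, add_zero] at this
        exact this
      have h13 : polar Q (a t) (b (a t)) = -4 * Q p := by
        rw [hat, map_add, hp', hp, polar_add_left, polar_add_right, polar_add_right,
          polar_neg_right, polar_neg_right, h10, h11, polar_self', polar_self']
        linear_combination 2 * h12
      rw [h9, mul_zero, h13] at h8
      linear_combination h8
    rw [c1, c2, c3, c4] at h7
    linear_combination -h7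
  have e1 := key 1
  have e2 := key (-1)
  have e3 : (16 : K) * (polar Q x p ^ 2 - 4 * Q x * Q p) = 0 := by linear_combination e1 + e2
  have h16 : (16 : K) ≠ 0 := by
    have : (16 : K) = 2 * 2 * 2 * 2 := by norm_num
    rw [this]
    exact mul_ne_zero (mul_ne_zero (mul_ne_zero h2 h2) h2) h2
  have e4 := (mul_eq_zero.1 e3).resolve_left h16
  linear_combination e4

/-- **L1.** -/
theorem TC.lem_one (h2 : (2 : K) ≠ 0) (hQ : Nondeg Q) {a b : V ≃ₗ[K] V} (h : TC Q a b)
    {W' : Submodule K V} (hW' : ∀ v, v ∈ W' ↔ b v = -v) (hd' : 2 ≤ finrank K W') {t x : V}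
    (ht : Q t = 0) (hbt : b t = t) (hbx : b x = -x) : polar Q (a t) x = 0 := by
  obtain ⟨p', p, hp', hp, hat⟩ := h.dec h2 (a t)
  have key : ∀ y, b y = -y → polar Q y p ^ 2 = 4 * Q y * Q p := fun y hy =>
    h.quad h2 ht hbt hy hp' hp hat
  have hWn' : Nondeg (res Q W') := by
    rw [nondeg_res_iff]
    intro x hx hxy
    apply hQ
    intro v
    obtain ⟨q', q, hq', hq, rfl⟩ := h.dec h2 v
    rw [polar_add_right, hxy q ((hW' q).2 hq), polar_comm, h.perp h2 hq' ((hW' x).1 hx), add_zero]
  have hQp : Q p = 0 := by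
    by_contra hQp
    have hp0 : (⟨p, (hW' p).2 hp⟩ : W') ≠ 0 := by
      intro h0
      apply hQp
      have : p = 0 := congrArg Subtype.val h0
      rw [this, QuadraticMap.map_zero]
    have h1 := nondeg_perp hWn' (nondeg_span_singleton h2 (v := (⟨p, (hW' p).2 hp⟩ : W')) hQp)
    have h3 := finrank_add_perp hWn' (Submodule.span K {(⟨p, (hW' p).2 hp⟩ : W')})
    rw [finrank_span_singleton hp0] at h3
    obtain ⟨⟨⟨r, hrW⟩, hrp⟩, hr⟩ := exists_nonsingular h1 (by omega)
    have hr' : Q r ≠ 0 := hr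
    have h4 : polar Q p r = 0 := hrp _ (Submodule.mem_span_singleton_self _)
    have h5 := key r ((hW' r).1 hrW)
    rw [polar_comm, h4] at h5
    have h6 : (4 : K) * Q r * Q p ≠ 0 := by
      have : (4 : K) = 2 * 2 := by norm_num
      rw [this]
      exact mul_ne_zero (mul_ne_zero (mul_ne_zero h2 h2) hr') hQp
    apply h6
    linear_combination -h5
  have h3 := key x hbx
  rw [hQp, mul_zero] at h3
  have h4 : polar Q x p = 0 := pow_eq_zero_iff (two_ne_zero) |>.1 h3
  rw [hat, polar_add_left, h.perp h2 hp' hbx, polar_comm, h4, add_zero]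

variable [Finite K]

/-- **L2.** -/
theorem TC.false (h2 : (2 : K) ≠ 0) (hQ : Nondeg Q) (hd : 7 ≤ finrank K V) {a b : V ≃ₗ[K] V}
    (h : TC Q a b) (ha : ¬ Scalar a) {W W' : Submodule K V} (hW : ∀ v, v ∈ W ↔ b v = v)
    (hW' : ∀ v, v ∈ W' ↔ b v = -v) (hdW : 3 ≤ finrank K W) (hd' : 2 ≤ finrank K W') : False := by
  obtain ⟨c, hc⟩ := h.skew
  -- all conjugates
  have key : ∀ g ∈ E Q, ∀ t x : V, Q t = 0 → b t = t → b x = -x → polar Q (a (g t)) (g x) = 0 := by
    intro g hg t x ht hbt hbx
    have h1 : ∀ w, g⁻¹ (g w) = w := fun w => g.symm_apply_apply w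
    have hW'' : ∀ v, v ∈ W'.map (g : V →ₗ[K] V) ↔ (g * b * g⁻¹) v = -v := by
      intro v
      constructor
      · rintro ⟨w, hw, rfl⟩
        change g (b (g⁻¹ (g w))) = -g w
        rw [h1, (hW' w).1 hw, map_neg]
      · intro hv
        refine ⟨g⁻¹ v, ?_, g.apply_symm_apply v⟩
        change g⁻¹ v ∈ W'
        rw [hW']
        apply g.injective
        have : g (g⁻¹ v) = v := g.apply_symm_apply v
        rw [map_neg, this]
        exact hv
    refine (h.conj hg).lem_one h2 hQ (W' := W'.map (g : V →ₗ[K] V)) hW''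
      (by rw [LinearEquiv.finrank_map_eq]; exact hd') ?_ ?_ ?_
    · rw [mem_O.1 (E_le_O hg)]; exact ht
    · change g (b (g⁻¹ (g t))) = g t
      rw [h1, hbt]
    · change g (b (g⁻¹ (g x))) = -g x
      rw [h1, hbx, map_neg]
  obtain ⟨u, hu, h0, hmv⟩ := exists_moved hQ (by omega) ha
  obtain ⟨t, htW, ht0, ht⟩ := exists_sing_mem (Q := Q) W hdW
  have hbt := (hW t).1 htW
  have hne : Nontrivial W' := Module.nontrivial_of_finrank_pos (R := K) (by omega)
  obtain ⟨⟨x, hxW⟩, hx0⟩ := exists_ne (0 : W')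
  have hbx := (hW' x).1 hxW
  have hx0' : x ≠ 0 := fun h => hx0 (Subtype.ext h)
  have hxt : ∀ e : K, x ≠ e • t := by
    intro e he
    have h3 : b x = x := by rw [he, map_smul, hbt]
    rw [h3] at hbx
    have : (2 : K) • x = 0 := by rw [two_smul]; nth_rewrite 1 [hbx]; exact neg_add_cancel x
    exact hx0' ((smul_eq_zero.1 this).resolve_left h2)
  obtain ⟨z', hz', htz', hxz'⟩ := exists_sing_sep hQ (by omega) ht ht0 hxt
  have htx : polar Q t x = 0 := h.perp h2 hbt hbx
  have hi' : LinearIndependent K ![t, z'] := indep_of_not ht0 (fun e he => hxz' (by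
    rw [he, polar_smul_right, polar_comm, htx, smul_zero]))
  obtain ⟨g, hg, hgt, hgz⟩ := trans_pair hQ (by omega) ht hz' htz' hi' hu
    (by rw [mem_O.1 h.ha]; exact hu : Q (a u) = 0) (alt_of_skew h2 h.ha hc hu) (indep_of_not h0 hmv)
  have h3 := key g hg t x ht hbt hbx
  rw [hgt, ← hgz, polar_map (E_le_O hg), polar_comm] at h3
  exact hxz' h3

/-- **T4.** -/
theorem odd_step2 (hQ : Nondeg Q) (hd : 7 ≤ finrank K V) (h2 : (2 : K) ≠ 0) {a b : V ≃ₗ[K] V}
    (hab : PBad (E Q) a b) (ha : ¬ Scalar a) {c : K} (hac : ∀ v, a v + a⁻¹ v = c • v)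
    (hbb : b * b = 1) (W W' : Submodule K V) (hW : ∀ v, v ∈ W ↔ b v = v)
    (hW' : ∀ v, v ∈ W' ↔ b v = -v) (h1 : 2 ≤ finrank K W) (h1' : 2 ≤ finrank K W') : False := by
  have hne : Nontrivial V := Module.nontrivial_of_finrank_pos (R := K) (by omega)
  have hbb' : ∀ v, b (b v) = v := fun v => by
    change (b * b) v = v
    rw [hbb]; rfl
  have hdim := eig_dims h2 hbb' hW hW'
  have hconst : ∀ g ∈ E Q, tr ((a * (g * b * g⁻¹)) * (a * (g * b * g⁻¹))) = tr ((a * b) * (a * b)) := by
    intro g hg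
    obtain ⟨x, hx, h3, h4⟩ := key_sign hQ hab hg
    have h5 : ∀ w, x⁻¹ (x w) = w := fun w => x.symm_apply_apply w
    have h6 : (∀ v, a (g (b (g⁻¹ (x v)))) = x (a (b v))) ∨ ∀ v, a (g (b (g⁻¹ (x v)))) = -x (a (b v)) := by
      rcases h3 with h3 | h3 <;> rcases h4 with h4 | h4
      · left; intro v; rw [h4, h3]
      · right; intro v; rw [h4, map_neg, h3]
      · right; intro v; rw [h4, h3]
      · left; intro v; rw [h4, map_neg, h3, neg_neg]
    rw [← tr_conj x⁻¹ (a * (g * b * g⁻¹) * (a * (g * b * g⁻¹)))]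
    congr 1
    refine LinearEquiv.ext fun v => ?_
    rw [inv_inv]
    change x⁻¹ (a (g (b (g⁻¹ (a (g (b (g⁻¹ (x v))))))))) = a (b (a (b v)))
    rcases h6 with h6 | h6
    · rw [h6, h6, h5]
    · rw [h6, map_neg, map_neg, map_neg, map_neg, h6, map_neg, map_neg, neg_neg, h5]
  have hT : TC Q a b := ⟨E_le_O hab.1, E_le_O hab.2.1, hbb', ⟨c, hac⟩, hconst⟩
  by_cases hdW : 3 ≤ finrank K W
  · exact hT.false h2 hQ hd ha hW hW' hdW h1'
  · -- replace `b` by `-b`
    let nb : V ≃ₗ[K] V := LinearEquiv.neg K * b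
    have hnb : ∀ v, nb v = -b v := fun v => rfl
    have hT' : TC Q a nb := by
      refine ⟨hT.ha, ?_, ?_, hT.skew, ?_⟩
      · intro v
        rw [hnb, QuadraticMap.map_neg]
        exact hT.hb v
      · intro v
        rw [hnb, hnb, map_neg, neg_neg, hbb']
      · have e : ∀ g : V ≃ₗ[K] V, (a * (g * nb * g⁻¹)) * (a * (g * nb * g⁻¹)) =
            (a * (g * b * g⁻¹)) * (a * (g * b * g⁻¹)) := by
          intro g
          refine LinearEquiv.ext fun v => ?_
          change a (g (nb (g⁻¹ (a (g (nb (g⁻¹ v))))))) = a (g (b (g⁻¹ (a (g (b (g⁻¹ v)))))))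
          simp only [hnb, map_neg, neg_neg]
        have e' : (a * nb) * (a * nb) = (a * b) * (a * b) := by
          refine LinearEquiv.ext fun v => ?_
          change a (nb (a (nb v))) = a (b (a (b v)))
          simp only [hnb, map_neg, neg_neg]
        intro g hg
        rw [e, e']
        exact hconst g hg
    refine hT'.false h2 hQ hd ha (W := W') (W' := W) (fun v => ?_) (fun v => ?_) (by omega) h1
    · rw [hW', hnb]
      constructor
      · intro h; rw [h, neg_neg]
      · intro h
        rw [← h, neg_neg]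
        rw [h]
    · rw [hW, hnb, neg_inj]

end Cfsg.Agent.H105.SzO
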