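import Mathlib
import Cfsg.Agent.H105.SzO3
import Cfsg.Agent.H411.Sz.E4a
import Cfsg.Agent.H508.Sz.E4b
import Cfsg.Agent.H316.Sz.E2
import Cfsg.Agent.H316.Sz.E3

/-!
# Products of two centralizers in orthogonal groups, part 8: even characteristic, conclusion
-/

set_option autoImplicit false

namespace Cfsg.Agent.H105.SzO

open Module QuadraticMap Cfsg.Agent.LieClassical.OrthCore Cfsg.Agent.LieClassical.OrthTrans
open Cfsg.Agent.LieClassical.OrthFinite Cfsg.Agent.H955 Cfsg.Agent.H105.Sz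

universe u v

variable {K : Type u} [Field K] [Finite K] {V : Type v} [AddCommGroup V] [Module K V]
  [FiniteDimensional K V] {Q : QuadraticForm K V}

theorem even_false [CharP K 2] (hQ : Nondeg Q) (hd : 8 ≤ finrank K V) {a b : V ≃ₗ[K] V}
    (hab : PBad (E Q) a b) (ha : ¬ Scalar a) (hb : ¬ Scalar b) : False := by
  have hne : Nontrivial V := Module.nontrivial_of_finrank_pos (R := K) (by omega)
  have h1 : ∀ a : V ≃ₗ[K] V, ¬ Scalar a → a ≠ 1 := by
    rintro _ ha rfl
    exact ha ⟨1, fun v => by rw [one_smul]; rfl⟩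
  -- a square of an element inverting to itself
  have h3 : ∀ a : V ≃ₗ[K] V, (∀ v, a v + a⁻¹ v = (0 : K) • v) → a * a = 1 := by
    intro a ha
    refine LinearEquiv.ext fun v => ?_
    have h4 := ha (a v)
    have h5 : a⁻¹ (a v) = v := a.symm_apply_apply v
    rw [h5, zero_smul] at h4
    have h6 : v + v = 0 := by
      rw [← two_smul K, CharTwo.two_eq_zero, zero_smul]
    change a (a v) = v
    rw [eq_neg_of_add_eq_zero_left h4, neg_eq_iff_add_eq_zero]
    exact h6
  have hs : ∀ (c : K) (v e : V), e = 0 → c * Q v + (polar Q v e) ^ 2 = c * Q v := by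
    intro c v e he
    rw [he, polar_zero_right]
    ring
  obtain ⟨c, e, hac, haQ⟩ := e1 hQ hd hab hb
  obtain ⟨d, f, hbd, hbQ⟩ := e1 hQ hd hab.symm ha
  by_cases he : e = 0
  · have haQ' : ∀ v, polar Q (a v) v = c * Q v := fun v => by rw [haQ, hs c v e he]
    by_cases hf : f = 0
    · have hbQ' : ∀ v, polar Q (b v) v = d * Q v := fun v => by rw [hbQ, hs d v f hf]
      by_cases hc : c = 0
      · subst hc
        exact Cfsg.Agent.H411.Sz.e4a hQ hd hab (h1 a ha) (h1 b hb) (h3 a hac) hbd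
          (fun v => by rw [haQ', zero_mul]) hbQ'
      · by_cases hd' : d = 0
        · subst hd'
          exact Cfsg.Agent.H411.Sz.e4a hQ hd hab.symm (h1 b hb) (h1 a ha) (h3 b hbd) hac
            (fun v => by rw [hbQ', zero_mul]) haQ'
        · exact Cfsg.Agent.H508.Sz.e4b hQ hd hab hc hd' hac hbd haQ' hbQ'
    · exact Cfsg.Agent.H316.Sz.e3 hQ hd hab (h1 a ha) hac hbd hf haQ' hbQ
  · by_cases hf : f = 0
    · have hbQ' : ∀ v, polar Q (b v) v = d * Q v := fun v => by rw [hbQ, hs d v f hf]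
      exact Cfsg.Agent.H316.Sz.e3 hQ hd hab.symm (h1 b hb) hbd hac he hbQ' haQ
    · exact Cfsg.Agent.H316.Sz.e2 hQ hd hab hac hbd he hf haQ hbQ

end Cfsg.Agent.H105.SzO
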