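import Mathlib
import Cfsg.Agent.H105.SzO6
import Cfsg.Agent.H105.SzO7
import Cfsg.Agent.H105.SzO8
import Cfsg.Agent.H105.SzO10

/-!
# Szep's conjecture for the simple orthogonal groups
-/

set_option autoImplicit false

namespace Cfsg.Agent.H105.SzO

open Module QuadraticMap Cfsg.Agent.LieClassical.OrthCore Cfsg.Agent.LieClassical.OrthTrans
open Cfsg.Agent.LieClassical.OrthFinite Cfsg.Agent.LieClassical.OrthForms Cfsg.Agent.H955
open Cfsg.Agent.H105.Sz

universe u v

section

variable {K : Type u} [Field K] [Finite K] {V : Type v} [AddCommGroup V] [Module K V]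
  [FiniteDimensional K V] {Q : QuadraticForm K V}

theorem odd_false (hQ : Nondeg Q) (hd : 7 ≤ finrank K V) (h2 : (2 : K) ≠ 0) {a b : V ≃ₗ[K] V}
    (hab : PBad (E Q) a b) (ha : ¬ Scalar a) (hb : ¬ Scalar b) : False := by
  refine odd_main hQ hd h2 hab ha hb ?_
  intro a b hab ha hb c hc hbb
  have hbb' : ∀ v, b (b v) = v := fun v => by
    change (b * b) v = v
    rw [hbb]; rfl
  have hdim := eig_dims h2 hbb' (W := Wp b) (W' := Wm b) mem_Wp mem_Wm
  have h0 : finrank K (Wp b) ≠ 0 := by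
    intro h
    have h3 : finrank K (Wm b) = finrank K V := by omega
    have h4 := Submodule.eq_top_of_finrank_eq h3
    apply hb
    refine ⟨-1, fun v => ?_⟩
    have h5 : v ∈ Wm b := by rw [h4]; trivial
    rw [(mem_Wm v).1 h5, neg_smul, one_smul]
  have h0' : finrank K (Wm b) ≠ 0 := by
    intro h
    have h3 : finrank K (Wp b) = finrank K V := by omega
    have h4 := Submodule.eq_top_of_finrank_eq h3
    apply hb
    refine ⟨1, fun v => ?_⟩
    have h5 : v ∈ Wp b := by rw [h4]; trivial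
    rw [(mem_Wp v).1 h5, one_smul]
  by_cases h1 : finrank K (Wp b) = 1 ∨ finrank K (Wm b) = 1
  · exact odd_step3 hQ hd h2 hab ha hc hbb (Wp b) (Wm b) mem_Wp mem_Wm h1
  · push Not at h1
    exact odd_step2 hQ hd h2 hab ha hc hbb (Wp b) (Wm b) mem_Wp mem_Wm (by omega) (by omega)

omit [Finite K] in
theorem charP_two_of_eq_zero (h2 : (2 : K) = 0) : CharP K 2 := by
  obtain ⟨p, hp⟩ := CharP.exists K
  have h3 : p ∣ 2 := (CharP.cast_eq_zero_iff K p 2).1 (by exact_mod_cast h2)
  have h4 : p ≠ 1 := CharP.char_ne_one K p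
  rcases (Nat.dvd_prime Nat.prime_two).1 h3 with h | h
  · exact absurd h h4
  · rw [← h]; exact hp

theorem no_pbad (hQ : Nondeg Q) (hd : 8 ≤ finrank K V) {a b : V ≃ₗ[K] V}
    (hab : PBad (E Q) a b) (ha : ¬ Scalar a) (hb : ¬ Scalar b) : False := by
  by_cases h2 : (2 : K) = 0
  · have := charP_two_of_eq_zero h2
    exact even_false hQ hd hab ha hb
  · exact odd_false hQ (by omega) h2 hab ha hb

end

theorem szep_of_isPOmegaOdd {G : Type*} [Group G] (h : Cfsg.IsPOmegaOdd G) : Szep G := by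
  obtain ⟨F, _, _, m, hm, hodd, ⟨e⟩⟩ := h
  refine Szep.of_equiv e ?_
  have h2 : (2 : F) ≠ 0 := by
    intro h2
    have := charP_two_of_eq_zero h2
    have h3 : 2 ∣ Fintype.card F := by
      rw [← CharP.cast_eq_zero_iff F 2]
      exact Nat.cast_card_eq_zero F
    exact (Nat.not_even_iff_odd.2 hodd) (even_iff_two_dvd.2 h3)
  have hd : finrank F (Unit ⊕ (Fin m ⊕ Fin m) → F) = 2 * m + 1 := by
    rw [finrank_fintype_fun_eq_card, Fintype.card_sum, Fintype.card_sum, Fintype.card_fin,
      Fintype.card_unit]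
    omega
  rw [← coe_oddForm]
  refine szep_POmega (nondeg_oddForm m F h2) ?_ fun a b hab ha hb =>
    odd_false (nondeg_oddForm m F h2) (by omega) h2 hab ha hb
  rw [← finrank_fintype_fun_eq_card (R := F)]
  omega

theorem szep_of_isPOmegaPlus {G : Type*} [Group G] (h : Cfsg.IsPOmegaPlus G) : Szep G := by
  obtain ⟨F, _, _, m, hm, ⟨e⟩⟩ := h
  refine Szep.of_equiv e ?_
  have hd : finrank F (Fin m ⊕ Fin m → F) = 2 * m := by
    rw [finrank_fintype_fun_eq_card, Fintype.card_sum, Fintype.card_fin]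
    omega
  rw [← coe_plusForm]
  refine szep_POmega (nondeg_plusForm m F) ?_ fun a b hab ha hb =>
    no_pbad (nondeg_plusForm m F) (by omega) hab ha hb
  rw [← finrank_fintype_fun_eq_card (R := F)]
  omega

theorem szep_of_isPOmegaMinus {G : Type*} [Group G] (h : Cfsg.IsPOmegaMinus G) : Szep G := by
  obtain ⟨F, _, _, m, a, b, hm, hab, ⟨e⟩⟩ := h
  refine Szep.of_equiv e ?_
  have hd : finrank F ((Fin (m - 1) ⊕ Fin (m - 1)) ⊕ Fin 2 → F) = 2 * m := by
    rw [finrank_fintype_fun_eq_card, Fintype.card_sum, Fintype.card_sum, Fintype.card_fin,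
      Fintype.card_fin]
    omega
  rw [← coe_minusForm]
  refine szep_POmega (nondeg_minusForm (m - 1) F a b hab) ?_ fun x y hxy hx hy =>
    no_pbad (nondeg_minusForm (m - 1) F a b hab) (by omega) hxy hx hy
  rw [← finrank_fintype_fun_eq_card (R := F)]
  omega

end Cfsg.Agent.H105.SzO
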