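import Mathlib
import Cfsg.Agent.H105.CyclicVec

/-!
# A count: pairs spanning planes `⟨u, a u⟩`
-/

set_option autoImplicit false

namespace Cfsg.Agent.H105.SzCount

open Module

variable {F V : Type*} [Field F] [AddCommGroup V] [Module F V] [FiniteDimensional F V]

open Classical in
theorem card_filter_mem [Fintype V] (W : Submodule F V) :
    (Finset.univ.filter fun v : V => v ∈ W).card = Nat.card F ^ finrank F W := by
  rw [← Module.natCard_eq_pow_finrank (K := F) (V := W), Nat.card_eq_fintype_card,
    Fintype.card_subtype]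

open Classical in
theorem card_filter_diff [Fintype V] {W W' : Submodule F V} (h : W ≤ W') :
    (Finset.univ.filter fun v : V => v ∈ W' ∧ v ∉ W).card =
      Nat.card F ^ finrank F W' - Nat.card F ^ finrank F W := by
  rw [← card_filter_mem W', ← card_filter_mem W, ← Finset.card_sdiff_of_subset]
  · congr 1
    ext v
    simp only [Finset.mem_filter, Finset.mem_univ, true_and, Finset.mem_sdiff]
  · intro v hv
    rw [Finset.mem_filter] at hv ⊢
    exact ⟨hv.1, h hv.2⟩

omit [FiniteDimensional F V] in
theorem finrank_span_pair {v w : V} (h : LinearIndependent F ![v, w]) :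
    finrank F (Submodule.span F {v, w}) = 2 := by
  have h1 := finrank_span_eq_card h
  rw [Matrix.range_cons, Matrix.range_cons, Matrix.range_empty, Set.union_empty, Fintype.card_fin,
    Set.singleton_union] at h1
  exact h1

theorem span_pair_eq {v w : V} (h : LinearIndependent F ![v, w]) {x y : V}
    (hx : x ∈ Submodule.span F {v, w}) (hy : y ∈ Submodule.span F {v, w})
    (hxy : LinearIndependent F ![x, y]) : Submodule.span F {x, y} = Submodule.span F {v, w} := by
  apply Submodule.eq_of_le_of_finrank_eq
  · rw [Submodule.span_le]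
    rintro z (rfl | rfl)
    · exact hx
    · exact hy
  · rw [finrank_span_pair h, finrank_span_pair hxy]

open Classical in
theorem card_pairs_le [Fintype V] (S : Submodule F V) (hS : finrank F S = 2) :
    (Finset.univ.filter fun p : V × V => p.1 ∈ S ∧ p.2 ∈ S ∧ LinearIndependent F ![p.1, p.2]).card ≤
      (Nat.card F ^ 2 - 1) * (Nat.card F ^ 2 - Nat.card F) := by
  rw [Finset.card_eq_sum_card_fiberwise (f := fun p : V × V => p.1)
    (t := Finset.univ.filter fun v : V => v ∈ S ∧ v ∉ (⊥ : Submodule F V))]
  · have h1 : (Finset.univ.filter fun v : V => v ∈ S ∧ v ∉ (⊥ : Submodule F V)).card =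
        Nat.card F ^ 2 - 1 := by
      rw [card_filter_diff bot_le, hS, finrank_bot, pow_zero]
    rw [← h1, ← smul_eq_mul, ← Finset.sum_const]
    refine Finset.sum_le_sum fun x hx => ?_
    rw [Finset.mem_filter] at hx
    have hx0 : x ≠ 0 := fun hc => hx.2.2 (by rw [hc]; exact Submodule.zero_mem _)
    have h2 : finrank F (Submodule.span F {x}) = 1 := finrank_span_singleton hx0
    have h3 : Submodule.span F {x} ≤ S := by
      rw [Submodule.span_le, Set.singleton_subset_iff]
      exact hx.2.1
    have h4 := card_filter_diff h3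
    rw [hS, h2, pow_one] at h4
    rw [← h4]
    refine Finset.card_le_card_of_injOn (fun p => p.2) ?_ ?_
    · intro p hp
      simp only [Finset.coe_filter, Finset.mem_filter, Finset.mem_univ, true_and,
        Set.mem_ofPred_eq] at hp ⊢
      refine ⟨hp.1.2.1, fun hc => ?_⟩
      obtain ⟨t, ht⟩ := Submodule.mem_span_singleton.mp hc
      have h5 := hp.1.2.2
      rw [LinearIndependent.pair_iff] at h5
      have h6 := (h5 t (-1) (by rw [← ht, hp.2]; module)).2
      exact one_ne_zero (neg_eq_zero.mp h6)
    · intro p hp p' hp' hpp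
      simp only [Finset.coe_filter, Finset.mem_filter, Finset.mem_univ, true_and,
        Set.mem_ofPred_eq] at hp hp'
      exact Prod.ext (hp.2.trans hp'.2.symm) hpp
  · intro p hp
    simp only [Finset.coe_filter, Finset.mem_univ, true_and, Set.mem_ofPred_eq] at hp ⊢
    refine ⟨hp.1, fun hc => ?_⟩
    have h5 := hp.2.2.ne_zero 0
    exact h5 hc

open Classical in
theorem count [Finite F] [Fintype V] (a : V ≃ₗ[F] V) (hno : ∀ v, v ≠ 0 → ∀ c : F, a v ≠ c • v)
    (X : Finset (V × V)) (hXi : ∀ p ∈ X, LinearIndependent F ![p.1, p.2])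
    (hX : ∀ p ∈ X, ∃ u, u ≠ 0 ∧ u ∈ Submodule.span F {p.1, p.2} ∧ a u ∈ Submodule.span F {p.1, p.2})
    (Z : Finset V) (hZ : ∀ p ∈ X, ∀ u, u ≠ 0 → u ∈ Submodule.span F {p.1, p.2} →
      a u ∈ Submodule.span F {p.1, p.2} → u ∈ Z) :
    (Nat.card F - 1) * X.card ≤
      Z.card * ((Nat.card F ^ 2 - 1) * (Nat.card F ^ 2 - Nat.card F)) := by
  have : Fintype F := Fintype.ofFinite F
  set r : (V × V) → V → Prop := fun p u => u ≠ 0 ∧ u ∈ Submodule.span F {p.1, p.2} ∧
    a u ∈ Submodule.span F {p.1, p.2} with hr
  have h1 := Finset.sum_card_bipartiteAbove_eq_sum_card_bipartiteBelow (s := X) (t := Z) r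
  have h2 : (Nat.card F - 1) * X.card ≤ ∑ p ∈ X, (Z.bipartiteAbove r p).card := by
    rw [mul_comm, ← smul_eq_mul, ← Finset.sum_const]
    refine Finset.sum_le_sum fun p hp => ?_
    obtain ⟨u, hu0, hu1, hu2⟩ := hX p hp
    have h3 : (Finset.univ.erase (0 : F)).card = Nat.card F - 1 := by
      rw [Finset.card_erase_of_mem (Finset.mem_univ _), Finset.card_univ, Nat.card_eq_fintype_card]
    rw [← h3]
    refine Finset.card_le_card_of_injOn (fun c : F => c • u) ?_ ?_
    · intro c hc
      have hc0 : c ≠ 0 := by simpa using hc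
      have h4 : r p (c • u) := ⟨smul_ne_zero hc0 hu0, Submodule.smul_mem _ _ hu1, by
        rw [map_smul]; exact Submodule.smul_mem _ _ hu2⟩
      rw [Finset.mem_coe, Finset.mem_bipartiteAbove]
      exact ⟨hZ p hp _ h4.1 h4.2.1 h4.2.2, h4⟩
    · intro c _ d _ hcd
      exact smul_left_injective F hu0 hcd
  have h3 : ∑ u ∈ Z, (X.bipartiteBelow r u).card ≤
      Z.card * ((Nat.card F ^ 2 - 1) * (Nat.card F ^ 2 - Nat.card F)) := by
    rw [← smul_eq_mul, ← Finset.sum_const]
    refine Finset.sum_le_sum fun u _ => ?_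
    by_cases hu0 : u = 0
    · have : X.bipartiteBelow r u = ∅ := by
        rw [Finset.eq_empty_iff_forall_notMem]
        intro p hp
        rw [Finset.mem_bipartiteBelow] at hp
        exact hp.2.1 hu0
      rw [this]
      simp
    · have hi : LinearIndependent F ![u, a u] := by
        rw [LinearIndependent.pair_iff' hu0]
        intro c hc
        exact hno u hu0 c hc.symm
      refine le_trans (Finset.card_le_card ?_) (card_pairs_le (Submodule.span F {u, a u})
        (finrank_span_pair hi))
      intro p hp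
      rw [Finset.mem_bipartiteBelow] at hp
      rw [Finset.mem_filter]
      have h4 := span_pair_eq (hXi p hp.1) hp.2.2.1 hp.2.2.2 hi
      refine ⟨Finset.mem_univ _, ?_, ?_, hXi p hp.1⟩
      · rw [h4]; exact Submodule.subset_span (Set.mem_insert _ _)
      · rw [h4]; exact Submodule.subset_span (Set.mem_insert_of_mem _ rfl)
  omega

end Cfsg.Agent.H105.SzCount
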