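import Mathlib
import Cfsg.Agent.H105.SzSp1
import Cfsg.Agent.H105.SzCount

/-!
# Products of two centralizers in symplectic groups, part 2: Case II
-/

set_option autoImplicit false

namespace Cfsg.Agent.H105.SzSp

open Module Cfsg.Agent.H955 Cfsg.Agent.H105.Sz Cfsg.Agent.H105.SzCount

universe u v

variable {F : Type u} {V : Type v} [Field F] [AddCommGroup V] [Module F V] [FiniteDimensional F V]
  {B : LinearMap.BilinForm F V} {a b : V ≃ₗ[F] V}

theorem indep_of_notMem {v w : V} (hv : v ≠ 0) (hw : w ∉ Submodule.span F {v}) :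
    LinearIndependent F ![v, w] := by
  rw [LinearIndependent.pair_iff' hv]
  intro c hc
  exact hw (Submodule.mem_span_singleton.mpr ⟨c, hc⟩)

theorem notMem_of_indep {v w : V} (h : LinearIndependent F ![v, w]) : w ∉ Submodule.span F {v} := by
  intro hc
  obtain ⟨c, hc⟩ := Submodule.mem_span_singleton.mp hc
  rw [LinearIndependent.pair_iff] at h
  have := (h c (-1) (by rw [← hc]; module)).2
  exact one_ne_zero (neg_eq_zero.mp this)

theorem mem_span_pair' {v w x : V} : x ∈ Submodule.span F {v, w} ↔ ∃ s t : F, s • v + t • w = x := by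
  rw [Submodule.mem_span_pair]

/-- transfer of `B v (a v) = 0` -/
theorem q_transfer {x : V ≃ₗ[F] V} (hx : x ∈ IsoB B) [Nontrivial V] (h : SComm x a) (v : V) :
    B (x v) (a (x v)) = 0 ↔ B v (a v) = 0 := by
  obtain ⟨c, hc⟩ := h
  have hc0 := SComm.ne hc
  rw [hc, map_smul, hx, smul_eq_mul, mul_eq_zero]
  simp [hc0]

/-- transfer of eigenvectors -/
theorem eig_transfer {x : V ≃ₗ[F] V} (h : SComm x a) {v : V} {c : F} (hv : a v = c • v) :
    ∃ c : F, a (x v) = c • x v := by
  obtain ⟨d, hd⟩ := h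
  exact ⟨d * c, by rw [hd, hv, map_smul, smul_smul]⟩

/-- If the elements commuting with `a` (up to scalars) move a fixed vector to every point, then
`B v (a v) = 0` for all `v`. -/
theorem case_one [Finite F] (hn : 4 ≤ finrank F V) {r : V}
    (htr : ∀ w : V, w ≠ 0 → ∃ x ∈ IsoB B, SComm x a ∧ ∃ t : F, x r = t • w) (hr : r ≠ 0) :
    ∀ v, B v (a v) = 0 := by
  have : Nontrivial V := Module.nontrivial_of_finrank_pos (R := F) (by omega)
  have key : ∀ w : V, w ≠ 0 → (B w (a w) = 0 ↔ B r (a r) = 0) := by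
    intro w hw
    obtain ⟨x, hx, hxa, t, ht⟩ := htr w hw
    have ht0 : t ≠ 0 := by
      rintro rfl
      rw [zero_smul] at ht
      exact hr ((LinearEquiv.map_eq_zero_iff x).mp ht)
    have h1 := q_transfer hx hxa r
    rw [ht, map_smul, map_smul, map_smul, LinearMap.smul_apply, smul_eq_mul, smul_eq_mul] at h1
    rw [← h1]
    simp [ht0]
  obtain ⟨z, -, hz0, hz⟩ := exists_zero (B := B) (a : V →ₗ[F] V) ⊤ (by rw [finrank_top]; omega)
  intro v
  by_cases hv : v = 0
  · rw [hv]; simp
  · exact (key v hv).mpr ((key z hz0).mp hz)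

/-- transitivity on planes of a given type -/
def PlaneTr (B : LinearMap.BilinForm F V) (a : V ≃ₗ[F] V) (T : Prop) : Prop :=
  ∀ v w v' w' : V, LinearIndependent F ![v, w] → LinearIndependent F ![v', w'] →
    (B v w = 0 ↔ T) → (B v' w' = 0 ↔ T) →
    ∃ x ∈ IsoB B, SComm x a ∧ ∀ u ∈ Submodule.span F {v, w}, x u ∈ Submodule.span F {v', w'}

/-- the property "some nonzero `u` in the plane has `a u` in the plane" -/
def P1 (a : V ≃ₗ[F] V) (v w : V) : Prop :=
  ∃ u, u ≠ 0 ∧ u ∈ Submodule.span F {v, w} ∧ a u ∈ Submodule.span F {v, w}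

/-- the property "the plane contains an eigenvector" -/
def P2 (a : V ≃ₗ[F] V) (v w : V) : Prop :=
  ∃ u, u ≠ 0 ∧ u ∈ Submodule.span F {v, w} ∧ ∃ c : F, a u = c • u

/-- the property "the plane is invariant" -/
def P3 (a : V ≃ₗ[F] V) (v w : V) : Prop :=
  ∀ u ∈ Submodule.span F {v, w}, a u ∈ Submodule.span F {v, w}

theorem PlaneTr.p1 {T : Prop} (h : PlaneTr B a T) {v w v' w' : V} (hi : LinearIndependent F ![v, w])
    (hi' : LinearIndependent F ![v', w']) (hT : B v w = 0 ↔ T) (hT' : B v' w' = 0 ↔ T)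
    (h1 : P1 a v w) : P1 a v' w' := by
  obtain ⟨x, hx, ⟨c, hc⟩, hx'⟩ := h v w v' w' hi hi' hT hT'
  obtain ⟨u, hu0, hu1, hu2⟩ := h1
  refine ⟨x u, map_ne x hu0, hx' u hu1, ?_⟩
  rw [hc]
  exact Submodule.smul_mem _ _ (hx' _ hu2)

theorem PlaneTr.p2 {T : Prop} (h : PlaneTr B a T) {v w v' w' : V} (hi : LinearIndependent F ![v, w])
    (hi' : LinearIndependent F ![v', w']) (hT : B v w = 0 ↔ T) (hT' : B v' w' = 0 ↔ T)
    (h1 : P2 a v w) : P2 a v' w' := by
  obtain ⟨x, hx, hc, hx'⟩ := h v w v' w' hi hi' hT hT'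
  obtain ⟨u, hu0, hu1, c, hu2⟩ := h1
  exact ⟨x u, map_ne x hu0, hx' u hu1, eig_transfer hc hu2⟩

theorem PlaneTr.p3 {T : Prop} (h : PlaneTr B a T) {v w v' w' : V} (hi : LinearIndependent F ![v, w])
    (hi' : LinearIndependent F ![v', w']) (hT : B v w = 0 ↔ T) (hT' : B v' w' = 0 ↔ T)
    (h1 : P3 a v w) : P3 a v' w' := by
  obtain ⟨x, hx, ⟨c, hc⟩, hx'⟩ := h v w v' w' hi hi' hT hT'
  -- x maps the plane onto the plane
  have hmap : (Submodule.span F {v, w}).map (x : V →ₗ[F] V) = Submodule.span F {v', w'} := by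
    apply Submodule.eq_of_le_of_finrank_eq
    · rintro _ ⟨u, hu, rfl⟩
      exact hx' u hu
    · rw [LinearEquiv.finrank_map_eq, finrank_span_pair hi, finrank_span_pair hi']
  intro u hu
  rw [← hmap] at hu
  obtain ⟨y, hy, rfl⟩ := hu
  change a (x y) ∈ _
  rw [hc]
  exact Submodule.smul_mem _ _ (hx' _ (h1 y hy))

/-- a plane spanned by two eigenvectors is invariant -/
theorem p3_of_eig {v w : V} (hv : ∃ c : F, a v = c • v) (hw : ∃ c : F, a w = c • w) : P3 a v w := by
  obtain ⟨c, hc⟩ := hv
  obtain ⟨d, hd⟩ := hw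
  intro u hu
  obtain ⟨s, t, rfl⟩ := mem_span_pair'.mp hu
  rw [map_add, map_smul, map_smul, hc, hd, mem_span_pair']
  exact ⟨s * c, t * d, by rw [mul_smul, mul_smul]⟩

theorem mem_inter {z w₁ w₂ x : V} (h2 : w₂ ∉ Submodule.span F {z, w₁})
    (hx1 : x ∈ Submodule.span F {z, w₁}) (hx2 : x ∈ Submodule.span F {z, w₂}) :
    ∃ c : F, x = c • z := by
  obtain ⟨s, t, hst⟩ := mem_span_pair'.mp hx1
  obtain ⟨s', t', hst'⟩ := mem_span_pair'.mp hx2
  by_cases ht : t' = 0
  · exact ⟨s', by rw [← hst', ht, zero_smul, add_zero]⟩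
  · exfalso
    apply h2
    rw [mem_span_pair']
    refine ⟨t'⁻¹ * (s - s'), t'⁻¹ * t, ?_⟩
    have h3 : t' • w₂ = (s - s') • z + t • w₁ := by
      have : s • z + t • w₁ - (s' • z + t' • w₂) = 0 := by rw [hst, hst', sub_self]
      have h4 : t' • w₂ = (s - s') • z + t • w₁ - (s • z + t • w₁ - (s' • z + t' • w₂)) := by module
      rw [this, sub_zero] at h4
      exact h4
    rw [mul_smul, mul_smul, ← smul_add, ← h3, smul_smul, inv_mul_cancel₀ ht, one_smul]

/-- vectors perpendicular to `z` outside of a plane -/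
theorem exists_perp_notMem (h : IsSp B) (hn : 4 ≤ finrank F V) {z : V} (hz : z ≠ 0)
    (W : Submodule F V) (hW : finrank F W ≤ 2) : ∃ w, B z w = 0 ∧ w ∉ W := by
  have h1 := finrank_ker h hz
  obtain ⟨w, hw1, hw2⟩ := exists_notMem (W := W) (W' := LinearMap.ker (B z)) (by omega)
  exact ⟨w, hw1, hw2⟩

theorem ker_ne_top (h : IsSp B) {z : V} (hz : z ≠ 0) : LinearMap.ker (B z) ≠ ⊤ := by
  intro hc
  apply hz
  apply h.nd z
  intro y
  have : y ∈ LinearMap.ker (B z) := by rw [hc]; trivial
  exact this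

theorem ne_top_of_lt {W : Submodule F V} (hW : finrank F W < finrank F V) : W ≠ ⊤ := by
  rintro rfl
  rw [finrank_top] at hW
  exact lt_irrefl _ hW

/-- vectors not perpendicular to `z` outside of a plane -/
theorem exists_nperp_notMem (h : IsSp B) {z : V} (hz : z ≠ 0)
    (W : Submodule F V) (hW : finrank F W < finrank F V) : ∃ w, B z w ≠ 0 ∧ w ∉ W := by
  obtain ⟨w, hw1, hw2⟩ := Cfsg.Agent.H105.exists_notMem_two _ _ (ker_ne_top h hz) (ne_top_of_lt hW)
  exact ⟨w, hw1, hw2⟩

/-- if all planes of one type are invariant, `a` is a scalar -/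
theorem scalar_of_p3 (h : IsSp B) (hn : 4 ≤ finrank F V) {T : Prop}
    (h3 : ∀ v w : V, LinearIndependent F ![v, w] → (B v w = 0 ↔ T) → P3 a v w) : Scalar a := by
  apply scalar_of_all
  intro z
  by_cases hz : z = 0
  · exact ⟨0, by rw [hz]; simp⟩
  by_cases hT : T
  · obtain ⟨w₁, hw1, hw1'⟩ := exists_perp_notMem h hn hz (Submodule.span F {z})
      ((finrank_span_single_le z).trans (by omega))
    obtain ⟨w₂, hw2, hw2'⟩ := exists_perp_notMem h hn hz (Submodule.span F {z, w₁})
      (finrank_span_pair_le z w₁)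
    have hi1 := indep_of_notMem hz hw1'
    have hi2 : LinearIndependent F ![z, w₂] := indep_of_notMem hz (fun hc => hw2'
      (Submodule.span_mono (Set.singleton_subset_iff.mpr (Set.mem_insert _ _)) hc))
    exact mem_inter hw2' (h3 z w₁ hi1 ⟨fun _ => hT, fun _ => hw1⟩ z
      (Submodule.subset_span (Set.mem_insert _ _)))
      (h3 z w₂ hi2 ⟨fun _ => hT, fun _ => hw2⟩ z (Submodule.subset_span (Set.mem_insert _ _)))
  · obtain ⟨w₁, hw1, hw1'⟩ := exists_nperp_notMem h hz (Submodule.span F {z})
      (lt_of_le_of_lt (finrank_span_single_le z) (by omega))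
    obtain ⟨w₂, hw2, hw2'⟩ := exists_nperp_notMem h hz (Submodule.span F {z, w₁})
      (lt_of_le_of_lt (finrank_span_pair_le z w₁) (by omega))
    have hi1 := indep_of_notMem hz hw1'
    have hi2 : LinearIndependent F ![z, w₂] := indep_of_notMem hz (fun hc => hw2'
      (Submodule.span_mono (Set.singleton_subset_iff.mpr (Set.mem_insert _ _)) hc))
    exact mem_inter hw2' (h3 z w₁ hi1 ⟨fun hc => absurd hc hw1, fun hc => absurd hc hT⟩ z
      (Submodule.subset_span (Set.mem_insert _ _)))
      (h3 z w₂ hi2 ⟨fun hc => absurd hc hw2, fun hc => absurd hc hT⟩ z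
        (Submodule.subset_span (Set.mem_insert _ _)))

theorem eig_perp_of {v w : V} (ha : a ∈ IsoB B) {c d : F} (hc : a v = c • v) (hd : a w = d • w)
    (hvw : B v w ≠ 0) : c * d = 1 := by
  have h5 : B v w = (c * d) * B v w := by
    conv_lhs => rw [← ha v w, hc, hd]
    rw [map_smul, map_smul, LinearMap.smul_apply, smul_eq_mul, smul_eq_mul]
    ring
  have h6 : (c * d - 1) * B v w = 0 := by rw [sub_mul, ← h5, one_mul, sub_self]
  rcases mul_eq_zero.mp h6 with h7 | h7
  · exact sub_eq_zero.mp h7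
  · exact absurd h7 hvw

/-- totally isotropic planes, eigenvectors -/
theorem ti_no_eig (h : IsSp B) (hn : 4 ≤ finrank F V) (ha : a ∈ IsoB B) (hns : ¬ Scalar a)
    (htr : PlaneTr B a True) : ∀ v, v ≠ 0 → ∀ c : F, a v ≠ c • v := by
  intro e he0 lam he
  obtain ⟨w₀, hw0, hw0'⟩ := exists_perp_notMem h hn he0 (Submodule.span F {e})
      ((finrank_span_single_le e).trans (by omega))
  have hi0 := indep_of_notMem he0 hw0'
  have hp2 : ∀ v w : V, LinearIndependent F ![v, w] → B v w = 0 → P2 a v w := by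
    intro v w hi hvw
    exact htr.p2 hi0 hi ⟨fun _ => trivial, fun _ => hw0⟩ ⟨fun _ => trivial, fun _ => hvw⟩
      ⟨e, he0, Submodule.subset_span (Set.mem_insert _ _), lam, he⟩
  by_cases hpair : ∃ f g : V, LinearIndependent F ![f, g] ∧ B f g = 0 ∧ (∃ c : F, a f = c • f) ∧
      ∃ c : F, a g = c • g
  · obtain ⟨f, g, hi, hfg, hf, hg⟩ := hpair
    apply hns
    refine scalar_of_p3 h hn (T := True) ?_
    intro v w hi' hvw
    exact htr.p3 hi hi' ⟨fun _ => trivial, fun _ => hfg⟩ hvw (p3_of_eig hf hg)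
  · push Not at hpair
    -- all eigenvectors lie in a subspace of dimension at most two
    obtain ⟨D, hD2, heD, hD⟩ : ∃ D : Submodule F V, finrank F D ≤ 2 ∧ e ∈ D ∧
        ∀ g : V, (∃ c : F, a g = c • g) → g ∈ D := by
      by_cases hone : ∀ g : V, (∃ c : F, a g = c • g) → g ∈ Submodule.span F {e}
      · exact ⟨Submodule.span F {e}, (finrank_span_single_le e).trans (by omega),
          Submodule.mem_span_singleton_self e, hone⟩
      · push Not at hone
        obtain ⟨f, ⟨mu, hf⟩, hfe⟩ := hone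
        have hief := indep_of_notMem he0 hfe
        have hf0 : f ≠ 0 := hief.ne_zero 1
        have hef : B e f ≠ 0 := fun hc => hpair e f hief hc ⟨lam, he⟩ mu hf
        refine ⟨Submodule.span F {e, f}, finrank_span_pair_le e f,
          Submodule.subset_span (Set.mem_insert _ _), ?_⟩
        rintro g ⟨nu, hg⟩
        by_contra hgD
        have hige : LinearIndependent F ![e, g] := indep_of_notMem he0 (fun hc => hgD
          (Submodule.span_mono (Set.singleton_subset_iff.mpr (Set.mem_insert _ _)) hc))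
        have higf : LinearIndependent F ![f, g] := indep_of_notMem hf0 (fun hc => hgD
          (Submodule.span_mono (Set.singleton_subset_iff.mpr
            (Set.mem_insert_of_mem _ (Set.mem_singleton f))) hc))
        have heg : B e g ≠ 0 := fun hc => hpair e g hige hc ⟨lam, he⟩ nu hg
        have hfg : B f g ≠ 0 := fun hc => hpair f g higf hc ⟨mu, hf⟩ nu hg
        have h1 := eig_perp_of ha he hf hef
        have h2 := eig_perp_of ha he hg heg
        have h3 := eig_perp_of ha hf hg hfg
        have hl0 : lam ≠ 0 := by rintro rfl; rw [zero_mul] at h1; exact zero_ne_one h1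
        have hn0 : nu ≠ 0 := by rintro rfl; rw [mul_zero] at h2; exact zero_ne_one h2
        have hmn : mu = nu := mul_left_cancel₀ hl0 (h1.trans h2.symm)
        subst hmn
        have hlm : lam = mu := mul_right_cancel₀ hn0 (h2.trans h3.symm)
        subst hlm
        -- x = B e f • g - B e g • f
        refine hpair e ((B e f) • g - (B e g) • f) (indep_of_notMem he0 ?_) ?_ ⟨lam, he⟩ lam ?_
        · intro hc
          apply hgD
          have h4 : (B e f) • g ∈ Submodule.span F {e, f} := by
            have h5 : (B e f) • g = ((B e f) • g - (B e g) • f) + (B e g) • f := by module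
            rw [h5]
            refine Submodule.add_mem _ (Submodule.span_mono (Set.singleton_subset_iff.mpr
              (Set.mem_insert _ _)) hc) (Submodule.smul_mem _ _ (Submodule.subset_span
              (Set.mem_insert_of_mem _ (Set.mem_singleton f))))
          exact (Submodule.smul_mem_iff _ hef).mp h4
        · rw [map_sub, map_smul, map_smul, smul_eq_mul, smul_eq_mul]; ring
        · rw [map_sub, map_smul, map_smul, hf, hg]; module
    -- a totally isotropic plane avoiding `D`
    have hDne : D ≠ ⊤ := ne_top_of_lt (by omega)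
    have hDorth : B.orthogonal D ≠ ⊤ := by
      intro hc
      apply he0
      apply h.nd e
      intro y
      have h1 : y ∈ B.orthogonal D := by rw [hc]; trivial
      rw [LinearMap.BilinForm.mem_orthogonal_iff] at h1
      exact h1 e heD
    obtain ⟨v, hv1, hv2⟩ := Cfsg.Agent.H105.exists_notMem_two _ _ hDne hDorth
    have hv0 : v ≠ 0 := by
      rintro rfl
      exact hv1 (Submodule.zero_mem _)
    obtain ⟨w, hw1, hw2⟩ : ∃ w, B v w = 0 ∧ w ∉ Submodule.span F {v} ⊔ D := by
      by_contra hcon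
      push Not at hcon
      have h1 : LinearMap.ker (B v) ≤ Submodule.span F {v} ⊔ D := hcon
      have h2 := finrank_ker h hv0
      have h3 := Submodule.finrank_add_le_finrank_add_finrank (Submodule.span F {v}) D
      have h4 := finrank_span_single_le (F := F) v
      have h5 : LinearMap.ker (B v) = Submodule.span F {v} ⊔ D := by
        apply Submodule.eq_of_le_of_finrank_le h1
        omega
      apply hv2
      rw [LinearMap.BilinForm.mem_orthogonal_iff]
      intro d hd
      change B d v = 0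
      rw [h.swap, neg_eq_zero]
      have h6 : d ∈ LinearMap.ker (B v) := by
        rw [h5]
        exact Submodule.mem_sup_right hd
      exact h6
    have hi : LinearIndependent F ![v, w] := indep_of_notMem hv0
      (fun hc => hw2 (Submodule.mem_sup_left hc))
    obtain ⟨u, hu0, hu, hue⟩ := hp2 v w hi hw1
    have huD := hD u hue
    obtain ⟨s, t, hst⟩ := mem_span_pair'.mp hu
    by_cases ht : t = 0
    · rw [ht, zero_smul, add_zero] at hst
      by_cases hs : s = 0
      · rw [hs, zero_smul] at hst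
        exact hu0 hst.symm
      · rw [← hst] at huD
        exact hv1 ((Submodule.smul_mem_iff _ hs).mp huD)
    · apply hw2
      have h6 : t • w ∈ Submodule.span F {v} ⊔ D := by
        have : t • w = (-s) • v + u := by rw [← hst]; module
        rw [this]
        exact Submodule.add_mem _ (Submodule.mem_sup_left (Submodule.smul_mem _ _
          (Submodule.mem_span_singleton_self v))) (Submodule.mem_sup_right huD)
      exact (Submodule.smul_mem_iff _ ht).mp h6

/-- nondegenerate planes, eigenvectors -/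
theorem nd_no_eig (h : IsSp B) (hn : 4 ≤ finrank F V) (hns : ¬ Scalar a)
    (htr : PlaneTr B a False) : ∀ v, v ≠ 0 → ∀ c : F, a v ≠ c • v := by
  intro e he0 lam he
  obtain ⟨w₀, hw0, -⟩ := exists_nperp_notMem h he0 (Submodule.span F {e})
      (lt_of_le_of_lt (finrank_span_single_le e) (by omega))
  have hi0 := indep_of_ne h hw0
  have hp2 : ∀ v w : V, B v w ≠ 0 → P2 a v w := by
    intro v w hvw
    exact htr.p2 hi0 (indep_of_ne h hvw) ⟨fun hc => absurd hc hw0, fun hc => hc.elim⟩
      ⟨fun hc => absurd hc hvw, fun hc => hc.elim⟩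
      ⟨e, he0, Submodule.subset_span (Set.mem_insert _ _), lam, he⟩
  by_cases hpair : ∃ f g : V, B f g ≠ 0 ∧ (∃ c : F, a f = c • f) ∧ ∃ c : F, a g = c • g
  · obtain ⟨f, g, hfg, hf, hg⟩ := hpair
    apply hns
    refine scalar_of_p3 h hn (T := False) ?_
    intro v w hi' hvw
    exact htr.p3 (indep_of_ne h hfg) hi' ⟨fun hc => absurd hc hfg, fun hc => hc.elim⟩ hvw
      (p3_of_eig hf hg)
  · push Not at hpair
    -- the span of the eigenvectors is totally isotropic
    set D : Submodule F V := Submodule.span F {g | ∃ c : F, a g = c • g} with hD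
    have hDD : D ≤ B.orthogonal D := by
      rw [hD, Submodule.span_le]
      rintro g ⟨c, hg⟩
      rw [SetLike.mem_coe, LinearMap.BilinForm.mem_orthogonal_iff]
      intro f hf
      change B f g = 0
      induction hf using Submodule.span_induction with
      | mem x hx =>
        by_contra hc
        exact hpair x g hc hx c hg
      | zero => simp
      | add x y _ _ hx hy => rw [map_add, LinearMap.add_apply, hx, hy, add_zero]
      | smul t x _ hx => rw [map_smul, LinearMap.smul_apply, hx, smul_zero]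
    have hfD := Submodule.finrank_mono hDD
    rw [finrank_orth h] at hfD
    have hlt : finrank F D + 1 < finrank F V := by omega
    obtain ⟨v, -, hv1⟩ := exists_notMem (W := D) (W' := ⊤) (by rw [finrank_top]; omega)
    have hv0 : v ≠ 0 := by
      rintro rfl
      exact hv1 (Submodule.zero_mem _)
    obtain ⟨w, hw1, hw2⟩ := exists_nperp_notMem h hv0 (Submodule.span F {v} ⊔ D) (by
      have h3 := Submodule.finrank_add_le_finrank_add_finrank (Submodule.span F {v}) D
      have h4 := finrank_span_single_le (F := F) v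
      omega)
    obtain ⟨u, hu0, hu, hue⟩ := hp2 v w hw1
    have huD : u ∈ D := Submodule.subset_span hue
    obtain ⟨s, t, hst⟩ := mem_span_pair'.mp hu
    by_cases ht : t = 0
    · rw [ht, zero_smul, add_zero] at hst
      by_cases hs : s = 0
      · rw [hs, zero_smul] at hst
        exact hu0 hst.symm
      · rw [← hst] at huD
        exact hv1 ((Submodule.smul_mem_iff _ hs).mp huD)
    · apply hw2
      have h6 : t • w ∈ Submodule.span F {v} ⊔ D := by
        have : t • w = (-s) • v + u := by rw [← hst]; module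
        rw [this]
        exact Submodule.add_mem _ (Submodule.mem_sup_left (Submodule.smul_mem _ _
          (Submodule.mem_span_singleton_self v))) (Submodule.mem_sup_right huD)
      exact (Submodule.smul_mem_iff _ ht).mp h6

section Count

variable [Finite F]

open Classical in
/-- number of perpendicular independent pairs -/
theorem card_perp_pairs [Fintype V] (h : IsSp B) :
    (Finset.univ.filter fun p : V × V => B p.1 p.2 = 0 ∧ LinearIndependent F ![p.1, p.2]).card =
      (Nat.card F ^ finrank F V - 1) * (Nat.card F ^ (finrank F V - 1) - Nat.card F) := by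
  rw [Finset.card_eq_sum_card_fiberwise (f := fun p : V × V => p.1)
    (t := Finset.univ.filter fun v : V => v ∈ (⊤ : Submodule F V) ∧ v ∉ (⊥ : Submodule F V))]
  · have h1 : (Finset.univ.filter fun v : V => v ∈ (⊤ : Submodule F V) ∧ v ∉ (⊥ : Submodule F V)).card =
        Nat.card F ^ finrank F V - 1 := by
      rw [card_filter_diff bot_le, finrank_top, finrank_bot, pow_zero]
    rw [← h1, ← smul_eq_mul, ← Finset.sum_const]
    refine Finset.sum_congr rfl fun x hx => ?_
    rw [Finset.mem_filter] at hx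
    have hx0 : x ≠ 0 := fun hc => hx.2.2 (by rw [hc]; exact Submodule.zero_mem _)
    have h2 : finrank F (Submodule.span F {x}) = 1 := finrank_span_singleton hx0
    have h3 : Submodule.span F {x} ≤ LinearMap.ker (B x) := by
      rw [Submodule.span_le, Set.singleton_subset_iff]
      exact h.alt x
    have h4 := card_filter_diff h3
    have h5 := finrank_ker h hx0
    rw [h2, pow_one, show finrank F (LinearMap.ker (B x)) = finrank F V - 1 by omega] at h4
    rw [← h4]
    refine Finset.card_bij (fun p _ => p.2) ?_ ?_ ?_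
    · intro p hp
      simp only [Finset.mem_filter, Finset.mem_univ, true_and] at hp ⊢
      rw [← hp.2]
      exact ⟨hp.1.1, notMem_of_indep hp.1.2⟩
    · intro p hp p' hp' hpp
      simp only [Finset.mem_filter, Finset.mem_univ, true_and] at hp hp'
      exact Prod.ext (hp.2.trans hp'.2.symm) hpp
    · intro y hy
      simp only [Finset.mem_filter, Finset.mem_univ, true_and] at hy
      refine ⟨(x, y), ?_, rfl⟩
      simp only [Finset.mem_filter, Finset.mem_univ, true_and, and_true]
      exact ⟨hy.1, indep_of_notMem hx0 hy.2⟩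
  · intro p hp
    simp only [Finset.coe_filter, Finset.mem_univ, true_and, Set.mem_ofPred_eq] at hp ⊢
    refine ⟨trivial, fun hc => ?_⟩
    exact hp.2.ne_zero 0 hc

open Classical in
/-- number of non-perpendicular pairs -/
theorem card_nperp_pairs [Fintype V] (h : IsSp B) :
    (Finset.univ.filter fun p : V × V => B p.1 p.2 ≠ 0).card =
      (Nat.card F ^ finrank F V - 1) * (Nat.card F ^ finrank F V - Nat.card F ^ (finrank F V - 1)) := by
  rw [Finset.card_eq_sum_card_fiberwise (f := fun p : V × V => p.1)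
    (t := Finset.univ.filter fun v : V => v ∈ (⊤ : Submodule F V) ∧ v ∉ (⊥ : Submodule F V))]
  · have h1 : (Finset.univ.filter fun v : V => v ∈ (⊤ : Submodule F V) ∧ v ∉ (⊥ : Submodule F V)).card =
        Nat.card F ^ finrank F V - 1 := by
      rw [card_filter_diff bot_le, finrank_top, finrank_bot, pow_zero]
    rw [← h1, ← smul_eq_mul, ← Finset.sum_const]
    refine Finset.sum_congr rfl fun x hx => ?_
    rw [Finset.mem_filter] at hx
    have hx0 : x ≠ 0 := fun hc => hx.2.2 (by rw [hc]; exact Submodule.zero_mem _)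
    have h4 := card_filter_diff (F := F) (le_top : LinearMap.ker (B x) ≤ ⊤)
    have h5 := finrank_ker h hx0
    rw [finrank_top, show finrank F (LinearMap.ker (B x)) = finrank F V - 1 by omega] at h4
    rw [← h4]
    refine Finset.card_bij (fun p _ => p.2) ?_ ?_ ?_
    · intro p hp
      simp only [Finset.mem_filter, Finset.mem_univ, true_and] at hp ⊢
      rw [← hp.2]
      exact ⟨trivial, hp.1⟩
    · intro p hp p' hp' hpp
      simp only [Finset.mem_filter, Finset.mem_univ, true_and] at hp hp'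
      exact Prod.ext (hp.2.trans hp'.2.symm) hpp
    · intro y hy
      simp only [Finset.mem_filter, Finset.mem_univ, true_and] at hy
      refine ⟨(x, y), ?_, rfl⟩
      simp only [Finset.mem_filter, Finset.mem_univ, true_and, and_true]
      exact hy.2
  · intro p hp
    simp only [Finset.coe_filter, Finset.mem_univ, true_and, Set.mem_ofPred_eq] at hp ⊢
    refine ⟨trivial, fun hc => hp ?_⟩
    have hc' : p.1 = 0 := hc
    rw [hc', map_zero, LinearMap.zero_apply]

/-- **nondegenerate planes** -/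
theorem nd_false (h : IsSp B) (hn : 4 ≤ finrank F V) (hns : ¬ Scalar a)
    (htr : PlaneTr B a False) : ∀ v, B v (a v) = 0 := by
  classical
  by_contra hcon
  push Not at hcon
  obtain ⟨z, hz⟩ := hcon
  have finV : Finite V := Module.finite_of_finite F
  have : Fintype V := Fintype.ofFinite V
  have hno := nd_no_eig h hn hns htr
  have hz0 : z ≠ 0 := by rintro rfl; exact hz (by simp)
  have h1 := count a hno (Finset.univ.filter fun p : V × V => B p.1 p.2 ≠ 0) (by
    intro p hp
    rw [Finset.mem_filter] at hp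
    exact indep_of_ne h hp.2) (by
    intro p hp
    rw [Finset.mem_filter] at hp
    exact htr.p1 (indep_of_ne h hz) (indep_of_ne h hp.2) ⟨fun hc => absurd hc hz, fun hc => hc.elim⟩
      ⟨fun hc => absurd hc hp.2, fun hc => hc.elim⟩
      ⟨z, hz0, Submodule.subset_span (Set.mem_insert _ _),
        Submodule.subset_span (Set.mem_insert_of_mem _ rfl)⟩)
    (Finset.univ.filter fun v : V => v ∈ (⊤ : Submodule F V) ∧ v ∉ (⊥ : Submodule F V)) (by
    intro p _ u hu _ _
    rw [Finset.mem_filter]
    exact ⟨Finset.mem_univ _, trivial, fun hc => hu hc⟩)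
  rw [card_nperp_pairs h, card_filter_diff bot_le, finrank_top, finrank_bot, pow_zero] at h1
  have hq : 2 ≤ Nat.card F := Finite.one_lt_card
  obtain ⟨m, hm⟩ : ∃ m, finrank F V = m + 4 := ⟨finrank F V - 4, by omega⟩
  rw [hm, show m + 4 - 1 = m + 3 by omega] at h1
  generalize Nat.card F = q at h1 hq
  obtain ⟨r, rfl⟩ : ∃ r, q = r + 2 := ⟨q - 2, by omega⟩
  have hP : 1 ≤ (r + 2) ^ m := Nat.one_le_pow _ _ (by omega)
  have hN : 0 < (r + 2) ^ (m + 4) - 1 := by
    have : 1 < (r + 2) ^ (m + 4) := Nat.one_lt_pow (by omega) (by omega)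
    omega
  have h2 : (r + 2 - 1) * ((r + 2) ^ (m + 4) - (r + 2) ^ (m + 3)) ≤
      ((r + 2) ^ 2 - 1) * ((r + 2) ^ 2 - (r + 2)) := by
    apply Nat.le_of_mul_le_mul_left _ hN
    calc ((r + 2) ^ (m + 4) - 1) * ((r + 2 - 1) * ((r + 2) ^ (m + 4) - (r + 2) ^ (m + 3)))
        = (r + 2 - 1) * (((r + 2) ^ (m + 4) - 1) * ((r + 2) ^ (m + 4) - (r + 2) ^ (m + 3))) := by ring
      _ ≤ _ := h1
  have e1 : (r + 2) ^ (m + 4) - (r + 2) ^ (m + 3) = (r + 2) ^ m * ((r + 2) ^ 3 * (r + 1)) := by
    rw [Nat.sub_eq_of_eq_add]; ring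
  have e2 : (r + 2) ^ 2 - 1 = (r + 1) * (r + 3) := by rw [Nat.sub_eq_of_eq_add]; ring
  have e3 : (r + 2) ^ 2 - (r + 2) = (r + 2) * (r + 1) := by rw [Nat.sub_eq_of_eq_add]; ring
  rw [e1, e2, e3, show r + 2 - 1 = r + 1 by omega] at h2
  have h3 : (r + 1) * ((r + 2) ^ 3 * (r + 1)) ≤ (r + 1) * ((r + 2) ^ m * ((r + 2) ^ 3 * (r + 1))) :=
    Nat.mul_le_mul_left _ (Nat.le_mul_of_pos_left _ hP)
  have h4 := h3.trans h2
  nlinarith [h4]

/-- **totally isotropic planes** -/
theorem ti_false (h : IsSp B) (hn : 4 ≤ finrank F V) (ha : a ∈ IsoB B) (hns : ¬ Scalar a)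
    (htr : PlaneTr B a True) : ∀ v, B v (a v) = 0 := by
  classical
  by_contra hcon
  push Not at hcon
  obtain ⟨z, hz⟩ := hcon
  have finV : Finite V := Module.finite_of_finite F
  have : Fintype V := Fintype.ofFinite V
  have hno := ti_no_eig h hn ha hns htr
  have hz0 : z ≠ 0 := by rintro rfl; exact hz (by simp)
  obtain ⟨y, -, hy0, hy⟩ := exists_zero (B := B) (a : V →ₗ[F] V) ⊤ (by rw [finrank_top]; omega)
  have hiy : LinearIndependent F ![y, a y] := by
    rw [LinearIndependent.pair_iff' hy0]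
    intro c hc
    exact hno y hy0 c hc.symm
  have h1 := count a hno
    (Finset.univ.filter fun p : V × V => B p.1 p.2 = 0 ∧ LinearIndependent F ![p.1, p.2]) (by
    intro p hp
    rw [Finset.mem_filter] at hp
    exact hp.2.2) (by
    intro p hp
    rw [Finset.mem_filter] at hp
    exact htr.p1 hiy hp.2.2 ⟨fun _ => trivial, fun _ => hy⟩ ⟨fun _ => trivial, fun _ => hp.2.1⟩
      ⟨y, hy0, Submodule.subset_span (Set.mem_insert _ _),
        Submodule.subset_span (Set.mem_insert_of_mem _ rfl)⟩)
    ((Finset.univ.filter fun v : V => v ∈ (⊤ : Submodule F V) ∧ v ∉ (⊥ : Submodule F V)).erase z) (by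
    intro p hp u hu hu1 hu2
    rw [Finset.mem_filter] at hp
    rw [Finset.mem_erase, Finset.mem_filter]
    refine ⟨?_, Finset.mem_univ _, trivial, fun hc => hu hc⟩
    rintro rfl
    apply hz
    obtain ⟨s, t, hst⟩ := mem_span_pair'.mp hu1
    obtain ⟨s', t', hst'⟩ := mem_span_pair'.mp hu2
    have hp2 : B p.2 p.1 = 0 := by rw [h.swap, hp.2.1, neg_zero]
    rw [← hst', ← hst]
    simp only [map_add, map_smul, LinearMap.add_apply, LinearMap.smul_apply, h.alt, hp.2.1, hp2,
      smul_zero, add_zero])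
  rw [card_perp_pairs h, Finset.card_erase_of_mem (by
    rw [Finset.mem_filter]
    exact ⟨Finset.mem_univ _, trivial, fun hc => hz0 hc⟩), card_filter_diff bot_le, finrank_top,
    finrank_bot, pow_zero] at h1
  have hq : 2 ≤ Nat.card F := Finite.one_lt_card
  obtain ⟨m, hm⟩ : ∃ m, finrank F V = m + 4 := ⟨finrank F V - 4, by omega⟩
  rw [hm, show m + 4 - 1 = m + 3 by omega] at h1
  generalize Nat.card F = q at h1 hq
  obtain ⟨r, rfl⟩ : ∃ r, q = r + 2 := ⟨q - 2, by omega⟩
  have hP : 1 ≤ (r + 2) ^ m := Nat.one_le_pow _ _ (by omega)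
  have hN : 1 < (r + 2) ^ (m + 4) - 1 := by
    have : (r + 2) ^ (m + 4) = (r + 2) ^ m * (r + 2) ^ 4 := by ring
    have h5 : 2 ^ 4 ≤ (r + 2) ^ 4 := Nat.pow_le_pow_left (by omega) 4
    have : 1 * 2 ^ 4 ≤ (r + 2) ^ m * (r + 2) ^ 4 := Nat.mul_le_mul hP h5
    omega
  set N := (r + 2) ^ (m + 4) - 1 with hNdef
  have e2 : (r + 2) ^ 2 - 1 = (r + 1) * (r + 3) := by rw [Nat.sub_eq_of_eq_add]; ring
  have e3 : (r + 2) ^ 2 - (r + 2) = (r + 2) * (r + 1) := by rw [Nat.sub_eq_of_eq_add]; ring
  have e4 : (r + 2) * ((r + 1) * (r + 3)) ≤ (r + 2) ^ (m + 3) - (r + 2) := by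
    have h6 : (r + 2) ^ 3 ≤ (r + 2) ^ (m + 3) := Nat.pow_le_pow_right (by omega) (by omega)
    have h7 : (r + 2) * ((r + 1) * (r + 3)) + (r + 2) = (r + 2) ^ 3 := by ring
    omega
  rw [e2, e3, show r + 2 - 1 = r + 1 by omega] at h1
  have h8 : (r + 1) * (N * ((r + 2) * ((r + 1) * (r + 3)))) ≤
      (N - 1) * ((r + 1) * (r + 3) * ((r + 2) * (r + 1))) :=
    (Nat.mul_le_mul_left _ (Nat.mul_le_mul_left _ e4)).trans h1
  have h9 : N * ((r + 1) * (r + 3) * ((r + 2) * (r + 1))) ≤
      (N - 1) * ((r + 1) * (r + 3) * ((r + 2) * (r + 1))) := by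
    calc N * ((r + 1) * (r + 3) * ((r + 2) * (r + 1)))
        = (r + 1) * (N * ((r + 2) * ((r + 1) * (r + 3)))) := by ring
      _ ≤ _ := h8
  have h10 := Nat.le_of_mul_le_mul_right h9 (by positivity)
  omega

end Count

end Cfsg.Agent.H105.SzSp
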