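import Mathlib
import Cfsg.Agent.H105.SzSp2

/-!
# Products of two centralizers in symplectic groups, part 3: Case II concluded
-/

set_option autoImplicit false

namespace Cfsg.Agent.H105.SzSp

open Module Cfsg.Agent.H955 Cfsg.Agent.H105.Sz Cfsg.Agent.H105.SzCount

universe u v

variable {F : Type u} {V : Type v} [Field F] [AddCommGroup V] [Module F V] [FiniteDimensional F V]
  {B : LinearMap.BilinForm F V} {a b : V ≃ₗ[F] V}

/-- a subspace of dimension two has a basis -/
theorem exists_span_pair (R : Submodule F V) (hR : finrank F R = 2) :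
    ∃ r₁ r₂, LinearIndependent F ![r₁, r₂] ∧ R = Submodule.span F {r₁, r₂} := by
  have hR0 : R ≠ ⊥ := by
    rintro rfl
    rw [finrank_bot] at hR
    omega
  obtain ⟨r₁, hr1, hr10⟩ := Submodule.exists_mem_ne_zero_of_ne_bot hR0
  obtain ⟨r₂, hr2, hr2'⟩ := exists_notMem (W := Submodule.span F {r₁}) (W' := R) (by
    have := finrank_span_single_le (F := F) r₁
    omega)
  have hi := indep_of_notMem hr10 hr2'
  refine ⟨r₁, r₂, hi, ?_⟩
  symm
  apply Submodule.eq_of_le_of_finrank_eq
  · rw [Submodule.span_le]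
    rintro z (rfl | rfl)
    · exact hr1
    · exact hr2
  · rw [finrank_span_pair hi, hR]

/-- an isometry carrying a plane onto another plane of the same type -/
theorem exists_plane_map (h : IsSp B) {r₁ r₂ v w : V} (hi : LinearIndependent F ![r₁, r₂])
    (hi' : LinearIndependent F ![v, w]) (hT : B v w = 0 ↔ B r₁ r₂ = 0) :
    ∃ g ∈ IsoB B, ∀ u, u ∈ Submodule.span F {v, w} ↔ g⁻¹ u ∈ Submodule.span F {r₁, r₂} := by
  obtain ⟨t, ht0, ht⟩ : ∃ t : F, t ≠ 0 ∧ B r₁ r₂ = B v (t • w) := by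
    by_cases hc : B r₁ r₂ = 0
    · exact ⟨1, one_ne_zero, by rw [hc, one_smul, hT.mpr hc]⟩
    · have hc' : B v w ≠ 0 := fun hh => hc (hT.mp hh)
      exact ⟨B r₁ r₂ / B v w, div_ne_zero hc hc', by
        rw [map_smul, smul_eq_mul, div_mul_cancel₀ _ hc']⟩
  have hi'' : LinearIndependent F ![v, t • w] := by
    rw [LinearIndependent.pair_iff] at hi' ⊢
    intro x y hxy
    rw [smul_smul] at hxy
    have h1 := hi' x (y * t) hxy
    exact ⟨h1.1, (mul_eq_zero.mp h1.2).resolve_right ht0⟩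
  obtain ⟨g, hg, hg1, hg2⟩ := witt_pair h hi hi'' ht
  refine ⟨g, hg, fun u => ?_⟩
  have hgg : ∀ w, g⁻¹ (g w) = w := fun w => g.symm_apply_apply w
  have hgg' : ∀ w, g (g⁻¹ w) = w := fun w => g.apply_symm_apply w
  rw [mem_span_pair', mem_span_pair']
  constructor
  · rintro ⟨x, y, rfl⟩
    refine ⟨x, y * t⁻¹, ?_⟩
    apply g.injective
    rw [map_add, map_smul, map_smul, hg1, hg2, hgg', smul_smul, mul_assoc, inv_mul_cancel₀ ht0,
      mul_one]
  · rintro ⟨x, y, hxy⟩
    refine ⟨x, y * t, ?_⟩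
    have h1 := congrArg g hxy
    rw [hgg', map_add, map_smul, map_smul, hg1, hg2, smul_smul] at h1
    exact h1

/-- **Case II.** -/
theorem caseII [Finite F] (h : IsSp B) (hn : 4 ≤ finrank F V) (hab : PBad (IsoB B) a b)
    (hna : ¬ Scalar a) (hnb : ¬ Scalar b) (h2 : ∀ v, B v (b v) = 0 → ∃ c : F, b v = c • v) :
    ∀ v, B v (a v) = 0 := by
  have hnt : Nontrivial V := Module.nontrivial_of_finrank_pos (R := F) (by omega)
  obtain ⟨c, hc0, hc⟩ := unique_eigen h hn hab.2.1 h2
  have hcc := sq_eq_one h hn hab.2.1 hc0 hc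
  have hK := finrank_ker_ge hc
  have hk : LinearMap.ker (bc b c) ≠ ⊥ := by
    intro hb'
    rw [hb', finrank_bot] at hK
    omega
  have hrk := LinearMap.finrank_range_add_finrank_ker (bc b c)
  have htr := fun {g : V ≃ₗ[F] V} (hg : g ∈ IsoB B) => trans_range h hab hc0 hk hc hg
  have hR0 : finrank F (LinearMap.range (bc b c)) ≠ 0 := by
    intro h0
    rw [Submodule.finrank_eq_zero] at h0
    apply hnb
    refine ⟨c, fun v => ?_⟩
    have h1 : bc b c v ∈ LinearMap.range (bc b c) := ⟨v, rfl⟩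
    rw [h0, Submodule.mem_bot, bc_apply, sub_eq_zero] at h1
    exact h1
  have hcases : finrank F (LinearMap.range (bc b c)) = 1 ∨ finrank F (LinearMap.range (bc b c)) = 2 := by
    omega
  rcases hcases with h1 | h1
  · -- rank one
    obtain ⟨r, hr, hr0⟩ := Submodule.exists_mem_ne_zero_of_ne_bot (p := LinearMap.range (bc b c)) (by
      intro hb'
      rw [hb', finrank_bot] at h1
      omega)
    have hRr : LinearMap.range (bc b c) = Submodule.span F {r} := by
      symm
      apply Submodule.eq_of_le_of_finrank_eq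
      · rw [Submodule.span_le, Set.singleton_subset_iff]
        exact hr
      · rw [finrank_span_singleton hr0, h1]
    refine case_one hn (r := r) ?_ hr0
    intro w hw
    obtain ⟨g, hg, hgr⟩ := witt_one h hr0 hw
    obtain ⟨x, hx, hxa, hx'⟩ := htr hg
    refine ⟨x, hx, hxa, ?_⟩
    have h3 := (hx' r).mp hr
    rw [hRr, Submodule.mem_span_singleton] at h3
    obtain ⟨t, ht⟩ := h3
    refine ⟨t, ?_⟩
    have h4 := congrArg g ht
    have hgg' : ∀ w, g (g⁻¹ w) = w := fun w => g.apply_symm_apply w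
    rw [hgg', map_smul, hgr] at h4
    exact h4.symm
  · -- rank two
    obtain ⟨r₁, r₂, hi, hR⟩ := exists_span_pair _ h1
    have hpl : PlaneTr B a (B r₁ r₂ = 0) := by
      intro v w v' w' hvw hvw' hT hT'
      obtain ⟨g₁, hg₁, hg₁'⟩ := exists_plane_map h hi hvw hT
      obtain ⟨g₂, hg₂, hg₂'⟩ := exists_plane_map h hi hvw' hT'
      obtain ⟨x₁, hx₁, hxa₁, hx₁'⟩ := htr hg₁
      obtain ⟨x₂, hx₂, hxa₂, hx₂'⟩ := htr hg₂
      refine ⟨x₂ * x₁⁻¹, mul_mem hx₂ (inv_mem hx₁), hxa₂.mul hxa₁.inv, ?_⟩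
      intro u hu
      rw [hg₁', ← hR] at hu
      have h3 : x₁ (x₁⁻¹ u) = u := x₁.apply_symm_apply u
      have h4 : x₁⁻¹ u ∈ LinearMap.range (bc b c) := by
        rw [hx₁', h3]
        exact hu
      rw [hx₂', hR, ← hg₂'] at h4
      exact h4
    by_cases hT : B r₁ r₂ = 0
    · exact ti_false h hn hab.1 hna (by
        rw [show (B r₁ r₂ = 0) = True from eq_true hT] at hpl
        exact hpl)
    · exact nd_false h hn hna (by
        rw [show (B r₁ r₂ = 0) = False from eq_false hT] at hpl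
        exact hpl)

end Cfsg.Agent.H105.SzSp
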