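import Mathlib
import Cfsg.Agent.H105.SzSp3

/-!
# Products of two centralizers in symplectic groups, part 4: Case I, the trace
-/

set_option autoImplicit false

namespace Cfsg.Agent.H105.SzSp

open Module Cfsg.Agent.H955 Cfsg.Agent.H105.Sz Cfsg.Agent.H105.SzCount

universe u v

variable {F : Type u} {V : Type v} [Field F] [AddCommGroup V] [Module F V] [FiniteDimensional F V]
  {B : LinearMap.BilinForm F V} {a b : V ≃ₗ[F] V}

omit [FiniteDimensional F V] in
theorem alt_swap (h : IsSp B) {f : V →ₗ[F] V} (hq : ∀ v, B v (f v) = 0) (u v : V) :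
    B u (f v) = B (f u) v := by
  have h1 := hq (u + v)
  rw [map_add f u v, map_add B u v, LinearMap.add_apply, map_add (B u), map_add (B v), hq, hq,
    zero_add, add_zero] at h1
  rw [h.swap (f u) v]
  exact eq_neg_of_add_eq_zero_left h1

theorem sq_one (h : IsSp B) (ha : a ∈ IsoB B) (hq : ∀ v, B v (a v) = 0) (v : V) : a (a v) = v := by
  have h1 : ∀ u, B u (a (a v) - v) = 0 := by
    intro u
    rw [map_sub]
    have h2 := alt_swap h (f := (a : V →ₗ[F] V)) hq u (a v)
    change B u (a (a v)) = B (a u) (a v) at h2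
    rw [h2, ha, sub_self]
  have h3 := (nondeg h).2 _ h1
  exact sub_eq_zero.mp h3

/-- the transvection -/
noncomputable def tv (h : IsSp B) (v : V) (l : F) : V ≃ₗ[F] V :=
  LinearEquiv.ofLinearMap (LinearMap.id + l • (B v).smulRight v) (LinearMap.id - l • (B v).smulRight v)
    (by
      ext x
      simp only [LinearMap.comp_apply, LinearMap.add_apply, LinearMap.sub_apply, LinearMap.id_apply,
        LinearMap.smul_apply, LinearMap.smulRight_apply, map_sub, map_smul, h.alt, smul_zero, sub_zero]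
      module)
    (by
      ext x
      simp only [LinearMap.comp_apply, LinearMap.add_apply, LinearMap.sub_apply, LinearMap.id_apply,
        LinearMap.smul_apply, LinearMap.smulRight_apply, map_add, map_smul, h.alt, smul_zero, add_zero]
      module)

omit [FiniteDimensional F V] in
theorem tv_apply (h : IsSp B) (v : V) (l : F) (x : V) : tv h v l x = x + l • B v x • v := rfl

omit [FiniteDimensional F V] in
theorem tv_inv_apply (h : IsSp B) (v : V) (l : F) (x : V) : (tv h v l)⁻¹ x = x - l • B v x • v := rfl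

omit [FiniteDimensional F V] in
theorem tv_mem (h : IsSp B) (v : V) (l : F) : tv h v l ∈ IsoB B := by
  intro x y
  rw [tv_apply, tv_apply]
  simp only [map_add, map_smul, LinearMap.add_apply, LinearMap.smul_apply, h.alt, smul_eq_mul,
    mul_zero, add_zero]
  rw [h.swap x v]
  ring

/-- the trace of `a t b t⁻¹` for a transvection `t` -/
theorem trace_tv (h : IsSp B) {a m : V →ₗ[F] V} (hq : ∀ v, B v (a v) = 0) (v : V) (l : F) :
    LinearMap.trace F V (a ∘ₗ (tv h v l : V →ₗ[F] V) ∘ₗ m ∘ₗ ((tv h v l)⁻¹ : V ≃ₗ[F] V)) =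
      LinearMap.trace F V (a ∘ₗ m) + l * (B v (m (a v)) - B v (a (m v))) := by
  have e : a ∘ₗ (tv h v l : V →ₗ[F] V) ∘ₗ m ∘ₗ ((tv h v l)⁻¹ : V ≃ₗ[F] V) =
      a ∘ₗ m + l • ((B v ∘ₗ m).smulRight (a v)) - l • ((B v).smulRight (a (m v))) -
        (l * l * B v (m v)) • ((B v).smulRight (a v)) := by
    ext x
    change a (tv h v l (m ((tv h v l)⁻¹ x))) = _
    rw [tv_inv_apply, tv_apply]
    simp only [LinearMap.comp_apply, LinearMap.add_apply, LinearMap.sub_apply, LinearMap.smul_apply,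
      LinearMap.smulRight_apply, map_sub, map_add, map_smul]
    simp only [smul_eq_mul]
    module
  rw [e, map_sub, map_sub, map_add, map_smul, map_smul, map_smul, LinearMap.trace_smulRight,
    LinearMap.trace_smulRight, LinearMap.trace_smulRight, hq]
  simp only [LinearMap.comp_apply, smul_eq_mul]
  ring

omit [FiniteDimensional F V] in
theorem scal_sq (h : IsSp B) [Nontrivial V] {x a : V ≃ₗ[F] V} (hx : x ∈ IsoB B) (ha : a ∈ IsoB B)
    {c : F} (hc : ∀ v, a (x v) = c • x (a v)) : c * c = 1 := by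
  obtain ⟨v, hv⟩ := exists_ne (0 : V)
  obtain ⟨w, hw⟩ : ∃ w, B v w ≠ 0 := by
    by_contra hcon
    push Not at hcon
    exact hv (h.nd v hcon)
  have h1 : B v w = c * c * B v w := by
    conv_lhs => rw [← hx v w, ← ha, hc, hc]
    rw [map_smul, map_smul, LinearMap.smul_apply, hx, ha, smul_eq_mul, smul_eq_mul, mul_assoc]
  have h2 : (c * c - 1) * B v w = 0 := by rw [sub_mul, ← h1, one_mul, sub_self]
  rcases mul_eq_zero.mp h2 with h3 | h3
  · exact sub_eq_zero.mp h3
  · exact absurd h3 hw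

/-- the square of the trace is constant -/
theorem trace_sq (h : IsSp B) [Nontrivial V] (hab : PBad (IsoB B) a b) {g : V ≃ₗ[F] V}
    (hg : g ∈ IsoB B) :
    LinearMap.trace F V ((a : V →ₗ[F] V) ∘ₗ ((g * b * g⁻¹ : V ≃ₗ[F] V) : V →ₗ[F] V)) ^ 2 =
      LinearMap.trace F V ((a : V →ₗ[F] V) ∘ₗ (b : V →ₗ[F] V)) ^ 2 := by
  obtain ⟨x, hx, ⟨c, -, hc⟩, d, -, hd⟩ := hab.key hg
  have hcc := scal_sq h hx hab.1 hc
  have hdd : d * d = 1 := by
    -- g b g⁻¹ x = d x b
    obtain ⟨v, hv⟩ := exists_ne (0 : V)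
    obtain ⟨w, hw⟩ : ∃ w, B v w ≠ 0 := by
      by_contra hcon
      push Not at hcon
      exact hv (h.nd v hcon)
    have h1 : B v w = d * d * B v w := by
      have h2 : B (g (b (g⁻¹ (x v)))) (g (b (g⁻¹ (x w)))) = B v w := by
        rw [hg, hab.2.1, (inv_mem hg : g⁻¹ ∈ IsoB B), hx]
      conv_lhs => rw [← h2, hd, hd]
      rw [map_smul, map_smul, LinearMap.smul_apply, hx, hab.2.1, smul_eq_mul, smul_eq_mul, mul_assoc]
    have h2 : (d * d - 1) * B v w = 0 := by rw [sub_mul, ← h1, one_mul, sub_self]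
    rcases mul_eq_zero.mp h2 with h3 | h3
    · exact sub_eq_zero.mp h3
    · exact absurd h3 hw
  have e : ((a : V →ₗ[F] V) ∘ₗ ((g * b * g⁻¹ : V ≃ₗ[F] V) : V →ₗ[F] V)) =
      (c * d) • x.conj ((a : V →ₗ[F] V) ∘ₗ (b : V →ₗ[F] V)) := by
    ext v
    have hxx : x (x⁻¹ v) = v := x.apply_symm_apply v
    change a (g (b (g⁻¹ v))) = (c * d) • x (a (b (x⁻¹ v)))
    conv_lhs => rw [← hxx]
    rw [hd, map_smul, hc, smul_smul, mul_comm]
  rw [e, map_smul, LinearMap.trace_conj', smul_eq_mul, mul_pow, mul_pow, pow_two, pow_two, hcc, hdd,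
    one_mul, one_mul]

/-- **Case I, first step.** -/
theorem caseI_comm_form (h : IsSp B) [Nontrivial V] (hab : PBad (IsoB B) a b)
    (hq : ∀ v, B v (a v) = 0) {g : V ≃ₗ[F] V} (hg : g ∈ IsoB B) (v : V) :
    B v ((g * b * g⁻¹) (a v)) = B v (a ((g * b * g⁻¹) v)) := by
  set m : V ≃ₗ[F] V := g * b * g⁻¹ with hm
  set τ := LinearMap.trace F V ((a : V →ₗ[F] V) ∘ₗ (m : V →ₗ[F] V)) with hτ
  set α := B v (m (a v)) - B v (a (m v)) with hα
  have key : ∀ l : F, (τ + l * α) ^ 2 = τ ^ 2 := by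
    intro l
    have h1 := trace_sq h hab (mul_mem (tv_mem h v l) hg)
    have h2 := trace_sq h hab hg
    rw [← h2] at h1
    have h3 := trace_tv h (a := (a : V →ₗ[F] V)) (m := (m : V →ₗ[F] V)) hq v l
    have h4 : ((tv h v l * g) * b * (tv h v l * g)⁻¹ : V ≃ₗ[F] V) = tv h v l * m * (tv h v l)⁻¹ := by
      rw [hm]; group
    rw [h4] at h1
    change LinearMap.trace F V ((a : V →ₗ[F] V) ∘ₗ (tv h v l : V →ₗ[F] V) ∘ₗ (m : V →ₗ[F] V) ∘ₗ
      ((tv h v l)⁻¹ : V ≃ₗ[F] V)) ^ 2 = _ at h1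
    rw [h3] at h1
    exact h1
  have k1 := key 1
  have k2 := key (-1)
  have hz : α = 0 := by
    by_contra hα0
    have e1 : 2 * τ + α = 0 := by
      have : α * (2 * τ + α) = 0 := by linear_combination k1
      exact (mul_eq_zero.mp this).resolve_left hα0
    have e2 : -(2 * τ) + α = 0 := by
      have : α * (-(2 * τ) + α) = 0 := by linear_combination k2
      exact (mul_eq_zero.mp this).resolve_left hα0
    have e3 : 2 * α = 0 := by linear_combination e1 + e2
    rcases mul_eq_zero.mp e3 with h5 | h5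
    · rw [h5, zero_mul, zero_add] at e1
      exact hα0 e1
    · exact hα0 h5
  exact sub_eq_zero.mp hz

/-- **Case I, second step**: `b' + b'⁻¹` commutes with `a`. -/
theorem caseI_comm (h : IsSp B) [Nontrivial V] (hab : PBad (IsoB B) a b)
    (hq : ∀ v, B v (a v) = 0) {g : V ≃ₗ[F] V} (hg : g ∈ IsoB B) (v : V) :
    (g * b * g⁻¹) (a v) + (g * b * g⁻¹)⁻¹ (a v) = a ((g * b * g⁻¹) v + (g * b * g⁻¹)⁻¹ v) := by
  have h0 := caseI_comm_form h hab hq hg
  set m : V ≃ₗ[F] V := g * b * g⁻¹ with hm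
  have hmI : m ∈ IsoB B := mul_mem (mul_mem hg hab.2.1) (inv_mem hg)
  have hinv : ∀ u w, B (m u) w = B u (m⁻¹ w) := by
    intro u w
    rw [← hmI u (m⁻¹ w)]
    congr 1
    exact (m.apply_symm_apply w).symm
  have hinv' : ∀ u w, B (m⁻¹ u) w = B u (m w) := by
    intro u w
    rw [← hmI (m⁻¹ u) w]
    have : m (m⁻¹ u) = u := m.apply_symm_apply u
    rw [this]
  have ha' : ∀ u w, B u (a w) = B (a u) w := alt_swap h (f := (a : V →ₗ[F] V)) hq
  let c : V →ₗ[F] V := (m : V →ₗ[F] V) ∘ₗ (a : V →ₗ[F] V) - (a : V →ₗ[F] V) ∘ₗ (m : V →ₗ[F] V)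
  have hc : ∀ v, B v (c v) = 0 := by
    intro v
    change B v (m (a v) - a (m v)) = 0
    rw [map_sub, h0, sub_self]
  have h1 := alt_swap h hc
  have h2 : ∀ u, B u ((m (a v) + m⁻¹ (a v)) - a (m v + m⁻¹ v)) = 0 := by
    intro u
    have h3 : B u (m (a v) - a (m v)) = B (m (a u) - a (m u)) v := h1 u v
    have h4 : B (m (a u)) v = B u (a (m⁻¹ v)) := by rw [hinv, ha']
    have h5 : B (a (m u)) v = B u (m⁻¹ (a v)) := by rw [← ha', hinv]
    rw [map_sub (B u), map_sub B, LinearMap.sub_apply, h4, h5] at h3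
    rw [map_sub (B u), map_add (B u), map_add a, map_add (B u)]
    linear_combination h3
  exact sub_eq_zero.mp ((nondeg h).2 _ h2)

end Cfsg.Agent.H105.SzSp
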