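import Mathlib
import Cfsg.Agent.H105.SzSp4

/-!
# Products of two centralizers in symplectic groups, part 5: Case I concluded
-/

set_option autoImplicit false

namespace Cfsg.Agent.H105.Sz

variable {K V : Type*} [Field K] [AddCommGroup V] [Module K V]
  {S : Subgroup (V ≃ₗ[K] V)} {a b : V ≃ₗ[K] V}

/-- if `a` and `b` commute, `a` commutes with all conjugates of `b`. -/
theorem PBad.comm_exact [Nontrivial V] (h : PBad S a b) (hab : ∀ v, a (b v) = b (a v))
    {g : V ≃ₗ[K] V} (hg : g ∈ S) (v : V) : a ((g * b * g⁻¹) v) = (g * b * g⁻¹) (a v) := by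
  obtain ⟨x, hx, ⟨c, -, hc⟩, d, -, hd⟩ := h.key hg
  have hxx : x (x⁻¹ v) = v := x.apply_symm_apply v
  change a (g (b (g⁻¹ v))) = g (b (g⁻¹ (a v)))
  rw [← hxx, hd, hc, map_smul, map_smul g⁻¹, map_smul b, map_smul g, hd, hc, hab, smul_comm]

end Cfsg.Agent.H105.Sz

namespace Cfsg.Agent.H105.SzSp

open Module Cfsg.Agent.H955 Cfsg.Agent.H105.Sz Cfsg.Agent.H105.SzCount

universe u v

variable {F : Type u} {V : Type v} [Field F] [AddCommGroup V] [Module F V] [FiniteDimensional F V]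
  {B : LinearMap.BilinForm F V} {a b : V ≃ₗ[F] V}

omit [FiniteDimensional F V] in
theorem scalar_of_all' {a : V →ₗ[F] V} (ha : ∀ v, ∃ c : F, a v = c • v) :
    ∃ c : F, ∀ v, a v = c • v := by
  by_cases hV : ∃ v : V, v ≠ 0
  · obtain ⟨v, hv⟩ := hV
    obtain ⟨c, hc⟩ := ha v
    refine ⟨c, fun w => ?_⟩
    by_cases hi : LinearIndependent F ![v, w]
    · obtain ⟨d, hd⟩ := ha w
      obtain ⟨e, he⟩ := ha (v + w)
      rw [map_add, hc, hd] at he
      rw [LinearIndependent.pair_iff] at hi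
      have h1 := hi (c - e) (d - e) (by
        have : c • v + d • w - e • (v + w) = 0 := by rw [he, sub_self]
        rw [← this]; module)
      rw [hd]
      congr 1
      rw [sub_eq_zero.mp h1.1, sub_eq_zero.mp h1.2]
    · rw [LinearIndependent.pair_iff' hv] at hi
      push Not at hi
      obtain ⟨t, ht⟩ := hi
      rw [← ht, map_smul, hc, smul_comm]
  · push Not at hV
    exact ⟨1, fun v => by rw [hV v]; simp⟩

/-- separating vectors -/
theorem exists_sep (h : IsSp B) {v w : V} (hi : LinearIndependent F ![v, w]) :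
    ∃ x, B v x = 0 ∧ B w x = 1 := by
  have hv : v ≠ 0 := hi.ne_zero 0
  obtain ⟨y, hy⟩ : ∃ y, B v y ≠ 0 := by
    by_contra hcon
    push Not at hcon
    exact hv (h.nd v hcon)
  obtain ⟨x, hx⟩ : ∃ x, B w (x - (B v x / B v y) • y) ≠ 0 := by
    by_contra hcon
    push Not at hcon
    rw [LinearIndependent.pair_iff' hv] at hi
    apply hi (B w y / B v y)
    have h1 : ∀ x, B ((B w y / B v y) • v - w) x = 0 := by
      intro x
      have h2 := hcon x
      rw [map_sub, map_smul, smul_eq_mul] at h2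
      rw [map_sub, map_smul, LinearMap.sub_apply, LinearMap.smul_apply, smul_eq_mul]
      have h3 : B w y / B v y * B v x = B v x / B v y * B w y := by ring
      rw [h3]
      linear_combination -h2
    exact sub_eq_zero.mp (h.nd _ h1)
  refine ⟨(B w (x - (B v x / B v y) • y))⁻¹ • (x - (B v x / B v y) • y), ?_, ?_⟩
  · rw [map_smul, map_sub (B v), map_smul, smul_eq_mul, smul_eq_mul, div_mul_cancel₀ _ hy, sub_self,
      mul_zero]
  · rw [map_smul, smul_eq_mul, inv_mul_cancel₀ hx]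

/-- first step of `comm_scalar` -/
theorem mem_span_of_comm (h : IsSp B) (hq : ∀ v, B v (a v) = 0) (s : V →ₗ[F] V) (v : V)
    (hs1 : ∀ x, s (a x) = a (s x))
    (hs2 : ∀ x, s ((tv h v 1 * a * (tv h v 1)⁻¹) x) = (tv h v 1 * a * (tv h v 1)⁻¹) (s x))
    (hi : LinearIndependent F ![v, a v]) : s v ∈ Submodule.span F {v, a v} := by
  have ha' : ∀ u w, B u (a w) = B (a u) w := alt_swap h (f := (a : V →ₗ[F] V)) hq
  have hD : ∀ x, (tv h v 1 * a * (tv h v 1)⁻¹) x = a x + (B (a v) x • v - B v x • a v) := by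
    intro x
    change tv h v 1 (a ((tv h v 1)⁻¹ x)) = _
    rw [tv_inv_apply, tv_apply, map_sub a, map_smul a, map_smul a, map_sub (B v), map_smul (B v),
      map_smul (B v), hq v, smul_zero, smul_zero, sub_zero, one_smul, one_smul, ha' v x]
    abel
  obtain ⟨x, hx1, hx2⟩ := exists_sep h hi
  have h1 := hs2 x
  rw [hD, hD, map_add, hs1, map_sub, map_smul, map_smul, hx1, hx2, one_smul, zero_smul, sub_zero] at h1
  have h2 := add_left_cancel h1
  rw [h2, mem_span_pair']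
  exact ⟨B (a v) (s x), -(B v (s x)), by module⟩

/-- **A linear map commuting with all conjugates of `a` is a scalar.** -/
theorem comm_scalar (h : IsSp B) (hn : 4 ≤ finrank F V) (hna : ¬ Scalar a)
    (hq : ∀ v, B v (a v) = 0) (s : V →ₗ[F] V)
    (hs : ∀ g ∈ IsoB B, ∀ v, s ((g * a * g⁻¹) v) = (g * a * g⁻¹) (s v)) :
    ∃ c : F, ∀ v, s v = c • v := by
  apply scalar_of_all'
  intro v
  by_cases hv : v = 0
  · exact ⟨0, by rw [hv]; simp⟩
  obtain ⟨v₀, hv₀⟩ : ∃ v₀, ¬ ∃ c : F, a v₀ = c • v₀ := by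
    by_contra hcon
    push Not at hcon
    exact hna (scalar_of_all hcon)
  have hv00 : v₀ ≠ 0 := by
    rintro rfl
    exact hv₀ ⟨0, by simp⟩
  have hi0 : LinearIndependent F ![v₀, a v₀] := by
    rw [LinearIndependent.pair_iff' hv00]
    intro c hc
    exact hv₀ ⟨c, hc.symm⟩
  have key : ∀ w, B v w = 0 → w ∉ Submodule.span F {v} → s v ∈ Submodule.span F {v, w} := by
    intro w hw1 hw2
    obtain ⟨g, hg, hg1, hg2⟩ := witt_pair h hi0 (indep_of_notMem hv hw2) (by rw [hq, hw1])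
    have hga : (g * a * g⁻¹) v = w := by
      change g (a (g⁻¹ v)) = w
      have : g⁻¹ v = v₀ := by rw [← hg1]; exact g.symm_apply_apply v₀
      rw [this, hg2]
    have hq' : ∀ v, B v ((g * a * g⁻¹) v) = 0 := by
      intro v
      change B v (g (a (g⁻¹ v))) = 0
      have h1 := hq (g⁻¹ v)
      rw [← hg] at h1
      have : g (g⁻¹ v) = v := g.apply_symm_apply v
      rw [this] at h1
      exact h1
    have h2 := mem_span_of_comm h hq' s v (hs g hg) (fun x => by
      have h3 := hs (tv h v 1 * g) (mul_mem (tv_mem h v 1) hg) x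
      have h4 : tv h v 1 * g * a * (tv h v 1 * g)⁻¹ = tv h v 1 * (g * a * g⁻¹) * (tv h v 1)⁻¹ := by
        group
      rw [h4] at h3
      exact h3) (by rw [hga]; exact indep_of_notMem hv hw2)
    rw [hga] at h2
    exact h2
  obtain ⟨w₁, hw1, hw1'⟩ := exists_perp_notMem h hn hv (Submodule.span F {v})
      ((finrank_span_single_le v).trans (by omega))
  obtain ⟨w₂, hw2, hw2'⟩ := exists_perp_notMem h hn hv (Submodule.span F {v, w₁})
      (finrank_span_pair_le v w₁)
  have hw2'' : w₂ ∉ Submodule.span F {v} := fun hc => hw2'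
      (Submodule.span_mono (Set.singleton_subset_iff.mpr (Set.mem_insert _ _)) hc)
  exact mem_inter hw2' (key w₁ hw1 hw1') (key w₂ hw2 hw2'')

/-- **Case I, third step**: `b + b⁻¹` is a scalar. -/
theorem caseI_quad (h : IsSp B) (hn : 4 ≤ finrank F V) (hab : PBad (IsoB B) a b)
    (hna : ¬ Scalar a) (hq : ∀ v, B v (a v) = 0) : ∃ κ : F, ∀ v, b v + b⁻¹ v = κ • v := by
  have : Nontrivial V := Module.nontrivial_of_finrank_pos (R := F) (by omega)
  refine comm_scalar h hn hna hq ((b : V →ₗ[F] V) + ((b⁻¹ : V ≃ₗ[F] V) : V →ₗ[F] V)) ?_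
  intro g hg v
  change b (g (a (g⁻¹ v))) + b⁻¹ (g (a (g⁻¹ v))) = g (a (g⁻¹ (b v + b⁻¹ v)))
  have h1 := congrArg g (caseI_comm h hab hq (inv_mem hg) (g⁻¹ v))
  have e1 : ∀ w, (g⁻¹ * b * g⁻¹⁻¹) w = g⁻¹ (b (g w)) := fun w => by rw [inv_inv]; rfl
  have e2 : ∀ w, (g⁻¹ * b * g⁻¹⁻¹)⁻¹ w = g⁻¹ (b⁻¹ (g w)) := fun w => by
    have : (g⁻¹ * b * g⁻¹⁻¹)⁻¹ = g⁻¹ * b⁻¹ * g := by group
    rw [this]; rfl
  have hgg' : ∀ w, g (g⁻¹ w) = w := fun w => g.apply_symm_apply w
  rw [e1, e1, e2, e2, map_add g, hgg', hgg', hgg', ← map_add g⁻¹] at h1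
  exact h1

end Cfsg.Agent.H105.SzSp
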