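import Mathlib
import Cfsg.Agent.H105.SzSp5

/-!
# Products of two centralizers in symplectic groups, part 6: invariant subspaces of quadratic
isometries
-/

set_option autoImplicit false

namespace Cfsg.Agent.H105.SzSp

open Module Cfsg.Agent.H955 Cfsg.Agent.H105.Sz Cfsg.Agent.H105.SzCount

universe u v

variable {F : Type u} {V : Type v} [Field F] [AddCommGroup V] [Module F V] [FiniteDimensional F V]
  {B : LinearMap.BilinForm F V} {a b : V ≃ₗ[F] V}

omit [FiniteDimensional F V] in
theorem quad_apply {κ : F} (hκ : ∀ v, b v + b⁻¹ v = κ • v) (v : V) : b (b v) = κ • b v - v := by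
  have h1 := hκ (b v)
  have h2 : b⁻¹ (b v) = v := b.symm_apply_apply v
  rw [h2] at h1
  rw [← h1, add_sub_cancel_right]

theorem finrank_span_pair_sup {W : Submodule F V} {v w : V} (hi : LinearIndependent F ![v, w])
    (hd : Disjoint W (Submodule.span F {v, w})) :
    finrank F (W ⊔ Submodule.span F {v, w} : Submodule F V) = finrank F W + 2 := by
  have h1 := Submodule.finrank_sup_add_finrank_inf_eq W (Submodule.span F {v, w})
  rw [disjoint_iff.mp hd, finrank_bot, add_zero, finrank_span_pair hi] at h1
  exact h1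

theorem finrank_span_sup {W : Submodule F V} {v : V} (hv : v ∉ W) :
    finrank F (W ⊔ Submodule.span F {v} : Submodule F V) = finrank F W + 1 := by
  have hv0 : v ≠ 0 := by rintro rfl; exact hv (Submodule.zero_mem _)
  have h1 := Submodule.finrank_sup_add_finrank_inf_eq W (Submodule.span F {v})
  have h2 : W ⊓ Submodule.span F {v} = ⊥ := by
    rw [eq_bot_iff]
    rintro x ⟨hx1, hx2⟩
    obtain ⟨c, rfl⟩ := Submodule.mem_span_singleton.mp hx2
    by_cases hc : c = 0
    · rw [hc, zero_smul]; exact Submodule.zero_mem _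
    · exact absurd ((Submodule.smul_mem_iff _ hc).mp hx1) hv
  rw [h2, finrank_bot, add_zero, finrank_span_singleton hv0] at h1
  exact h1

/-- invariant nondegenerate subspaces, characteristic not two -/
theorem exists_inv_nd (h : IsSp B) (h2 : (2 : F) ≠ 0) (hb : b ∈ IsoB B) {κ : F}
    (hκ : ∀ v, b v + b⁻¹ v = κ • v) (k : ℕ) (hk : 2 * k ≤ finrank F V) :
    ∃ W : Submodule F V, NdOn B W ∧ Inv b W ∧ finrank F W = 2 * k := by
  induction k with
  | zero =>
    refine ⟨⊥, fun x hx _ => hx, fun w hw => ?_, by rw [finrank_bot]⟩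
    have hw' : w = 0 := hw
    rw [hw', map_zero]
    exact Submodule.zero_mem _
  | succ k ih =>
    obtain ⟨W, hW, hWi, hWd⟩ := ih (by omega)
    have hU := h.ndOn_orth hW
    have hUi : Inv b (orth B W) := inv_orth hb hWi
    have hUd := h.finrank_orth hW
    -- it is enough to find an invariant nondegenerate plane in the orthogonal space
    suffices hs : ∃ v w : V, v ∈ orth B W ∧ w ∈ orth B W ∧ B v w ≠ 0 ∧
        b v ∈ Submodule.span F {v, w} ∧ b w ∈ Submodule.span F {v, w} by
      obtain ⟨v, w, hv, hw, hvw, hbv, hbw⟩ := hs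
      have hwv : B w v ≠ 0 := by rw [h.swap]; exact neg_ne_zero.mpr hvw
      have hPn : NdOn B (Submodule.span F {v, w}) := by
        intro x hx hxy
        obtain ⟨s, t, rfl⟩ := mem_span_pair'.mp hx
        have h3 := hxy v (Submodule.subset_span (Set.mem_insert _ _))
        have h4 := hxy w (Submodule.subset_span (Set.mem_insert_of_mem _ rfl))
        rw [map_add, map_smul, map_smul, LinearMap.add_apply, LinearMap.smul_apply,
          LinearMap.smul_apply, h.alt, smul_zero, zero_add, smul_eq_mul] at h3
        rw [map_add, map_smul, map_smul, LinearMap.add_apply, LinearMap.smul_apply,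
          LinearMap.smul_apply, h.alt, smul_zero, add_zero, smul_eq_mul] at h4
        rw [(mul_eq_zero.mp h3).resolve_right hwv, (mul_eq_zero.mp h4).resolve_right hvw]
        simp
      have hPW : Submodule.span F {v, w} ≤ orth B W := by
        rw [Submodule.span_le]
        rintro z (rfl | rfl)
        · exact hv
        · exact hw
      refine ⟨W ⊔ Submodule.span F {v, w}, hW.sup h.eps hPn hPW, ?_, ?_⟩
      · intro x hx
        obtain ⟨y, hy, z, hz, rfl⟩ := Submodule.mem_sup.mp hx
        rw [map_add]
        refine Submodule.add_mem _ (Submodule.mem_sup_left (hWi y hy)) (Submodule.mem_sup_right ?_)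
        obtain ⟨s, t, rfl⟩ := mem_span_pair'.mp hz
        rw [map_add, map_smul, map_smul]
        exact Submodule.add_mem _ (Submodule.smul_mem _ _ hbv) (Submodule.smul_mem _ _ hbw)
      · rw [finrank_span_pair_sup (indep_of_ne h hvw) (disjoint_of_le_orth hW hPW h.eps), hWd]
        ring
    by_cases hq : ∃ v ∈ orth B W, B v (b v) ≠ 0
    · obtain ⟨v, hv, hvb⟩ := hq
      refine ⟨v, b v, hv, hUi v hv, hvb, Submodule.subset_span (Set.mem_insert_of_mem _ rfl), ?_⟩
      rw [quad_apply hκ, mem_span_pair']
      exact ⟨-1, κ, by module⟩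
    · push Not at hq
      -- `b` is a scalar on the orthogonal space
      have hsc : ∀ w ∈ orth B W, b w = (κ / 2) • w := by
        intro w hw
        have hinv : b⁻¹ w ∈ orth B W := by
          have h3 : b⁻¹ w = κ • w - b w := by
            rw [← hκ w, add_sub_cancel_left]
          rw [h3]
          exact Submodule.sub_mem _ (Submodule.smul_mem _ _ hw) (hUi w hw)
        have h3 : b w - b⁻¹ w = 0 := by
          refine hU _ (Submodule.sub_mem _ (hUi w hw) hinv) fun v hv => ?_
          have h4 := hq (v + w) (Submodule.add_mem _ hv hw)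
          rw [map_add b v w, map_add B v w, LinearMap.add_apply, map_add (B v), map_add (B w),
            hq v hv, hq w hw, zero_add, add_zero] at h4
          have h5 : B (b v) w = B v (b⁻¹ w) := by
            rw [← hb v (b⁻¹ w)]
            congr 1
            exact (b.apply_symm_apply w).symm
          rw [map_sub B, LinearMap.sub_apply, h.swap (b w) v, h.swap (b⁻¹ w) v, ← h5,
            h.swap (b v) w]
          linear_combination -h4
        have h4 := hκ w
        rw [sub_eq_zero] at h3
        rw [← h3, ← two_smul F] at h4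
        rw [div_eq_inv_mul, mul_smul, ← h4, smul_smul, inv_mul_cancel₀ h2, one_smul]
      have hpos : 0 < finrank F (orth B W) := by omega
      obtain ⟨v, hv, hv0⟩ := Submodule.exists_mem_ne_zero_of_ne_bot (p := orth B W) (by
        intro hc
        rw [hc, finrank_bot] at hpos
        exact lt_irrefl _ hpos)
      obtain ⟨w, hw, hvw⟩ : ∃ w ∈ orth B W, B v w ≠ 0 := by
        by_contra hcon
        push Not at hcon
        exact hv0 (hU v hv hcon)
      refine ⟨v, w, hv, hw, hvw, ?_, ?_⟩
      · rw [hsc v hv]
        exact Submodule.smul_mem _ _ (Submodule.subset_span (Set.mem_insert _ _))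
      · rw [hsc w hw]
        exact Submodule.smul_mem _ _ (Submodule.subset_span (Set.mem_insert_of_mem _ rfl))

/-- totally isotropic subspaces -/
def TI (B : LinearMap.BilinForm F V) (W : Submodule F V) : Prop := ∀ x ∈ W, ∀ y ∈ W, B x y = 0

omit [FiniteDimensional F V] in
theorem ti_add (h : IsSp B) {T : Submodule F V} (hT : TI B T) {v : V} (hv : v ∈ orth B T) :
    TI B (T ⊔ Submodule.span F {v}) := by
  intro x hx y hy
  obtain ⟨t, ht, z, hz, rfl⟩ := Submodule.mem_sup.mp hx
  obtain ⟨t', ht', z', hz', rfl⟩ := Submodule.mem_sup.mp hy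
  obtain ⟨c, rfl⟩ := Submodule.mem_span_singleton.mp hz
  obtain ⟨d, rfl⟩ := Submodule.mem_span_singleton.mp hz'
  have h1 : B t v = 0 := hv t ht
  have h2 : B v t' = 0 := by rw [h.swap, hv t' ht', neg_zero]
  simp only [map_add, map_smul, LinearMap.add_apply, LinearMap.smul_apply, h.alt, h1, h2,
    hT t ht t' ht', smul_zero, add_zero]

omit [FiniteDimensional F V] in
theorem inv_add {T : Submodule F V} (hT : Inv b T) {v : V}
    (hv : b v ∈ T ⊔ Submodule.span F {v}) : Inv b (T ⊔ Submodule.span F {v}) := by
  intro x hx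
  obtain ⟨t, ht, z, hz, rfl⟩ := Submodule.mem_sup.mp hx
  obtain ⟨c, rfl⟩ := Submodule.mem_span_singleton.mp hz
  rw [map_add, map_smul]
  exact Submodule.add_mem _ (Submodule.mem_sup_left (hT t ht)) (Submodule.smul_mem _ _ hv)

/-- invariant totally isotropic subspaces -/
theorem exists_inv_ti [Finite F] (h : IsSp B) (hb : b ∈ IsoB B) {κ : F}
    (hκ : ∀ v, b v + b⁻¹ v = κ • v) (j : ℕ) (hj : 4 * j ≤ finrank F V) :
    ∃ W : Submodule F V, TI B W ∧ Inv b W ∧ finrank F W = 2 * j := by
  induction j with
  | zero =>
    refine ⟨⊥, fun x hx y hy => ?_, fun w hw => ?_, by rw [finrank_bot]⟩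
    · have hx' : x = 0 := hx
      rw [hx']; simp
    · have hw' : w = 0 := hw
      rw [hw', map_zero]
      exact Submodule.zero_mem _
  | succ j ih =>
    obtain ⟨T, hT, hTi, hTd⟩ := ih (by omega)
    have hTo : T ≤ orth B T := fun x hx y hy => hT y hy x hx
    have hoi : Inv b (orth B T) := inv_orth hb hTi
    have hod : finrank F (orth B T) = finrank F V - 2 * j := by
      rw [orth_eq, finrank_orth h, hTd]
    -- a complement of `T` in `T^⊥`
    obtain ⟨C, hC⟩ := Submodule.exists_isCompl (T.comap (orth B T).subtype)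
    have hCd := Submodule.finrank_add_eq_of_isCompl hC
    have hTc : finrank F (T.comap (orth B T).subtype) = 2 * j := by
      rw [← hTd]
      exact (Submodule.comapSubtypeEquivOfLe hTo).finrank_eq
    have hCm : finrank F (C.map (orth B T).subtype) = finrank F C :=
      (Submodule.equivMapOfInjective _ (Submodule.injective_subtype _) C).finrank_eq.symm
    obtain ⟨v, hv, hv0, hvq⟩ := exists_zero (B := B) (b : V →ₗ[F] V) (C.map (orth B T).subtype)
      (by rw [hCm]; omega)
    have hvq : B v (b v) = 0 := hvq
    obtain ⟨⟨v', hv'⟩, hvC, rfl⟩ := hv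
    change v' ≠ 0 at hv0
    change B v' (b v') = 0 at hvq
    have hvT : v' ∉ T := by
      intro hc
      have h1 : (⟨v', hv'⟩ : orth B T) ∈ T.comap (orth B T).subtype ⊓ C := ⟨hc, hvC⟩
      rw [hC.inf_eq_bot, Submodule.mem_bot] at h1
      exact hv0 (congrArg Subtype.val h1)
    by_cases hcase : b v' ∈ T ⊔ Submodule.span F {v'}
    · -- add `v'` and a further vector
      obtain ⟨t, ht, z, hz, htz⟩ := Submodule.mem_sup.mp hcase
      obtain ⟨μ, rfl⟩ := Submodule.mem_span_singleton.mp hz
      have hpoly : (μ * μ - κ * μ + 1) • v' ∈ T := by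
        have h1 := quad_apply hκ v'
        rw [← htz, map_add, map_smul, ← htz] at h1
        have h2 : (μ * μ - κ * μ + 1) • v' = κ • t - b t - μ • t := by
          have h3 : b t + μ • (t + μ • v') - (κ • (t + μ • v') - v') = 0 := by rw [h1, sub_self]
          have h4 : (μ * μ - κ * μ + 1) • v' = κ • t - b t - μ • t +
            (b t + μ • (t + μ • v') - (κ • (t + μ • v') - v')) := by module
          rw [h4, h3, add_zero]
        rw [h2]
        exact Submodule.sub_mem _ (Submodule.sub_mem _ (Submodule.smul_mem _ _ ht) (hTi t ht))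
          (Submodule.smul_mem _ _ ht)
      have hpoly' : μ * μ - κ * μ + 1 = 0 := by
        by_contra hc
        exact hvT ((Submodule.smul_mem_iff _ hc).mp hpoly)
      have hμ0 : μ ≠ 0 := by
        rintro rfl
        rw [mul_zero, mul_zero, sub_zero, zero_add] at hpoly'
        exact one_ne_zero hpoly'
      have hκμ : κ = μ + μ⁻¹ := by
        field_simp
        linear_combination -hpoly'
      set T₁ := T ⊔ Submodule.span F {v'} with hT₁
      have hT1 : TI B T₁ := ti_add h hT hv'
      have hT1i : Inv b T₁ := inv_add hTi hcase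
      have hT1d : finrank F T₁ = 2 * j + 1 := by rw [hT₁, finrank_span_sup hvT, hTd]
      have ho1i : Inv b (orth B T₁) := inv_orth hb hT1i
      have ho1d : finrank F (orth B T₁) = finrank F V - (2 * j + 1) := by
        rw [orth_eq, finrank_orth h, hT1d]
      obtain ⟨x, hx1, hx2⟩ := exists_notMem (W := T₁) (W' := orth B T₁) (by omega)
      obtain ⟨w, hw1, hw2, hw3⟩ : ∃ w, w ∈ orth B T₁ ∧ w ∉ T₁ ∧ b w ∈ T₁ ⊔ Submodule.span F {w} := by
        by_cases hc : b x - μ⁻¹ • x ∈ T₁
        · refine ⟨x, hx1, hx2, ?_⟩
          have h1 : b x = (b x - μ⁻¹ • x) + μ⁻¹ • x := by module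
          rw [h1]
          exact Submodule.add_mem _ (Submodule.mem_sup_left hc) (Submodule.mem_sup_right
            (Submodule.smul_mem _ _ (Submodule.mem_span_singleton_self x)))
        · refine ⟨b x - μ⁻¹ • x, Submodule.sub_mem _ (ho1i x hx1) (Submodule.smul_mem _ _ hx1), hc, ?_⟩
          have h1 : b (b x - μ⁻¹ • x) = μ • (b x - μ⁻¹ • x) := by
            rw [map_sub, map_smul, quad_apply hκ, hκμ, smul_sub, smul_smul, mul_inv_cancel₀ hμ0]
            module
          rw [h1]
          exact Submodule.mem_sup_right (Submodule.smul_mem _ _ (Submodule.mem_span_singleton_self _))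
      refine ⟨T₁ ⊔ Submodule.span F {w}, ti_add h hT1 hw1, inv_add hT1i hw3, ?_⟩
      rw [finrank_span_sup hw2, hT1d]
      ring
    · -- add `v'` and `b v'`
      have h1 : b v' ∈ orth B (T ⊔ Submodule.span F {v'}) := by
        intro x hx
        obtain ⟨t, ht, z, hz, rfl⟩ := Submodule.mem_sup.mp hx
        obtain ⟨c, rfl⟩ := Submodule.mem_span_singleton.mp hz
        rw [map_add, map_smul, LinearMap.add_apply, LinearMap.smul_apply, hvq, smul_zero, add_zero]
        exact hoi v' hv' t ht
      refine ⟨T ⊔ Submodule.span F {v'} ⊔ Submodule.span F {b v'}, ti_add h (ti_add h hT hv') h1, ?_, ?_⟩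
      · intro x hx
        obtain ⟨y, hy, z, hz, rfl⟩ := Submodule.mem_sup.mp hx
        obtain ⟨t, ht, z', hz', rfl⟩ := Submodule.mem_sup.mp hy
        obtain ⟨c, rfl⟩ := Submodule.mem_span_singleton.mp hz
        obtain ⟨d, rfl⟩ := Submodule.mem_span_singleton.mp hz'
        rw [map_add, map_add, map_smul, map_smul, quad_apply hκ]
        have h2 : b v' ∈ T ⊔ Submodule.span F {v'} ⊔ Submodule.span F {b v'} :=
          Submodule.mem_sup_right (Submodule.mem_span_singleton_self _)
        have h3 : v' ∈ T ⊔ Submodule.span F {v'} ⊔ Submodule.span F {b v'} :=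
          Submodule.mem_sup_left (Submodule.mem_sup_right (Submodule.mem_span_singleton_self _))
        refine Submodule.add_mem _ (Submodule.add_mem _ (Submodule.mem_sup_left
          (Submodule.mem_sup_left (hTi t ht))) (Submodule.smul_mem _ _ h2)) (Submodule.smul_mem _ _
          (Submodule.sub_mem _ (Submodule.smul_mem _ _ h2) h3))
      · rw [finrank_span_sup hcase, finrank_span_sup hvT, hTd]
        ring

end Cfsg.Agent.H105.SzSp
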