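import Mathlib
import Cfsg.Agent.H105.SzSp6

/-!
# Products of two centralizers in symplectic groups, part 7: conclusion
-/

set_option autoImplicit false

namespace Cfsg.Agent.H105.SzSp

open Module Cfsg.Agent.H955 Cfsg.Agent.H105.Sz Cfsg.Agent.H105.SzCount

universe u v

variable {F : Type u} {V : Type v} [Field F] [AddCommGroup V] [Module F V] [FiniteDimensional F V]
  {B : LinearMap.BilinForm F V} {a b : V ≃ₗ[F] V}

omit [FiniteDimensional F V] in
theorem scal_sq' (h : IsSp B) [Nontrivial V] {x m a : V ≃ₗ[F] V} (hx : x ∈ IsoB B) (hm : m ∈ IsoB B)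
    (ha : a ∈ IsoB B) {c : F} (hc : ∀ v, m (x v) = c • x (a v)) : c * c = 1 := by
  obtain ⟨v, hv⟩ := exists_ne (0 : V)
  obtain ⟨w, hw⟩ : ∃ w, B v w ≠ 0 := by
    by_contra hcon
    push Not at hcon
    exact hv (h.nd v hcon)
  have h1 : B v w = c * c * B v w := by
    conv_lhs => rw [← hx v w, ← hm, hc, hc]
    rw [map_smul, map_smul, LinearMap.smul_apply, hx, ha, smul_eq_mul, smul_eq_mul, mul_assoc]
  have h2 : (c * c - 1) * B v w = 0 := by rw [sub_mul, ← h1, one_mul, sub_self]
  rcases mul_eq_zero.mp h2 with h3 | h3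
  · exact sub_eq_zero.mp h3
  · exact absurd h3 hw

theorem caseI_odd (h : IsSp B) (h2 : (2 : F) ≠ 0) (hn : 4 ≤ finrank F V)
    (hab : PBad (IsoB B) a b) (hna : ¬ Scalar a) (hnb : ¬ Scalar b) (hq : ∀ v, B v (a v) = 0) :
    False := by
  have hnt : Nontrivial V := Module.nontrivial_of_finrank_pos (R := F) (by omega)
  obtain ⟨κ, hκ⟩ := caseI_quad h hn hab hna hq
  have haa := sq_one h hab.1 hq
  have ha' : ∀ u w, B u (a w) = B (a u) w := alt_swap h (f := (a : V →ₗ[F] V)) hq
  -- the eigenspace of `1`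
  set P : Submodule F V := LinearMap.ker (bc a 1) with hP
  have hPm : ∀ {v}, v ∈ P ↔ a v = v := by
    intro v
    rw [hP, LinearMap.mem_ker, bc_apply, one_smul, sub_eq_zero]
  have hPn : NdOn B P := by
    intro x hx hxy
    apply h.nd x
    intro y
    have h1 := hxy (y + a y) (by rw [hPm, map_add, haa, add_comm])
    have h3 : B x (a y) = B x y := by rw [ha', hPm.mp hx]
    rw [map_add, h3, ← two_mul] at h1
    exact (mul_eq_zero.mp h1).resolve_left h2
  obtain ⟨k, hk⟩ := h.even_of_ndOn hPn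
  obtain ⟨W, hW, hWi, hWd⟩ := exists_inv_nd h h2 hab.2.1 hκ k (by
    have := Submodule.finrank_le P
    omega)
  obtain ⟨g, hg, hgP⟩ := exists_iso_map_eq h hPn hW (by omega)
  have hcomm : ∀ v, b ((g * a * g⁻¹) v) = (g * a * g⁻¹) (b v) := by
    have hWf : ∀ v ∈ W, (g * a * g⁻¹) v = v := by
      intro v hv
      rw [← hgP] at hv
      obtain ⟨x, hx, rfl⟩ := hv
      change g (a (g⁻¹ (g x))) = g x
      have : g⁻¹ (g x) = x := g.symm_apply_apply x
      rw [this, hPm.mp hx]
    have hWo : ∀ v ∈ orth B W, (g * a * g⁻¹) v = - v := by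
      intro v hv
      change g (a (g⁻¹ v)) = - v
      have h1 : a (g⁻¹ v) + g⁻¹ v = 0 := by
        refine hPn _ (by rw [hPm, map_add, haa, add_comm]) fun y hy => ?_
        have h3 : B y (g⁻¹ v) = 0 := by
          have h4 : B (g y) v = 0 := hv (g y) (by rw [← hgP]; exact ⟨y, hy, rfl⟩)
          rw [← hg y (g⁻¹ v)]
          have : g (g⁻¹ v) = v := g.apply_symm_apply v
          rw [this, h4]
        rw [h.swap, map_add, ha', hPm.mp hy, h3, add_zero, neg_zero]
      rw [eq_neg_of_add_eq_zero_left h1, map_neg]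
      congr 1
      exact g.apply_symm_apply v
    have hoi : Inv b (orth B W) := inv_orth hab.2.1 hWi
    intro v
    have hv : v ∈ W ⊔ orth B W := by
      rw [(hW.isCompl h.eps).sup_eq_top]
      trivial
    obtain ⟨x, hx, y, hy, rfl⟩ := Submodule.mem_sup.mp hv
    rw [map_add (g * a * g⁻¹) x y, map_add b, map_add b, map_add (g * a * g⁻¹), hWf x hx, hWo y hy,
      hWf _ (hWi x hx), hWo _ (hoi y hy), map_neg]
  have hba := hab.symm.conj_right hg
  obtain ⟨c, hc⟩ := comm_scalar h hn hna hq (b : V →ₗ[F] V) (fun u hu v => by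
    have h1 := hba.comm_exact hcomm (g := u * g⁻¹) (mul_mem hu (inv_mem hg)) v
    have h3 : u * g⁻¹ * (g * a * g⁻¹) * (u * g⁻¹)⁻¹ = u * a * u⁻¹ := by group
    rw [h3] at h1
    exact h1)
  exact hnb ⟨c, hc⟩

/-- an isometry between totally isotropic subspaces of the same dimension -/
theorem exists_ti_map (h : IsSp B) {W W' : Submodule F V} (hW : TI B W) (hW' : TI B W')
    (hd : finrank F W = finrank F W') : ∃ g ∈ IsoB B, ∀ v, v ∈ W ↔ g v ∈ W' := by
  let φ : W ≃ₗ[F] W' := LinearEquiv.ofFinrankEq W W' hd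
  obtain ⟨g, hg, hg'⟩ := Cfsg.Agent.S0749.result B (nondeg h) h.alt W W' φ (by
    intro x x'
    rw [hW _ x.2 _ x'.2, hW' _ (φ x).2 _ (φ x').2])
  refine ⟨g, hg, fun v => ⟨fun hv => ?_, fun hv => ?_⟩⟩
  · have := hg' ⟨v, hv⟩
    change g v = _ at this
    rw [this]
    exact (φ ⟨v, hv⟩).2
  · have h1 := hg' (φ.symm ⟨g v, hv⟩)
    rw [LinearEquiv.apply_symm_apply] at h1
    change g _ = g v at h1
    have h2 := g.injective h1
    rw [← h2]
    exact (φ.symm ⟨g v, hv⟩).2

theorem caseI_even [Finite F] (h : IsSp B) (h2 : (2 : F) = 0) (hn : 4 ≤ finrank F V)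
    (hab : PBad (IsoB B) a b) (hna : ¬ Scalar a) (hnb : ¬ Scalar b) (hq : ∀ v, B v (a v) = 0) :
    False := by
  have hnt : Nontrivial V := Module.nontrivial_of_finrank_pos (R := F) (by omega)
  obtain ⟨κ, hκ⟩ := caseI_quad h hn hab hna hq
  have haa := sq_one h hab.1 hq
  have ha' : ∀ u w, B u (a w) = B (a u) w := alt_swap h (f := (a : V →ₗ[F] V)) hq
  have hneg : ∀ x : F, -x = x := by
    intro x
    rw [neg_eq_iff_add_eq_zero, ← two_mul, h2, zero_mul]
  have hnegV : ∀ x : V, -x = x := by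
    intro x
    rw [← one_smul F x, ← neg_smul, hneg]
  -- the commutator space
  set W : Submodule F V := LinearMap.range (bc a 1) with hW
  have hWm : ∀ v, a v - v ∈ W := fun v => ⟨v, by rw [bc_apply, one_smul]⟩
  have hWti : TI B W := by
    rintro _ ⟨x, rfl⟩ _ ⟨y, rfl⟩
    rw [bc_apply, bc_apply, one_smul, one_smul, map_sub B, LinearMap.sub_apply, map_sub (B (a x)),
      map_sub (B x), hab.1, ← ha' x y]
    have : (B x y - B x (a y) - (B x (a y) - B x y)) = 2 * (B x y - B x (a y)) := by ring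
    rw [this, h2, zero_mul]
  have hW0 : W ≠ ⊥ := by
    intro hc
    apply hna
    refine ⟨1, fun v => ?_⟩
    have h1 := hWm v
    rw [hc, Submodule.mem_bot, sub_eq_zero] at h1
    rw [h1, one_smul]
  -- its dimension is even
  obtain ⟨C, hC⟩ := Submodule.exists_isCompl (LinearMap.ker (bc a 1))
  have hCd := Submodule.finrank_add_eq_of_isCompl hC
  have hrk := LinearMap.finrank_range_add_finrank_ker (bc a 1)
  have hev : Even (finrank F C) := by
    refine even_of_alt (B := B.compl₂ (bc a 1)) (fun v => ?_) (W := C) ?_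
    · change B v (bc a 1 v) = 0
      rw [bc_apply, one_smul, map_sub, hq, h.alt, sub_zero]
    · intro x hx hxy
      have h1 : ∀ y, B (bc a 1 x) y = 0 := by
        intro y
        obtain ⟨z, hz, w, hw, rfl⟩ := Submodule.mem_sup.mp
          (show y ∈ LinearMap.ker (bc a 1) ⊔ C by rw [hC.sup_eq_top]; trivial)
        have h3 : ∀ u w, B (bc a 1 u) w = B u (bc a 1 w) := by
          intro u w
          rw [bc_apply, bc_apply, one_smul, one_smul, map_sub, map_sub, LinearMap.sub_apply, ha']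
        rw [map_add, h3, h3, LinearMap.mem_ker.mp hz, map_zero, zero_add]
        exact hxy w hw
      have h3 : x ∈ LinearMap.ker (bc a 1) ⊓ C := ⟨h.nd _ h1, hx⟩
      rw [hC.inf_eq_bot, Submodule.mem_bot] at h3
      exact h3
  obtain ⟨j, hj⟩ := hev
  have hWd : finrank F W = 2 * j := by rw [hW]; omega
  have hWo : W ≤ B.orthogonal W := fun x hx y hy => hWti y hy x hx
  have hWle := Submodule.finrank_mono hWo
  rw [finrank_orth h] at hWle
  obtain ⟨T, hT, hTi, hTd⟩ := exists_inv_ti h hab.2.1 hκ j (by omega)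
  -- all totally isotropic subspaces of this dimension are invariant
  have htrans : ∀ g ∈ IsoB B, (Inv b (W.map (g : V →ₗ[F] V)) ↔ Inv b W) := by
    intro g hg
    obtain ⟨x, hx, ⟨γ, hγ0, hγ⟩, δ, hδ0, hδ⟩ := hab.symm.key hg
    have hδ1 : δ = 1 := by
      have h3 := scal_sq' h (x := x) (m := g * a * g⁻¹) hx
        (mul_mem (mul_mem hg hab.1) (inv_mem hg)) hab.1 (c := δ) hδ
      have h4 : (δ - 1) * (δ - 1) = 0 := by
        have h5 : (δ - 1) * (δ - 1) = δ * δ - 1 - 2 * (δ - 1) := by ring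
        rw [h5, h3, h2, zero_mul, sub_self, sub_zero]
      exact sub_eq_zero.mp (mul_self_eq_zero.mp h4)
    subst hδ1
    have hmem : ∀ v, x v ∈ W.map (g : V →ₗ[F] V) ↔ v ∈ W := by
      intro v
      constructor
      · rintro ⟨w, ⟨u, rfl⟩, hu⟩
        change g (bc a 1 u) = x v at hu
        refine ⟨x⁻¹ (g u), ?_⟩
        apply x.injective
        rw [← hu, bc_apply, bc_apply, one_smul, one_smul, map_sub, map_sub]
        have h3 := hδ (x⁻¹ (g u))
        have h4 : x (x⁻¹ (g u)) = g u := x.apply_symm_apply _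
        have h5 : g⁻¹ (g u) = u := g.symm_apply_apply u
        rw [h4, h5, one_smul] at h3
        rw [h4, ← h3]
      · rintro ⟨u, rfl⟩
        refine ⟨bc a 1 (g⁻¹ (x u)), ⟨_, rfl⟩, ?_⟩
        change g (bc a 1 (g⁻¹ (x u))) = x (bc a 1 u)
        rw [bc_apply, bc_apply, one_smul, one_smul, map_sub, map_sub, hδ, one_smul]
        congr 1
        exact g.apply_symm_apply _
    constructor
    · intro hi v hv
      rw [← hmem]
      have h3 := hi (x v) ((hmem v).mpr hv)
      rw [hγ] at h3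
      exact (Submodule.smul_mem_iff _ hγ0).mp h3
    · intro hi v hv
      have h4 : x (x⁻¹ v) = v := x.apply_symm_apply v
      rw [← h4] at hv ⊢
      rw [hmem] at hv
      rw [hγ]
      exact Submodule.smul_mem _ _ ((hmem _).mpr (hi _ hv))
  obtain ⟨g₀, hg₀, hg₀'⟩ := exists_ti_map h hWti hT (by rw [hWd, hTd])
  have hWT : W.map (g₀ : V →ₗ[F] V) = T := by
    ext v
    constructor
    · rintro ⟨w, hw, rfl⟩
      exact (hg₀' w).mp hw
    · intro hv
      refine ⟨g₀⁻¹ v, (hg₀' _).mpr ?_, g₀.apply_symm_apply v⟩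
      have h4 : g₀ (g₀⁻¹ v) = v := g₀.apply_symm_apply v
      rw [h4]
      exact hv
  have hWi : Inv b W := by
    rw [← htrans g₀ hg₀, hWT]
    exact hTi
  have hall : ∀ g ∈ IsoB B, Inv b (W.map (g : V →ₗ[F] V)) := fun g hg => (htrans g hg).mpr hWi
  -- so `b` is a scalar
  apply hnb
  apply scalar_of_all
  intro v
  by_cases hv : v = 0
  · exact ⟨0, by rw [hv]; simp⟩
  by_contra hcon
  have hi : LinearIndependent F ![v, b v] := by
    rw [LinearIndependent.pair_iff' hv]
    intro c hc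
    exact hcon ⟨c, hc.symm⟩
  obtain ⟨w, hw, hw0⟩ := Submodule.exists_mem_ne_zero_of_ne_bot hW0
  by_cases hqb : B v (b v) = 0
  · obtain ⟨y, hy1, hy2⟩ := exists_notMem (W := W) (W' := LinearMap.ker (B w)) (by
      have := finrank_ker h hw0
      omega)
    have hiy : LinearIndependent F ![w, y] := indep_of_notMem hw0 (fun hc => hy2 (by
      obtain ⟨c, rfl⟩ := Submodule.mem_span_singleton.mp hc
      exact Submodule.smul_mem _ _ hw))
    obtain ⟨g, hg, hg1, hg2⟩ := witt_pair h hiy hi (by rw [hqb]; exact hy1)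
    have h3 := hall g hg v ⟨w, hw, hg1⟩
    obtain ⟨z, hz, hz'⟩ := h3
    change g z = b v at hz'
    rw [← hg2] at hz'
    rw [g.injective hz'] at hz
    exact hy2 hz
  · obtain ⟨g, hg, hg1⟩ := witt_one h hw0 hv
    have h3 := hall g hg v ⟨w, hw, hg1⟩
    obtain ⟨z, hz, hz'⟩ := h3
    change g z = b v at hz'
    apply hqb
    rw [← hz', ← hg1, hg]
    exact hWti w hw z hz

/-- **Symplectic groups are not products of two centralizers.** -/
theorem sp_szep [Finite F] (h : IsSp B) (hn : 4 ≤ finrank F V) (hab : PBad (IsoB B) a b)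
    (hna : ¬ Scalar a) (hnb : ¬ Scalar b) : False := by
  have hnt : Nontrivial V := Module.nontrivial_of_finrank_pos (R := F) (by omega)
  have caseI : ∀ {a b : V ≃ₗ[F] V}, PBad (IsoB B) a b → ¬ Scalar a → ¬ Scalar b →
      (∀ v, B v (a v) = 0) → False := by
    intro a b hab hna hnb hq
    by_cases h2 : (2 : F) = 0
    · exact caseI_even h h2 hn hab hna hnb hq
    · exact caseI_odd h h2 hn hab hna hnb hq
  rcases dichotomy (rank3 h hn) hab with h1 | h1 | h1 | h1
  · exact caseI hab hna hnb (fun v => h1 v trivial)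
  · exact caseI hab.symm hnb hna (fun v => h1 v trivial)
  · exact caseI hab.symm hnb hna (caseII h hn hab.symm hnb hna (fun v => h1 v trivial))
  · exact caseI hab hna hnb (caseII h hn hab hna hnb (fun v => h1 v trivial))

end Cfsg.Agent.H105.SzSp
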