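import Mathlib
import Cfsg.Agent.H105.SzSp7
import Cfsg.Agent.H105.SzTransfer
import Cfsg.Agent.H876.SpGen

/-!
# `PSp_2m(q)`, `m ≥ 2`, is not a product of two centralizers
-/

set_option autoImplicit false

namespace Cfsg.Agent.H105.SzSp

open Module Cfsg Cfsg.Agent.H955 Cfsg.Agent.H105.Sz Cfsg.Agent.H876
open Cfsg.Agent.ClassicalGeometry.SympBasic Cfsg.Agent.LieClassical.OrthFinite
open scoped Matrix MatrixGroups

/-- the representation of the symplectic group -/
noncomputable def rho (m : ℕ) (F : Type) [Field F] :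
    Matrix.symplecticGroup (Fin m) F →* ((Fin m ⊕ Fin m → F) ≃ₗ[F] (Fin m ⊕ Fin m → F)) :=
  (glEquiv (Fin m ⊕ Fin m) F).toMonoidHom.comp (spToGL m F)

theorem rho_apply {m : ℕ} {F : Type} [Field F] (A : Matrix.symplecticGroup (Fin m) F)
    (v : Fin m ⊕ Fin m → F) : rho m F A v = (A : Matrix (Fin m ⊕ Fin m) (Fin m ⊕ Fin m) F) *ᵥ v := rfl

theorem rho_range {m : ℕ} {F : Type} [Field F] : (rho m F).range = IsoB (sympBilin m F) := by
  ext g
  constructor
  · rintro ⟨A, rfl⟩ u v
    exact mem_symplecticGroup_iff.1 A.2 u v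
  · intro hg
    have h1 : LinearMap.toMatrix' (g : (Fin m ⊕ Fin m → F) →ₗ[F] (Fin m ⊕ Fin m → F)) ∈
        Matrix.symplecticGroup (Fin m) F := by
      rw [mem_symplecticGroup_iff]
      intro u v
      rw [LinearMap.toMatrix'_mulVec, LinearMap.toMatrix'_mulVec]
      exact hg u v
    refine ⟨⟨_, h1⟩, ?_⟩
    apply LinearEquiv.ext
    intro v
    rw [rho_apply, LinearMap.toMatrix'_mulVec]
    rfl

theorem rho_injective {m : ℕ} {F : Type} [Field F] : Function.Injective (rho m F) := by
  intro A A' h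
  apply Subtype.ext
  apply Matrix.mulVec_injective
  funext v
  exact congrArg (fun g => g v) h

/-- a symplectic isometry commuting with all transvections is a scalar -/
theorem scalar_of_comm {F V : Type*} [Field F] [AddCommGroup V] [Module F V]
    [FiniteDimensional F V] {B : LinearMap.BilinForm F V} (h : IsSp B) {z : V ≃ₗ[F] V}
    (hz : ∀ g ∈ IsoB B, ∀ v, z (g v) = g (z v)) : Scalar z := by
  apply scalar_of_all
  intro v
  by_cases hv : v = 0
  · exact ⟨0, by rw [hv]; simp⟩
  obtain ⟨y, hy⟩ : ∃ y, B v y ≠ 0 := by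
    by_contra hcon
    push Not at hcon
    exact hv (h.nd v hcon)
  have h1 := hz _ (tv_mem h v 1) y
  rw [tv_apply, tv_apply, map_add, map_smul, map_smul] at h1
  have h2 := add_left_cancel h1
  rw [one_smul, one_smul] at h2
  refine ⟨(B v y)⁻¹ * B v (z y), ?_⟩
  rw [mul_smul, ← h2, smul_smul, inv_mul_cancel₀ hy, one_smul]

theorem szep_PSp (m : ℕ) (hm : 2 ≤ m) (F : Type) [Field F] [Finite F] : Szep (PSp m F) := by
  have hS : IsSp (F := F) (V := Fin m ⊕ Fin m → F) (sympBilin m F) := isSp_sympBilin m F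
  refine szep_of_linear (rho m F) rho_injective ?_ ?_
  · intro z hz
    apply scalar_of_comm hS
    intro g hg v
    rw [← rho_range] at hg
    obtain ⟨A, rfl⟩ := hg
    have h1 := congrArg (fun g => rho m F g v) (Subgroup.mem_center_iff.mp hz A)
    simp only [map_mul] at h1
    exact h1.symm
  · intro a b hab hna hnb
    rw [rho_range] at hab
    exact sp_szep hS (by have := finrank_symp m F; omega) hab hna hnb

theorem szep_of_isPSp {G : Type*} [Group G] (h : IsPSp G) : Szep G := by
  obtain ⟨F, hF, hF', m, hm, -, ⟨e⟩⟩ := h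
  exact Szep.of_equiv e (szep_PSp m hm F)

end Cfsg.Agent.H105.SzSp
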