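import Mathlib
import Cfsg.Agent.H77.Witt
import Cfsg.Agent.LieClassical.HermSimple
import Cfsg.Agent.H105.SzBase

/-!
# Products of two centralizers in the unitary groups: basics

The representation of `SU_n(q)` and Warning's theorem for Hermitian forms.
-/

set_option autoImplicit false

namespace Cfsg.Agent.H105.SzU

open Module Cfsg Cfsg.Agent.LieClassical.HermBasic Cfsg.Agent.LieClassical.HermSiegel
open Cfsg.Agent.LieClassical.HermGen Cfsg.Agent.LieClassical.HermSimple
open scoped Matrix MatrixGroups

section Rep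

variable {F : Type*} [Field F] {n q : ℕ}

/-- the representation of the special unitary group -/
def rhoU (n : ℕ) (F : Type*) [Field F] (q : ℕ) : SU n F q →* ((Fin n → F) ≃ₗ[F] (Fin n → F)) where
  toFun g :=
    { toFun := act g
      map_add' := act_add g
      map_smul' := act_smul g
      invFun := act g⁻¹
      left_inv := act_inv_act g
      right_inv := act_act_inv g }
  map_one' := LinearEquiv.ext fun v => act_one v
  map_mul' g h := LinearEquiv.ext fun v => act_mul g h v

theorem rhoU_apply (g : SU n F q) (v : Fin n → F) : rhoU n F q g v = act g v := rfl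

theorem rhoU_injective : Function.Injective (rhoU n F q) := fun _ _ h =>
  ext_act fun v => congrArg (fun g => g v) h

theorem herm_of_mem {g : (Fin n → F) ≃ₗ[F] (Fin n → F)} (hg : g ∈ (rhoU n F q).range)
    (u v : Fin n → F) : hermForm n F q (g u) (g v) = hermForm n F q u v := by
  obtain ⟨k, rfl⟩ := hg
  exact herm_act k u v

end Rep

section Warning

variable {F : Type*} [Field F] [Fintype F] {q : ℕ}

/-- sesquilinear functions -/
structure Sesq {U : Type*} [AddCommGroup U] [Module F U] (q : ℕ) (f : U → U → F) : Prop where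
  addl : ∀ x x' y, f (x + x') y = f x y + f x' y
  addr : ∀ x y y', f x (y + y') = f x y + f x y'
  smull : ∀ (c : F) x y, f (c • x) y = c * f x y
  smulr : ∀ (c : F) x y, f x (c • y) = c ^ q * f x y

omit [Fintype F] in
theorem Sesq.zerol {U : Type*} [AddCommGroup U] [Module F U] {f : U → U → F} (h : Sesq q f) (y : U) :
    f 0 y = 0 := by
  have := h.smull 0 0 y
  rwa [zero_smul, zero_mul] at this

omit [Fintype F] in
theorem Sesq.zeror {U : Type*} [AddCommGroup U] [Module F U] {f : U → U → F} (h : Sesq q f) (x : U) :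
    f x 0 = 0 := by
  have := h.addr x 0 0
  rwa [add_zero, eq_comm, add_eq_left] at this

omit [Fintype F] in
theorem Sesq.suml {U : Type*} [AddCommGroup U] [Module F U] {f : U → U → F} (h : Sesq q f)
    {ι : Type*} (s : Finset ι) (g : ι → U) (y : U) : f (∑ i ∈ s, g i) y = ∑ i ∈ s, f (g i) y := by
  classical
  induction s using Finset.induction_on with
  | empty => rw [Finset.sum_empty, Finset.sum_empty, h.zerol]
  | insert a s ha ih => rw [Finset.sum_insert ha, Finset.sum_insert ha, h.addl, ih]

omit [Fintype F] in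
theorem Sesq.sumr {U : Type*} [AddCommGroup U] [Module F U] {f : U → U → F} (h : Sesq q f)
    {ι : Type*} (s : Finset ι) (g : ι → U) (x : U) : f x (∑ i ∈ s, g i) = ∑ i ∈ s, f x (g i) := by
  classical
  induction s using Finset.induction_on with
  | empty => rw [Finset.sum_empty, Finset.sum_empty, h.zeror]
  | insert a s ha ih => rw [Finset.sum_insert ha, Finset.sum_insert ha, h.addr, ih]

open MvPolynomial in
/-- **Warning's theorem** for Hermitian forms. -/
theorem card_zeros (hF : Fintype.card F = q ^ 2) {U : Type*} [AddCommGroup U] [Module F U]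
    [FiniteDimensional F U] {κ : Type*} [Fintype κ] (f : κ → U → U → F) (hs : ∀ k, Sesq q (f k))
    (hfix : ∀ k x, f k x x ^ q = f k x x) (h : Fintype.card κ < finrank F U) :
    ((Nat.card {x : U // ∀ k, f k x x = 0} : ℕ) : F) = 0 := by
  classical
  have h2 := two_le hF
  let b := Module.finBasis F U
  let P : κ → MvPolynomial (Fin (finrank F U)) F :=
    fun k => ∑ i, ∑ j, C (f k (b i) (b j)) * (X i * X j ^ q)
  have hdeg : ∀ k, (P k).totalDegree ≤ q + 1 := by
    intro k
    refine totalDegree_finsetSum_le fun i _ => totalDegree_finsetSum_le fun j _ => ?_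
    refine (totalDegree_mul _ _).trans ?_
    rw [totalDegree_C, zero_add]
    refine (totalDegree_mul _ _).trans ?_
    rw [totalDegree_X, totalDegree_X_pow]
    omega
  have heval : ∀ k (x : Fin (finrank F U) → F), eval x (P k) = f k (∑ i, x i • b i) (∑ i, x i • b i) := by
    intro k x
    have h1 : eval x (P k) = ∑ i, ∑ j, f k (b i) (b j) * (x i * x j ^ q) := by
      simp only [P, map_sum, map_mul, map_pow, eval_C, eval_X]
    rw [h1, (hs k).suml]
    refine Finset.sum_congr rfl fun i _ => ?_
    rw [(hs k).sumr]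
    refine Finset.sum_congr rfl fun j _ => ?_
    rw [(hs k).smull, (hs k).smulr]
    ring
  let Q : MvPolynomial (Fin (finrank F U)) F := ∏ k, (1 - P k ^ (q - 1))
  have hQdeg : Q.totalDegree < (Fintype.card F - 1) * Fintype.card (Fin (finrank F U)) := by
    have h3 : Q.totalDegree ≤ ∑ k : κ, (q - 1) * (q + 1) := by
      refine (totalDegree_finsetProd _ _).trans (Finset.sum_le_sum fun k _ => ?_)
      refine (totalDegree_sub _ _).trans (max_le ?_ ?_)
      · rw [totalDegree_one]; exact Nat.zero_le _
      · exact (totalDegree_pow _ _).trans (Nat.mul_le_mul_left _ (hdeg k))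
    rw [Finset.sum_const, Finset.card_univ, smul_eq_mul] at h3
    rw [Fintype.card_fin, hF]
    have h4 : q ^ 2 - 1 = (q - 1) * (q + 1) := by
      obtain ⟨m, rfl⟩ : ∃ m, q = m + 1 := ⟨q - 1, by omega⟩
      have : (m + 1) ^ 2 = (m + 1 - 1) * (m + 1 + 1) + 1 := by
        rw [Nat.add_sub_cancel]; ring
      omega
    rw [h4]
    refine lt_of_le_of_lt h3 ?_
    rw [mul_comm]
    refine Nat.mul_lt_mul_of_pos_left h ?_
    refine Nat.mul_pos (by omega) (by omega)
  have hsum := sum_eval_eq_zero Q hQdeg
  have hQeval : ∀ x : Fin (finrank F U) → F, eval x Q =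
      if (∀ k, f k (∑ i, x i • b i) (∑ i, x i • b i) = 0) then 1 else 0 := by
    intro x
    simp only [Q, map_prod, map_sub, map_one, map_pow, heval]
    split_ifs with hx
    · refine Finset.prod_eq_one fun k _ => ?_
      rw [hx k, zero_pow (by omega), sub_zero]
    · push Not at hx
      obtain ⟨k, hk⟩ := hx
      refine Finset.prod_eq_zero (Finset.mem_univ k) ?_
      have h5 := hfix k (∑ i, x i • b i)
      set c := f k (∑ i, x i • b i) (∑ i, x i • b i)
      have h6 : c ^ (q - 1) * c = 1 * c := by
        rw [← pow_succ, Nat.sub_add_cancel (by omega), h5, one_mul]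
      rw [mul_right_cancel₀ hk h6, sub_self]
  rw [Finset.sum_congr rfl fun x _ => hQeval x, Finset.sum_boole] at hsum
  refine Eq.trans ?_ hsum
  congr 1
  rw [← Fintype.card_subtype, ← Nat.card_eq_fintype_card]
  refine Nat.card_congr (Equiv.subtypeEquiv b.equivFun.toEquiv ?_)
  intro u
  have h7 : ∑ i, (b.equivFun.toEquiv u) i • b i = u := b.sum_equivFun u
  rw [h7]

/-- a nonzero common zero -/
theorem exists_zero (hF : Fintype.card F = q ^ 2) {U : Type*} [AddCommGroup U] [Module F U]
    [FiniteDimensional F U] {κ : Type*} [Fintype κ] (f : κ → U → U → F) (hs : ∀ k, Sesq q (f k))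
    (hfix : ∀ k x, f k x x ^ q = f k x x) (h : Fintype.card κ < finrank F U) :
    ∃ x : U, x ≠ 0 ∧ ∀ k, f k x x = 0 := by
  by_contra hcon
  push Not at hcon
  have h1 := card_zeros hF f hs hfix h
  have h2 : Nat.card {x : U // ∀ k, f k x x = 0} = 1 := by
    rw [Nat.card_eq_one_iff_unique]
    refine ⟨⟨?_⟩, ⟨0, fun k => (hs k).zerol 0⟩⟩
    rintro ⟨x, hx⟩ ⟨y, hy⟩
    have hx0 : x = 0 := by
      by_contra h3
      obtain ⟨k, hk⟩ := hcon x h3
      exact hk (hx k)
    have hy0 : y = 0 := by
      by_contra h3
      obtain ⟨k, hk⟩ := hcon y h3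
      exact hk (hy k)
    apply Subtype.ext
    exact hx0.trans hy0.symm
  rw [h2, Nat.cast_one] at h1
  exact one_ne_zero h1

end Warning

end Cfsg.Agent.H105.SzU
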