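import Mathlib
import Cfsg.Agent.H105.SzU1

/-!
# Products of two centralizers in the unitary groups: transitivity on pairs of isotropic points
-/

set_option autoImplicit false

namespace Cfsg.Agent.H105.SzU

open Module Cfsg Cfsg.Agent.LieClassical.HermBasic Cfsg.Agent.LieClassical.HermSiegel
open Cfsg.Agent.LieClassical.HermGen Cfsg.Agent.LieClassical.HermSimple
open Cfsg.Agent.H105.Sz
open scoped Matrix MatrixGroups

variable {F : Type*} [Field F] [Fintype F] {n q : ℕ}

theorem conj_ne' (hF : Fintype.card F = q ^ 2) : ((conj hF : F ≃+* F) : F →+* F) ≠ RingHom.id F :=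
  Cfsg.Agent.H77.Witt.conj_ne hF

/-- Witt extension in `GU`. -/
theorem exists_gu_ext (hF : Fintype.card F = q ^ 2) {k : ℕ} (a b : Fin k → (Fin n → F))
    (ha : LinearIndependent F a) (hb : LinearIndependent F b)
    (hab : ∀ i j, hermForm n F q (a i) (a j) = hermForm n F q (b i) (b j)) :
    ∃ M : Matrix (Fin n) (Fin n) F,
      (∀ u v, hermForm n F q (M *ᵥ u) (M *ᵥ v) = hermForm n F q u v) ∧ ∀ i, M *ᵥ a i = b i := by
  classical
  set bs := Module.Basis.span ha with hbs
  have hbsi : ∀ i, ((bs i : Submodule.span F (Set.range a)) : Fin n → F) = a i := fun i => by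
    rw [hbs, Module.Basis.span_apply]
  set f : Submodule.span F (Set.range a) →ₗ[F] (Fin n → F) := bs.constr F b with hf
  have hx : ∀ x : Submodule.span F (Set.range a), (x : Fin n → F) = ∑ i, bs.repr x i • a i := by
    intro x
    conv_lhs => rw [← bs.sum_repr x]
    rw [Submodule.coe_sum]
    exact Finset.sum_congr rfl fun i _ => by rw [Submodule.coe_smul, hbsi]
  have hfx : ∀ x : Submodule.span F (Set.range a), f x = ∑ i, bs.repr x i • b i := by
    intro x
    rw [hf, Module.Basis.constr_apply_fintype]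
    rfl
  have hinj : Function.Injective f := by
    rw [injective_iff_map_eq_zero]
    intro x h0
    rw [hfx] at h0
    have h1 := Fintype.linearIndependent_iff.1 hb _ h0
    apply Subtype.ext
    rw [hx x]
    simp [h1]
  have hiso : ∀ x x', Cfsg.Agent.H77.Witt.formB hF n (f x) (f x') =
      Cfsg.Agent.H77.Witt.formB hF n (x : Fin n → F) (x' : Fin n → F) := by
    intro x x'
    rw [Cfsg.Agent.H77.Witt.formB_apply, Cfsg.Agent.H77.Witt.formB_apply, hx x, hx x', hfx x, hfx x']
    simp only [herm_sum_left, herm_sum_right hF, herm_smul_left, herm_smul_right, hab]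
  obtain ⟨g, hg, hgf⟩ := ClassicalGeometry.HermWitt.exists_extension _
    (Cfsg.Agent.H77.Witt.formB hF n) (conj_ne' hF)
    (fun a => pow_q_pow_q hF a) (Cfsg.Agent.H77.Witt.formB_symm hF)
    (Cfsg.Agent.H77.Witt.formB_sep hF) _ f hinj hiso
  set M : Matrix (Fin n) (Fin n) F := LinearMap.toMatrix' (g : (Fin n → F) →ₗ[F] (Fin n → F))
    with hM
  have hMv : ∀ v, M *ᵥ v = g v := fun v => by
    rw [hM, LinearMap.toMatrix'_mulVec]; rfl
  refine ⟨M, ?_, ?_⟩
  · intro u v
    rw [hMv, hMv]
    exact hg v u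
  · intro i
    have h1 := hgf (bs i)
    rw [hbsi] at h1
    rw [hMv, h1, hf, Module.Basis.constr_basis]

/-- **Hilbert 90** -/
theorem hilbert90 (hF : Fintype.card F = q ^ 2) {δ : F} (hδ : δ * δ ^ q = 1) :
    ∃ s : F, s ≠ 0 ∧ s = δ * s ^ q := by
  obtain ⟨x, hx⟩ : ∃ x : F, x + δ * x ^ q ≠ 0 := by
    by_contra hcon
    push Not at hcon
    have h1 := hcon 1
    rw [one_pow, mul_one] at h1
    obtain ⟨x, hx⟩ := exists_not_fixed hF
    apply hx
    have h2 := hcon x
    have h3 : δ = -1 := by linear_combination h1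
    rw [h3] at h2
    linear_combination -h2
  refine ⟨x + δ * x ^ q, hx, ?_⟩
  rw [add_pow_q hF, mul_pow, pow_q_pow_q hF]
  linear_combination -x * hδ

/-- hyperbolic rotations -/
theorem exists_hyp_rot (hF : Fintype.card F = q ^ 2) {v f : Fin n → F}
    (hv : hermForm n F q v v = 0) (hf : hermForm n F q f f = 0) (hvf : hermForm n F q v f = 1)
    {s : F} (hs : s ≠ 0) :
    ∃ D : Matrix (Fin n) (Fin n) F,
      (∀ x y, hermForm n F q (D *ᵥ x) (D *ᵥ y) = hermForm n F q x y) ∧ D.det = s * (s ^ q)⁻¹ ∧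
      D *ᵥ v = s • v ∧ (∀ x, hermForm n F q x v = 0 → hermForm n F q x f = 0 → D *ᵥ x = x) := by
  have hfv : hermForm n F q f v = 1 := by rw [herm_swap hF v f, hvf, one_pow]
  have hsq : s ^ q ≠ 0 := pow_ne_zero _ hs
  set c : F := s - 1 with hc
  set d : F := (s ^ q)⁻¹ - 1 with hd
  let A : Matrix (Fin n) (Fin 2) F := Matrix.of fun j i => ![v j, f j] i
  let B : Matrix (Fin 2) (Fin n) F := Matrix.of fun i j => ![c * f j ^ q, d * v j ^ q] i
  have hB0 : ∀ x : Fin n → F, (B *ᵥ x) 0 = c * hermForm n F q x f := by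
    intro x
    simp only [B, Matrix.mulVec, dotProduct, Matrix.of_apply, Matrix.cons_val_zero, herm_def,
      Finset.mul_sum]
    exact Finset.sum_congr rfl fun i _ => by ring
  have hB1 : ∀ x : Fin n → F, (B *ᵥ x) 1 = d * hermForm n F q x v := by
    intro x
    simp only [B, Matrix.mulVec, dotProduct, Matrix.of_apply, Matrix.cons_val_one, herm_def,
      Finset.mul_sum]
    exact Finset.sum_congr rfl fun i _ => by simp only [Matrix.cons_val_zero]; ring
  have hD : ∀ x : Fin n → F, (1 + A * B) *ᵥ x =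
      x + (c * hermForm n F q x f) • v + (d * hermForm n F q x v) • f := by
    intro x
    rw [Matrix.add_mulVec, Matrix.one_mulVec, ← Matrix.mulVec_mulVec, add_assoc]
    congr 1
    funext j
    simp only [A, Matrix.mulVec, dotProduct, Matrix.of_apply, Fin.sum_univ_two, Pi.add_apply,
      Pi.smul_apply, smul_eq_mul, Matrix.cons_val_zero, Matrix.cons_val_one]
    have h0 := hB0 x
    have h1 := hB1 x
    simp only [Matrix.mulVec, dotProduct] at h0 h1
    rw [h0, h1]
    ring
  refine ⟨1 + A * B, ?_, ?_, ?_, ?_⟩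
  · intro x y
    have hcd : (1 + c) ^ q * (1 + d) = 1 := by
      rw [hc, hd, add_sub_cancel, add_sub_cancel, mul_inv_cancel₀ hsq]
    have hcd' : (1 + d) ^ q * (1 + c) = 1 := by
      have := congrArg (fun z : F => z ^ q) hcd
      simp only [mul_pow, one_pow, pow_q_pow_q hF] at this
      rw [mul_comm]; exact this
    rw [add_pow_q hF, one_pow] at hcd hcd'
    have e1 : hermForm n F q v y = hermForm n F q y v ^ q := herm_swap hF y v
    have e2 : hermForm n F q f y = hermForm n F q y f ^ q := herm_swap hF y f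
    rw [hD, hD]
    simp only [herm_add_left, herm_add_right hF, herm_smul_left, herm_smul_right, hv, hf, hvf, hfv,
      e1, e2, mul_pow]
    linear_combination (hermForm n F q y f ^ q * hermForm n F q x v) * hcd +
      (hermForm n F q x f * hermForm n F q y v ^ q) * hcd'
  · rw [Matrix.det_one_add_mul_comm, Matrix.det_fin_two]
    have e00 : (B * A) 0 0 = c := by
      have := hB0 v
      rw [hvf, mul_one] at this
      rw [← this]; rfl
    have e01 : (B * A) 0 1 = 0 := by
      have := hB0 f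
      rw [hf, mul_zero] at this
      rw [← this]; rfl
    have e10 : (B * A) 1 0 = 0 := by
      have := hB1 v
      rw [hv, mul_zero] at this
      rw [← this]; rfl
    have e11 : (B * A) 1 1 = d := by
      have := hB1 f
      rw [hfv, mul_one] at this
      rw [← this]; rfl
    have i01 : (1 : Matrix (Fin 2) (Fin 2) F) 0 1 = 0 := Matrix.one_apply_ne (by decide)
    have i10 : (1 : Matrix (Fin 2) (Fin 2) F) 1 0 = 0 := Matrix.one_apply_ne (by decide)
    simp only [Matrix.add_apply, Matrix.one_apply_eq, e00, e01, e10, e11, i01, i10]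
    rw [hc, hd, add_sub_cancel, add_sub_cancel]
    ring
  · rw [hD, hvf, hv, hc]
    module
  · intro x h1 h2
    rw [hD, h1, h2]
    module

/-- a vector orthogonal to `w` but not to `v` -/
theorem exists_separate (hF : Fintype.card F = q ^ 2) {v w : Fin n → F} (hw : w ≠ 0)
    (hvw : ¬ ∃ c : F, c • w = v) : ∃ x, hermForm n F q w x = 0 ∧ hermForm n F q v x ≠ 0 := by
  by_contra hcon
  push Not at hcon
  obtain ⟨y, hy⟩ := exists_herm_ne_zero hF hw
  apply hvw
  refine ⟨hermForm n F q v y / hermForm n F q w y, ?_⟩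
  have h1 : ∀ x, hermForm n F q ((hermForm n F q v y / hermForm n F q w y) • w - v) x = 0 := by
    intro x
    have h2 := hcon (x - ((hermForm n F q w x) / hermForm n F q w y) ^ q • y) (by
      rw [herm_sub_right hF, herm_smul_right, pow_q_pow_q hF, div_mul_cancel₀ _ hy, sub_self])
    rw [herm_sub_right hF, herm_smul_right, pow_q_pow_q hF] at h2
    rw [herm_sub_left, herm_smul_left]
    field_simp
    field_simp at h2
    linear_combination -h2
  have h3 := herm_nondeg hF h1
  exact sub_eq_zero.1 h3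

/-- **Transitivity on totally isotropic lines with two points**, `n ≥ 3`. -/
theorem exists_map_perp (hF : Fintype.card F = q ^ 2) {v w v' w' : Fin n → F}
    (hv : hermForm n F q v v = 0) (hw : hermForm n F q w w = 0)
    (hv' : hermForm n F q v' v' = 0) (hw' : hermForm n F q w' w' = 0)
    (hvw : LinearIndependent F ![v, w]) (hvw' : LinearIndependent F ![v', w'])
    (hp : hermForm n F q v w = 0) (hp' : hermForm n F q v' w' = 0) :
    ∃ g ∈ (rhoU n F q).range, (∃ c : F, g v = c • v') ∧ ∃ c : F, g w = c • w' := by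
  have hwv : hermForm n F q w v = 0 := herm_eq_zero_swap hF hp
  have hwv' : hermForm n F q w' v' = 0 := herm_eq_zero_swap hF hp'
  obtain ⟨M, hM, hMi⟩ := exists_gu_ext hF ![v, w] ![v', w'] hvw hvw' (by
    intro i j
    fin_cases i <;> fin_cases j <;> simp [hv, hw, hv', hw', hp, hp', hwv, hwv'])
  have hMv : M *ᵥ v = v' := hMi 0
  have hMw : M *ᵥ w = w' := hMi 1
  have hdet : M.det ^ (q + 1) = 1 := LieClassical.GUOrder.det_mul_frob_det hF M hM
  have hdet0 : M.det ≠ 0 := LieClassical.GUOrder.det_ne_zero_of_isom hF M hM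
  have hw0 : w' ≠ 0 := hvw'.ne_zero 1
  have hv0 : v' ≠ 0 := hvw'.ne_zero 0
  obtain ⟨x, hx1, hx2⟩ := exists_separate hF hw0 ((indep_iff hv0 hw0).1 hvw')
  obtain ⟨t, ht⟩ := exists_iso_correct hF hv' hx2
  set f0 := x + t • v' with hf0
  have hf1 : hermForm n F q v' f0 = hermForm n F q v' x := by
    rw [hf0, herm_add_right hF, herm_smul_right, hv', mul_zero, add_zero]
  have hf2 : hermForm n F q w' f0 = 0 := by
    rw [hf0, herm_add_right hF, herm_smul_right, hwv', mul_zero, add_zero, hx1]
  set f := ((hermForm n F q v' f0)⁻¹) ^ q • f0 with hf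
  have hvf0 : hermForm n F q v' f0 ≠ 0 := by rw [hf1]; exact hx2
  have hvf : hermForm n F q v' f = 1 := by
    rw [hf, herm_smul_right, pow_q_pow_q hF, inv_mul_cancel₀ hvf0]
  have hff : hermForm n F q f f = 0 := by
    rw [hf, herm_smul_right, herm_smul_left, ht, mul_zero, mul_zero]
  have hwf : hermForm n F q w' f = 0 := by rw [hf, herm_smul_right, hf2, mul_zero]
  obtain ⟨s, hs0, hs⟩ := hilbert90 hF (δ := (M.det)⁻¹) (by
    rw [← pow_succ', inv_pow, hdet, inv_one])
  obtain ⟨D, hD1, hD2, hD3, hD4⟩ := exists_hyp_rot hF hv' hff hvf hs0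
  have hsq : s ^ q ≠ 0 := pow_ne_zero _ hs0
  refine ⟨rhoU n F q (mkSU (D * M) ?_ ?_), ⟨_, rfl⟩, ⟨s, ?_⟩, 1, ?_⟩
  · rw [Matrix.det_mul, hD2]
    have h1 : s * (s ^ q)⁻¹ = (M.det)⁻¹ := by
      rw [mul_inv_eq_iff_eq_mul₀ hsq]; exact hs
    rw [h1, inv_mul_cancel₀ hdet0]
  · intro u v
    rw [← Matrix.mulVec_mulVec, ← Matrix.mulVec_mulVec, hD1, hM]
  · rw [rhoU_apply]
    change (D * M) *ᵥ v = _
    rw [← Matrix.mulVec_mulVec, hMv, hD3]
  · rw [rhoU_apply]
    change (D * M) *ᵥ w = _
    rw [← Matrix.mulVec_mulVec, hMw, hD4 _ hwv' hwf, one_smul]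

/-- **Transitivity on hyperbolic pairs of points**, `n ≥ 3`. -/
theorem exists_map_nonperp (hF : Fintype.card F = q ^ 2) (hn : 3 ≤ n) {v w v' w' : Fin n → F}
    (hv : hermForm n F q v v = 0) (hw : hermForm n F q w w = 0)
    (hv' : hermForm n F q v' v' = 0) (hw' : hermForm n F q w' w' = 0)
    (hp : hermForm n F q v w ≠ 0) (hp' : hermForm n F q v' w' ≠ 0) :
    ∃ g ∈ (rhoU n F q).range, g v = v' ∧ ∃ c : F, g w = c • w' := by
  have key : ∀ v w : Fin n → F, hermForm n F q w w = 0 → hermForm n F q v w ≠ 0 →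
      hermForm n F q (((hermForm n F q v w)⁻¹) ^ q • w) (((hermForm n F q v w)⁻¹) ^ q • w) = 0 ∧
      hermForm n F q v (((hermForm n F q v w)⁻¹) ^ q • w) = 1 := by
    intro v w hw hp
    refine ⟨?_, ?_⟩
    · rw [herm_smul_right, herm_smul_left, hw, mul_zero, mul_zero]
    · rw [herm_smul_right, pow_q_pow_q hF, inv_mul_cancel₀ hp]
  obtain ⟨h1, h2⟩ := key v w hw hp
  obtain ⟨h3, h4⟩ := key v' w' hw' hp'
  obtain ⟨g, -, hg1, hg2⟩ := exists_map_hyp hF hn le_rfl (mem_coordSub_top v)
    (mem_coordSub_top _) (mem_coordSub_top v') (mem_coordSub_top _) hv h1 h2 hv' h3 h4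
  refine ⟨rhoU n F q g, ⟨g, rfl⟩, hg1, ?_⟩
  have hc : ((hermForm n F q v w)⁻¹) ^ q ≠ 0 := pow_ne_zero _ (inv_ne_zero hp)
  refine ⟨(((hermForm n F q v w)⁻¹) ^ q)⁻¹ * ((hermForm n F q v' w')⁻¹) ^ q, ?_⟩
  rw [mul_smul, ← hg2, act_smul, smul_smul, inv_mul_cancel₀ hc, one_smul]
  rfl

theorem sesq_herm (hF : Fintype.card F = q ^ 2) : Sesq q (fun x y : Fin n → F => hermForm n F q x y) :=
  ⟨fun x x' y => herm_add_left x x' y, fun x y y' => herm_add_right hF x y y',
    fun c x y => herm_smul_left c x y, fun c x y => herm_smul_right c x y⟩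

omit [Fintype F] in
/-- restriction of a sesquilinear function along a linear map -/
theorem Sesq.comp {U W : Type*} [AddCommGroup U] [Module F U] [AddCommGroup W] [Module F W]
    {f : U → U → F} (h : Sesq q f) (g k : W →ₗ[F] U) : Sesq q (fun x y => f (g x) (k y)) :=
  ⟨fun x x' y => by rw [map_add, h.addl], fun x y y' => by rw [map_add, h.addr],
    fun c x y => by rw [map_smul, h.smull], fun c x y => by rw [map_smul, h.smulr]⟩

/-- an isotropic vector in every subspace of dimension at least two -/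
theorem exists_iso (hF : Fintype.card F = q ^ 2) (D : Submodule F (Fin n → F)) (hD : 2 ≤ finrank F D) :
    ∃ x ∈ D, x ≠ 0 ∧ hermForm n F q x x = 0 := by
  obtain ⟨x, hx0, hx⟩ := exists_zero (κ := Unit) hF (U := D)
    (fun _ x y => hermForm n F q x y) (fun _ => (sesq_herm hF).comp D.subtype D.subtype)
    (fun _ x => herm_self_pow hF _) (by rw [Fintype.card_unit]; omega)
  exact ⟨x, x.2, fun h => hx0 (Subtype.ext h), hx ()⟩

theorem exists_perp_iso (hF : Fintype.card F = q ^ 2) (hn : 4 ≤ n) {v : Fin n → F} (hv0 : v ≠ 0)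
    (hv : hermForm n F q v v = 0) :
    ∃ w, hermForm n F q w w = 0 ∧ LinearIndependent F ![v, w] ∧ hermForm n F q v w = 0 := by
  obtain ⟨f, hf, hvf⟩ := exists_partner hF hv0 hv
  have hfv : hermForm n F q f v = 1 := by rw [herm_swap hF v f, hvf, one_pow]
  let φ : (Fin n → F) →ₗ[F] (Fin 2 → F) :=
    { toFun := fun x => ![hermForm n F q x v, hermForm n F q x f]
      map_add' := fun x y => by
        funext i
        fin_cases i <;> simp [herm_add_left]
      map_smul' := fun c x => by
        funext i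
        fin_cases i <;> simp [herm_smul_left] }
  have hker : 2 ≤ finrank F (LinearMap.ker φ) := by
    have h1 := LinearMap.finrank_range_add_finrank_ker φ
    have h2 := (LinearMap.range φ).finrank_le
    rw [Module.finrank_fin_fun] at h1 h2
    omega
  obtain ⟨x, hx, hx0, hxx⟩ := exists_iso hF _ hker
  rw [LinearMap.mem_ker] at hx
  have hxv : hermForm n F q x v = 0 := congrFun hx 0
  have hxf : hermForm n F q x f = 0 := congrFun hx 1
  refine ⟨x, hxx, ?_, herm_eq_zero_swap hF hxv⟩
  rw [indep_iff hv0 hx0]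
  rintro ⟨c, rfl⟩
  rw [herm_smul_left, hxf, mul_zero] at hvf
  exact zero_ne_one hvf

/-- **The rank three action on isotropic points**, `n ≥ 4`. -/
theorem rank3 (hF : Fintype.card F = q ^ 2) (hn : 4 ≤ n) :
    Rank3 (rhoU n F q).range (fun v => hermForm n F q v v = 0)
      (fun v w => hermForm n F q v w = 0) where
  ok := ⟨fun c v hc => by
      rw [herm_smul_left, herm_smul_right, mul_eq_zero, mul_eq_zero]
      have := pow_ne_zero q hc
      tauto, fun g hg v hv => by rw [herm_of_mem hg]; exact hv⟩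
  psmul := fun c d v w hc hd => by
    rw [herm_smul_left, herm_smul_right, mul_eq_zero, mul_eq_zero]
    have := pow_ne_zero q hd
    tauto
  pinv := fun g hg v w => by rw [herm_of_mem hg]
  pself := fun v hv => hv
  tr1 := fun v w v' w' hv hw hv' hw' hi hi' hp hp' => exists_map_perp hF hv hw hv' hw' hi hi' hp hp'
  tr2 := fun v w v' w' hv hw hv' hw' _ _ _ _ hp hp' => by
    obtain ⟨g, hg, h1, h2⟩ := exists_map_nonperp hF (by omega) hv hw hv' hw' hp hp'
    exact ⟨g, hg, ⟨1, by rw [h1, one_smul]⟩, h2⟩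
  ex1 := fun v hv hv0 => exists_perp_iso hF hn hv0 hv
  ex2 := fun v hv hv0 => by
    obtain ⟨f, hf, hvf⟩ := exists_partner hF hv0 hv
    refine ⟨f, hf, ?_, by rw [hvf]; exact one_ne_zero⟩
    rintro rfl
    rw [herm_zero_right hF] at hvf
    exact zero_ne_one hvf

end Cfsg.Agent.H105.SzU
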