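import Mathlib
import Cfsg.Agent.H105.SzU4

/-!
# Products of two centralizers in the unitary groups, `n ≥ 4`
-/

set_option autoImplicit false

namespace Cfsg.Agent.H105.SzU

open Module Cfsg Cfsg.Agent.LieClassical.HermBasic Cfsg.Agent.LieClassical.HermSiegel
open Cfsg.Agent.LieClassical.HermGen Cfsg.Agent.LieClassical.HermSimple
open Cfsg.Agent.H105.Sz
open scoped Matrix MatrixGroups

variable {F : Type*} [Field F] [Fintype F] {n q : ℕ}

theorem scalar_of_caseI (hF : Fintype.card F = q ^ 2) (hn : 3 ≤ n)
    {a : (Fin n → F) ≃ₗ[F] (Fin n → F)} (ha : a ∈ (rhoU n F q).range)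
    (h : ∀ v, hermForm n F q v v = 0 → hermForm n F q v (a v) = 0) : Scalar a := by
  obtain ⟨g, rfl⟩ := ha
  obtain ⟨d, hd⟩ := scalar_of_fix_iso hF hn (fix_of_orth hF h)
  exact ⟨d, hd⟩

section Poly

open Polynomial

/-- the polynomial `A + B X + C X^q + D X^(q+1)` -/
noncomputable def pol (F : Type*) [Field F] (q : ℕ) (A B C' D : F) : F[X] :=
  C A + C B * X + C C' * X ^ q + C D * X ^ (q + 1)

omit [Fintype F] in
theorem natDegree_pol (hq : 2 ≤ q) (A B C' D : F) : (pol F q A B C' D).natDegree ≤ q + 1 := by
  unfold pol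
  refine natDegree_add_le_of_degree_le (natDegree_add_le_of_degree_le
    (natDegree_add_le_of_degree_le ?_ ?_) ?_) ?_
  · rw [natDegree_C]; exact Nat.zero_le _
  · have h1 := natDegree_C_mul_X_pow_le B 1
    rw [pow_one] at h1
    exact h1.trans (by omega)
  · exact (natDegree_C_mul_X_pow_le C' q).trans (by omega)
  · exact natDegree_C_mul_X_pow_le D (q + 1)

omit [Fintype F] in
theorem coeff_pol (hq : 2 ≤ q) (A B C' D : F) : (pol F q A B C' D).coeff (q + 1) = D := by
  unfold pol
  rw [coeff_add, coeff_add, coeff_add, coeff_C_mul, coeff_C_mul, coeff_C_mul, coeff_X_pow,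
    coeff_X_pow, coeff_X, coeff_C, if_neg (by omega), if_neg (by omega), if_neg (by omega),
    if_pos rfl]
  ring

omit [Fintype F] in
theorem eval_pol (A B C' D t : F) :
    (pol F q A B C' D).eval t = A + t * B + t ^ q * C' + t ^ (q + 1) * D := by
  unfold pol
  simp only [eval_add, eval_mul, eval_C, eval_X, eval_pow]
  ring

theorem eq_zero_of_all_roots (hF : Fintype.card F = q ^ 2) {P : F[X]} (hdeg : P.natDegree < q ^ 2)
    (h : ∀ t, P.eval t = 0) : P = 0 := by
  apply Polynomial.eq_zero_of_natDegree_lt_card_of_eval_eq_zero P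
    (f := fun t : F => t) (fun _ _ h => h) h
  rw [hF]; exact hdeg

theorem poly_key (hF : Fintype.card F = q ^ 2) (hq : 3 ≤ q) {A B C' D c0 : F}
    (h : ∀ t : F, (A + t * B + t ^ q * C' + t ^ (q + 1) * D) *
      (A + t * B + t ^ q * C' + t ^ (q + 1) * D) ^ q = c0) : D = 0 := by
  have hz : pol F q A B C' D * pol F q (A ^ q) (C' ^ q) (B ^ q) (D ^ q) - C c0 = 0 := by
    apply eq_zero_of_all_roots hF
    · refine lt_of_le_of_lt (natDegree_sub_le _ _) ?_
      rw [natDegree_C, max_eq_left (Nat.zero_le _)]
      refine lt_of_le_of_lt (natDegree_mul_le.trans (Nat.add_le_add (natDegree_pol (by omega) _ _ _ _)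
        (natDegree_pol (by omega) _ _ _ _))) ?_
      nlinarith
    · intro t
      rw [eval_sub, eval_mul, eval_pol, eval_pol, eval_C, ← h t, sub_eq_zero]
      congr 1
      rw [add_pow_q hF, add_pow_q hF, add_pow_q hF, mul_pow, mul_pow, mul_pow, pow_q_pow_q hF,
        pow_succ, mul_pow, pow_q_pow_q hF]
      ring
  have h1 := congrArg (fun P : F[X] => P.coeff ((q + 1) + (q + 1))) hz
  simp only [coeff_sub, coeff_zero] at h1
  rw [coeff_mul_add_eq_of_natDegree_le (natDegree_pol (by omega) _ _ _ _)
    (natDegree_pol (by omega) _ _ _ _), coeff_pol (by omega), coeff_pol (by omega), coeff_C,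
    if_neg (by omega), sub_zero] at h1
  exact (norm_eq_zero hF).1 h1

theorem poly_small (hF : Fintype.card F = q ^ 2) {A B C' D c0 : F}
    (h : ∀ t : F, A + t * B + t ^ q * C' + t ^ (q + 1) * D = c0) : D = 0 := by
  have h2 := two_le hF
  have hz : pol F q A B C' D - C c0 = 0 := by
    apply eq_zero_of_all_roots hF
    · refine lt_of_le_of_lt (natDegree_sub_le _ _) ?_
      rw [natDegree_C, max_eq_left (Nat.zero_le _)]
      refine lt_of_le_of_lt (natDegree_pol h2 _ _ _ _) ?_
      nlinarith
    · intro t
      rw [eval_sub, eval_pol, eval_C, h t, sub_self]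
  have h1 := congrArg (fun P : F[X] => P.coeff (q + 1)) hz
  simp only [coeff_sub, coeff_zero] at h1
  rw [coeff_pol h2, coeff_C, if_neg (by omega), sub_zero] at h1
  exact h1

end Poly

/-- transitivity of `SU_n` on nonisotropic points -/
theorem exists_map_noniso (hF : Fintype.card F = q ^ 2) (hn : 3 ≤ n) {v w : Fin n → F}
    (hv : hermForm n F q v v ≠ 0) (hw : hermForm n F q w w ≠ 0) :
    ∃ g ∈ (rhoU n F q).range, ∃ c : F, g v = c • w := by
  have hvf := herm_self_pow hF v
  have hwf := herm_self_pow hF w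
  obtain ⟨c, hc0, hc⟩ := exists_norm_eq_ne hF
    (c := hermForm n F q v v / hermForm n F q w w) (by rw [div_pow, hvf, hwf]) (div_ne_zero hv hw)
  have hv0 : v ≠ 0 := fun h => hv (by rw [h, herm_zero_left])
  have hw0 : w ≠ 0 := fun h => hw (by rw [h, herm_zero_left])
  -- a nonisotropic vector orthogonal to `w`
  obtain ⟨z, hz, hzw⟩ : ∃ z, hermForm n F q z z ≠ 0 ∧ hermForm n F q z w = 0 := by
    by_contra hcon
    push Not at hcon
    have hP : ∀ z, hermForm n F q z w = 0 → hermForm n F q z z = 0 := by
      intro z hz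
      by_contra h
      exact hcon z h hz
    have hW : finrank F (perp hF (Submodule.span F {w})) = n - 1 := by
      have h1 := finrank_perp hF (Submodule.span F {w})
      rw [finrank_span_singleton hw0] at h1
      omega
    obtain ⟨z, hz⟩ : ∃ z : perp hF (Submodule.span F {w}), z ≠ 0 := by
      have : 0 < finrank F (perp hF (Submodule.span F {w})) := by omega
      exact Module.finrank_pos_iff_exists_ne_zero.1 this
    have hzw : ∀ x ∈ perp hF (Submodule.span F {w}), hermForm n F q x w = 0 := fun x hx =>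
      hx w (Submodule.mem_span_singleton_self w)
    apply hz
    apply Subtype.ext
    apply herm_nondeg hF
    intro y
    -- y = y0 + c w
    have hy : hermForm n F q (y - (hermForm n F q y w / hermForm n F q w w) • w) w = 0 := by
      rw [herm_sub_left, herm_smul_left, div_mul_cancel₀ _ hw, sub_self]
    have h2 : hermForm n F q (z : Fin n → F) (y - (hermForm n F q y w / hermForm n F q w w) • w) = 0 := by
      set y0 := y - (hermForm n F q y w / hermForm n F q w w) • w
      apply eq_zero_of_forall_trace hF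
      intro c
      have h3 : hermForm n F q (c • (z : Fin n → F) + y0) (c • (z : Fin n → F) + y0) = 0 := by
        apply hP
        rw [herm_add_left, herm_smul_left, hzw z z.2, hy, mul_zero, add_zero]
      rw [herm_add_left, herm_add_right hF, herm_add_right hF, herm_smul_left, herm_smul_right,
        herm_smul_left, herm_smul_right, hP _ (hzw z z.2), hP _ hy,
        herm_swap hF (z : Fin n → F) y0] at h3
      rw [mul_pow]
      linear_combination h3
    rw [herm_sub_right hF, herm_smul_right, hzw z z.2, mul_zero, sub_zero] at h2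
    exact h2
  obtain ⟨g, hg⟩ := Cfsg.Agent.H77.Witt.exists_su_ext hF ![v] ![c • w]
    (by rw [linearIndependent_unique_iff]; exact hv0)
    (by rw [linearIndependent_unique_iff]; exact smul_ne_zero hc0 hw0)
    (by
      intro i j
      fin_cases i
      fin_cases j
      simp only [Fin.zero_eta, Matrix.cons_val_fin_one, herm_smul_left, herm_smul_right]
      rw [← mul_assoc, mul_comm (c ^ q) c, hc, div_mul_cancel₀ _ hw]) hz
    (by
      intro i
      fin_cases i
      simp only [Fin.zero_eta, Matrix.cons_val_fin_one, herm_smul_right, hzw, mul_zero])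
  exact ⟨rhoU n F q g, ⟨g, rfl⟩, c, hg 0⟩

/-- transitivity of the centralizer on nonisotropic points -/
def TrNon (n : ℕ) (F : Type*) [Field F] (q : ℕ) (a : (Fin n → F) ≃ₗ[F] (Fin n → F)) : Prop :=
  ∀ v v', hermForm n F q v v ≠ 0 → hermForm n F q v' v' ≠ 0 →
    ∃ x ∈ (rhoU n F q).range, SComm x a ∧ ∃ c : F, x v = c • v'

section

variable {a : (Fin n → F) ≃ₗ[F] (Fin n → F)}

omit [Fintype F] in
/-- the scalar by which two isometries commute has norm one -/
theorem scomm_norm (ha : ∀ u v, hermForm n F q (a u) (a v) = hermForm n F q u v)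
    {x : (Fin n → F) ≃ₗ[F] (Fin n → F)} (hx : ∀ u v, hermForm n F q (x u) (x v) = hermForm n F q u v)
    {d : F} (hd : ∀ v, a (x v) = d • x (a v)) {v : Fin n → F} (hv : hermForm n F q v v ≠ 0) :
    d * d ^ q = 1 := by
  have h1 : hermForm n F q (a (x v)) (a (x v)) = hermForm n F q v v := by rw [ha, hx]
  rw [hd, herm_smul_left, herm_smul_right, hx, ha] at h1
  have h2 : (d * d ^ q) * hermForm n F q v v = 1 * hermForm n F q v v := by
    rw [one_mul]; linear_combination h1
  exact mul_right_cancel₀ hv h2

theorem trNon_const (hF : Fintype.card F = q ^ 2) (ha : a ∈ (rhoU n F q).range) (hT : TrNon n F q a)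
    {v v' : Fin n → F} (hv : hermForm n F q v v ≠ 0) (hv' : hermForm n F q v' v' ≠ 0) :
    (hermForm n F q (a v) v * hermForm n F q (a v) v ^ q) * hermForm n F q v' v' ^ 2 =
    (hermForm n F q (a v') v' * hermForm n F q (a v') v' ^ q) * hermForm n F q v v ^ 2 := by
  obtain ⟨x, hx, ⟨d, hd⟩, c, hc⟩ := hT v v' hv hv'
  have hxi := herm_of_mem hx
  have hai := herm_of_mem ha
  have hdn := scomm_norm hai hxi hd hv
  have h1 : c * c ^ q * hermForm n F q v' v' = hermForm n F q v v := by
    have h2 := hxi v v
    rw [hc, herm_smul_left, herm_smul_right] at h2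
    rw [← h2]; ring
  have h2 : c * c ^ q * hermForm n F q (a v') v' = d * hermForm n F q (a v) v := by
    have h3 : hermForm n F q (a (x v)) (x v) = d * hermForm n F q (a v) v := by
      rw [hd, herm_smul_left, hxi]
    rw [hc, map_smul, herm_smul_left, herm_smul_right] at h3
    rw [← h3]; ring
  have h3 : (c * c ^ q) ^ q = c * c ^ q := norm_pow_q hF c
  have h4 : (c * c ^ q) * hermForm n F q (a v') v' ^ q = d ^ q * hermForm n F q (a v) v ^ q := by
    have h5 : (c * c ^ q * hermForm n F q (a v') v') ^ q = (d * hermForm n F q (a v) v) ^ q := by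
      rw [h2]
    rw [mul_pow, h3, mul_pow] at h5
    exact h5
  have h5 : (c * c ^ q) ^ 2 * (hermForm n F q (a v') v' * hermForm n F q (a v') v' ^ q) =
      hermForm n F q (a v) v * hermForm n F q (a v) v ^ q := by
    linear_combination (c * c ^ q * hermForm n F q (a v') v' ^ q) * h2 +
      (d * hermForm n F q (a v) v) * h4 +
      (hermForm n F q (a v) v * hermForm n F q (a v) v ^ q) * hdn
  rw [← h1, ← h5]
  ring

/-- the value along a transvection orbit -/
theorem line_eval (hF : Fintype.card F = q ^ 2) (u w : Fin n → F) (t : F) :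
    hermForm n F q (a (w + t • u)) (w + t • u) = hermForm n F q (a w) w +
      t * hermForm n F q (a u) w + t ^ q * hermForm n F q (a w) u +
      t ^ (q + 1) * hermForm n F q (a u) u := by
  rw [map_add, map_smul, herm_add_left, herm_add_right hF, herm_add_right hF, herm_smul_left,
    herm_smul_left, herm_smul_right, herm_smul_right, pow_succ]
  ring

theorem line_norm (hF : Fintype.card F = q ^ 2) {u w : Fin n → F} (hu : hermForm n F q u u = 0)
    (hwu : hermForm n F q w u = 0) (t : F) :
    hermForm n F q (w + t • u) (w + t • u) = hermForm n F q w w := by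
  have huw : hermForm n F q u w = 0 := herm_eq_zero_swap hF hwu
  simp only [herm_add_left, herm_add_right hF, herm_smul_left, herm_smul_right, hu, hwu, huw,
    mul_zero, add_zero]

/-- a nonisotropic vector orthogonal to an isotropic one -/
theorem exists_noniso_perp (hF : Fintype.card F = q ^ 2) (hn : 3 ≤ n) {u : Fin n → F} (hu0 : u ≠ 0)
    (hu : hermForm n F q u u = 0) : ∃ w, hermForm n F q w w ≠ 0 ∧ hermForm n F q w u = 0 := by
  obtain ⟨f, hf, huf⟩ := exists_partner hF hu0 hu
  obtain ⟨r, -, h1, -, h3⟩ := exists_perp hF hn le_rfl (mem_coordSub_top u) (mem_coordSub_top f) hu hf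
    (by rw [huf]; exact one_ne_zero) (c := 1) (one_pow q)
  exact ⟨r, by rw [h3]; exact one_ne_zero, h1⟩

theorem scalar_of_trNon (hF : Fintype.card F = q ^ 2) (hn : 3 ≤ n) (hq : 3 ≤ q)
    (ha : a ∈ (rhoU n F q).range) (hT : TrNon n F q a) : Scalar a := by
  apply scalar_of_caseI hF hn ha
  intro u hu
  by_cases hu0 : u = 0
  · rw [hu0, herm_zero_left]
  obtain ⟨w, hw, hwu⟩ := exists_noniso_perp hF hn hu0 hu
  apply herm_eq_zero_swap hF
  refine poly_key hF hq (A := hermForm n F q (a w) w) (B := hermForm n F q (a u) w)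
    (C' := hermForm n F q (a w) u) (c0 := hermForm n F q (a w) w * hermForm n F q (a w) w ^ q) ?_
  intro t
  rw [← line_eval hF]
  have h1 := trNon_const hF ha hT (v := w + t • u) (v' := w) (by rw [line_norm hF hu hwu]; exact hw) hw
  rw [line_norm hF hu hwu] at h1
  exact mul_right_cancel₀ (pow_ne_zero 2 hw) h1

end

end Cfsg.Agent.H105.SzU
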