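import Mathlib
import Cfsg.Agent.H105.SzU5

/-!
# Products of two centralizers in the unitary groups, `n ≥ 4`: `q = 2` and the main theorem
-/

set_option autoImplicit false

namespace Cfsg.Agent.H105.SzU

open Module Cfsg Cfsg.Agent.LieClassical.HermBasic Cfsg.Agent.LieClassical.HermSiegel
open Cfsg.Agent.LieClassical.HermGen Cfsg.Agent.LieClassical.HermSimple
open Cfsg.Agent.H105.Sz
open scoped Matrix MatrixGroups

variable {F : Type*} [Field F] [Fintype F] {n q : ℕ}

section Two

variable {a : (Fin n → F) ≃ₗ[F] (Fin n → F)}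

theorem scalar_of_trNon_two (hF : Fintype.card F = 2 ^ 2) (hn : 3 ≤ n)
    (ha : a ∈ (rhoU n F 2).range) (hT : TrNon n F 2 a) : Scalar a := by
  have hai := herm_of_mem ha
  have h4 : (2 : F) = 0 := by
    have h1 : ((Fintype.card F : ℕ) : F) = 0 := FiniteField.cast_card_eq_zero F
    rw [hF] at h1
    push_cast at h1
    have h2 : (2 : F) ^ 2 = 0 := by linear_combination h1
    exact (pow_eq_zero_iff two_ne_zero).1 h2
  have h3 : ∀ x : F, x ≠ 0 → x ^ 3 = 1 := by
    intro x hx
    have := FiniteField.pow_card_sub_one_eq_one x hx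
    rwa [hF] at this
  have hone : ∀ v, hermForm n F 2 v v ≠ 0 → hermForm n F 2 v v = 1 := by
    intro v hv
    have h1 := herm_self_pow hF v
    have h2 : hermForm n F 2 v v * (hermForm n F 2 v v - 1) = 0 := by linear_combination h1
    rcases mul_eq_zero.1 h2 with h | h
    · exact absurd h hv
    · exact sub_eq_zero.1 h
  by_cases hz : ∃ v, hermForm n F 2 v v ≠ 0 ∧ hermForm n F 2 (a v) v = 0
  · obtain ⟨v0, hv0, hav0⟩ := hz
    apply scalar_of_caseI hF hn ha
    intro u hu
    by_cases hu0 : u = 0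
    · rw [hu0, herm_zero_left]
    obtain ⟨w, hw, hwu⟩ := exists_noniso_perp hF hn hu0 hu
    apply herm_eq_zero_swap hF
    refine poly_small hF (A := hermForm n F 2 (a w) w) (B := hermForm n F 2 (a u) w)
      (C' := hermForm n F 2 (a w) u) (c0 := 0) ?_
    intro t
    rw [← line_eval hF]
    have hw' : hermForm n F 2 (w + t • u) (w + t • u) ≠ 0 := by rw [line_norm hF hu hwu]; exact hw
    have h1 := trNon_const hF ha hT hw' hv0
    rw [hav0, zero_mul, zero_mul, mul_eq_zero] at h1
    rcases h1 with h | h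
    · exact (norm_eq_zero hF).1 h
    · exact absurd h (pow_ne_zero 2 hv0)
  push Not at hz
  -- the cube of `a`
  set a3 := a * a * a with ha3
  have ha3m : a3 ∈ (rhoU n F 2).range := Subgroup.mul_mem _ (Subgroup.mul_mem _ ha ha) ha
  have ha3a : ∀ v, a3 v = a (a (a v)) := fun v => rfl
  have hconst : ∀ v w, hermForm n F 2 v v ≠ 0 → hermForm n F 2 w w ≠ 0 →
      hermForm n F 2 (a3 v) v = hermForm n F 2 (a3 w) w := by
    intro v w hv hw
    obtain ⟨x, hx, ⟨d, hd⟩, c, hc⟩ := hT v w hv hw
    have hxi := herm_of_mem hx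
    have hdn := scomm_norm hai hxi hd hv
    have hd0 : d ≠ 0 := by rintro rfl; rw [zero_mul] at hdn; exact zero_ne_one hdn
    have hcn : c * c ^ 2 = 1 := by
      have h2 := hxi v v
      rw [hc, herm_smul_left, herm_smul_right, hone v hv, hone w hw] at h2
      linear_combination h2
    have h5 : a3 (x v) = x (a3 v) := by
      rw [ha3a, ha3a, hd, map_smul, hd, map_smul, map_smul, hd, smul_smul, smul_smul]
      have : d * d * d = 1 := by rw [← h3 d hd0]; ring
      rw [this, one_smul]
    have h6 : hermForm n F 2 (a3 (x v)) (x v) = hermForm n F 2 (a3 v) v := by rw [h5, hxi]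
    rw [hc, map_smul, herm_smul_left, herm_smul_right] at h6
    rw [← h6]
    linear_combination (hermForm n F 2 (a3 w) w) * hcn
  obtain ⟨ζ, hζ⟩ : Scalar a3 := by
    apply scalar_of_caseI hF hn ha3m
    intro u hu
    by_cases hu0 : u = 0
    · rw [hu0, herm_zero_left]
    obtain ⟨w, hw, hwu⟩ := exists_noniso_perp hF hn hu0 hu
    apply herm_eq_zero_swap hF
    refine poly_small hF (A := hermForm n F 2 (a3 w) w) (B := hermForm n F 2 (a3 u) w)
      (C' := hermForm n F 2 (a3 w) u) (c0 := hermForm n F 2 (a3 w) w) ?_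
    intro t
    rw [← line_eval hF]
    have hw' : hermForm n F 2 (w + t • u) (w + t • u) ≠ 0 := by rw [line_norm hF hu hwu]; exact hw
    exact hconst _ _ hw' hw
  -- a nonisotropic vector
  obtain ⟨w, hw⟩ : ∃ w : Fin n → F, hermForm n F 2 w w ≠ 0 := by
    by_contra hcon
    push Not at hcon
    have : NeZero n := ⟨by omega⟩
    have h1 := hcon (Pi.single 0 1)
    rw [herm_def, Finset.sum_eq_single 0] at h1
    · simp at h1
    · intro i _ hi
      rw [Pi.single_eq_of_ne hi, zero_mul]
    · intro h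
      exact absurd (Finset.mem_univ _) h
  have hw1 := hone w hw
  set α := hermForm n F 2 (a w) w with hα
  have hα0 : α ≠ 0 := hz w hw
  have hα3 := h3 α hα0
  have hζ0 : ζ ≠ 0 := by
    rintro rfl
    have h1 := hζ w
    rw [zero_smul] at h1
    have h2 : a3 w ≠ 0 := map_ne a3 (fun h => hw (by rw [h, herm_zero_left]))
    exact h2 h1
  have hζ3 := h3 ζ hζ0
  have haw : hermForm n F 2 w (a w) = α ^ 2 := by rw [hα]; exact herm_swap hF (a w) w
  have haaw : hermForm n F 2 (a (a w)) w = ζ * α ^ 2 := by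
    rw [← hai (a (a w)) w, ← ha3a, hζ, herm_smul_left, haw]
  have haa : hermForm n F 2 (a w) (a w) = 1 := by rw [hai, hw1]
  have haaa : hermForm n F 2 (a (a w)) (a w) = α := by rw [hai]
  have hζ1 : ζ = 1 := by
    by_contra hne
    have hζq : ζ ^ 2 + ζ + 1 = 0 := by
      have h5 : (ζ - 1) * (ζ ^ 2 + ζ + 1) = 0 := by linear_combination hζ3
      rcases mul_eq_zero.1 h5 with h | h
      · exact absurd (sub_eq_zero.1 h) hne
      · exact h
    have hvv : hermForm n F 2 (w + (ζ * α ^ 2) • a w) (w + (ζ * α ^ 2) • a w) = 1 := by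
      rw [herm_add_left, herm_add_right hF, herm_add_right hF, herm_smul_left, herm_smul_left,
        herm_smul_right, herm_smul_right, hw1, haw, haa, ← hα]
      have h6 : α ^ 6 = 1 := by rw [show 6 = 3 * 2 by norm_num, pow_mul, hα3, one_pow]
      linear_combination ζ ^ 2 * h6 + ζ * hα3 + ζ ^ 3 * h6 + hζq + hζ3 + (0 : F) * h4
    have h7 := hz _ (by rw [hvv]; exact one_ne_zero)
    apply h7
    rw [map_add, map_smul, herm_add_left, herm_add_right hF, herm_add_right hF, herm_smul_left,
      herm_smul_left, herm_smul_right, herm_smul_right, haa, haaa, haaw, ← hα]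
    have h6 : α ^ 6 = 1 := by rw [show 6 = 3 * 2 by norm_num, pow_mul, hα3, one_pow]
    linear_combination 2 * ζ ^ 2 * α * hα3 + α * (ζ ^ 3 * h6) + α * hζ3 +
      (ζ ^ 2 * α + α) * h4
  rw [hζ1] at haaw
  -- the eigenvector
  set v := w + α ^ 2 • a w + α • a (a w) with hv
  have hav : a v = α • v := by
    have h5 : a (a (a w)) = w := by rw [← ha3a, hζ, hζ1, one_smul]
    rw [hv, map_add, map_add, map_smul, map_smul, h5, smul_add, smul_add, smul_smul, smul_smul]
    have h6 : α * α ^ 2 = 1 := by rw [← hα3]; ring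
    rw [h6, one_smul]
    have h7 : α * α = α ^ 2 := by ring
    rw [h7]; abel
  have hvw : hermForm n F 2 v w = 1 := by
    rw [hv, herm_add_left, herm_add_left, herm_smul_left, herm_smul_left, hw1, haaw, ← hα]
    linear_combination 2 * hα3 + h4
  have hv1 : hermForm n F 2 v (a w) = α ^ 2 := by
    have h5 := hai v w
    rw [hav, herm_smul_left, hvw] at h5
    have h6 : α * hermForm n F 2 v (a w) = α * α ^ 2 := by rw [h5, ← hα3]; ring
    exact mul_left_cancel₀ hα0 h6
  have hv2 : hermForm n F 2 v (a (a w)) = α := by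
    have h5 := hai v (a w)
    rw [hav, herm_smul_left, hv1] at h5
    have h6 : α * hermForm n F 2 v (a (a w)) = α * α := by rw [h5]; ring
    exact mul_left_cancel₀ hα0 h6
  have hvv : hermForm n F 2 v v = 1 := by
    conv_lhs => rw [hv]
    rw [← hv, herm_add_left]
    have e1 : hermForm n F 2 v v = hermForm n F 2 v (w + α ^ 2 • a w + α • a (a w)) := rfl
    rw [← herm_add_left]
    change hermForm n F 2 v v = 1
    rw [e1, herm_add_right hF, herm_add_right hF, herm_smul_right, herm_smul_right, hvw, hv1, hv2]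
    have h6 : α ^ 6 = 1 := by rw [show 6 = 3 * 2 by norm_num, pow_mul, hα3, one_pow]
    linear_combination h6 + hα3 + h4
  have heig : ∀ v', hermForm n F 2 v' v' ≠ 0 → ∃ c : F, a v' = c • v' := by
    intro v' hv'
    obtain ⟨x, hx, ⟨d, hd⟩, c, hc⟩ := hT v v' (by rw [hvv]; exact one_ne_zero) hv'
    have hc0 : c ≠ 0 := by
      rintro rfl
      rw [zero_smul] at hc
      have hv0 : v ≠ 0 := by
        intro h
        rw [h, herm_zero_left] at hvv
        exact zero_ne_one hvv
      exact map_ne x hv0 hc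
    refine ⟨d * α, ?_⟩
    have h5 := hd v
    rw [hc, hav, map_smul, map_smul, hc] at h5
    -- c • a v' = d • α • c • v'
    have h6 : v' = c⁻¹ • (c • v') := by rw [smul_smul, inv_mul_cancel₀ hc0, one_smul]
    have h7 : a v' = c⁻¹ • (c • a v') := by rw [smul_smul, inv_mul_cancel₀ hc0, one_smul]
    rw [h7, h5, smul_smul, smul_smul, smul_smul]
    congr 1
    field_simp
  apply scalar_of_caseI hF hn ha
  intro u hu
  by_cases hu0 : u = 0
  · rw [hu0, herm_zero_left]
  obtain ⟨w', hw', hwu⟩ := exists_noniso_perp hF hn hu0 hu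
  obtain ⟨c0, hc0⟩ := heig w' hw'
  obtain ⟨c1, hc1⟩ := heig (w' + (1 : F) • u) (by rw [line_norm hF hu hwu]; exact hw')
  have h5 : a u = c1 • (w' + (1 : F) • u) - c0 • w' := by
    rw [← hc0, ← hc1, map_add, map_smul, one_smul]; abel
  apply herm_eq_zero_swap hF
  rw [h5, herm_sub_left, herm_smul_left, herm_smul_left, herm_add_left, herm_smul_left, hwu, hu]
  ring

end Two

section Main

variable {a b : (Fin n → F) ≃ₗ[F] (Fin n → F)}

theorem main_II (hF : Fintype.card F = q ^ 2) (hn : 4 ≤ n) (hP : PBad (rhoU n F q).range a b)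
    (hII : NoPerp n F q b) (hnb : ¬ Scalar b) : Scalar a := by
  have : NeZero n := ⟨by omega⟩
  have ha := hP.1
  have hai := herm_of_mem ha
  obtain ⟨w, hw0, hw⟩ := np_point hF hn (herm_of_mem hP.2.1) hII hnb
  -- the orbit of `w` is covered by the centralizer of `a`
  have key : ∀ g ∈ (rhoU n F q).range, ∃ x ∈ (rhoU n F q).range, SComm x a ∧
      ∃ c : F, c ≠ 0 ∧ g w = c • x w := by
    intro g hg
    obtain ⟨x, hx, y, hy, hxy, h1, h2⟩ := hP.2.2 g hg
    obtain ⟨c, hc⟩ := hw y ⟨herm_of_mem hy, h2⟩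
    have hc0 : c ≠ 0 := by
      rintro rfl
      rw [zero_smul] at hc
      exact map_ne y hw0 hc
    refine ⟨x, hx, h1, c, hc0, ?_⟩
    rw [hxy]
    change x (y w) = _
    rw [hc, map_smul]
  by_cases hww : hermForm n F q w w = 0
  · obtain ⟨v0, -, hv00, hv0, hav0⟩ := exists_cw hF (a : (Fin n → F) →ₗ[F] (Fin n → F)) ⊤
      (by rw [finrank_top, Module.finrank_fin_fun]; exact hn)
    have hiff : ∀ v : Fin n → F, v ≠ 0 → hermForm n F q v v = 0 →
        (hermForm n F q v (a v) = 0 ↔ hermForm n F q w (a w) = 0) := by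
      intro v hv0 hv
      obtain ⟨g, -, hg⟩ := exists_map_iso hF (show 3 ≤ n by omega) le_rfl (mem_coordSub_top w)
        (mem_coordSub_top v) hw0 hv0 hww hv
      obtain ⟨x, hx, ⟨d, hd⟩, c, hc0, hc⟩ := key _ ⟨g, rfl⟩
      rw [rhoU_apply, hg] at hc
      have hd0 := SComm.ne hd
      rw [hc, map_smul, hd, herm_smul_left, herm_smul_right, herm_smul_right, herm_of_mem hx]
      have h1 := pow_ne_zero q hc0
      have h2 := pow_ne_zero q hd0
      simp only [mul_eq_zero, hc0, h1, h2, false_or]
    apply scalar_of_caseI hF (by omega) ha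
    intro v hv
    by_cases hv0' : v = 0
    · rw [hv0', herm_zero_left]
    rw [hiff v hv0' hv, ← hiff v0 hv00 hv0]
    exact hav0
  · have hT : TrNon n F q a := by
      intro v v' hv hv'
      obtain ⟨g, hg, c, hc⟩ := exists_map_noniso hF (by omega) hww hv
      obtain ⟨g', hg', c', hc'⟩ := exists_map_noniso hF (by omega) hww hv'
      obtain ⟨x, hx, h1, d, hd0, hd⟩ := key g hg
      obtain ⟨x', hx', h1', d', hd0', hd'⟩ := key g' hg'
      have hc0 : c ≠ 0 := by
        rintro rfl
        rw [zero_smul] at hc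
        exact map_ne g hw0 hc
      refine ⟨x' * x⁻¹, Subgroup.mul_mem _ hx' (Subgroup.inv_mem _ hx), h1'.mul h1.inv,
        c⁻¹ * d * d'⁻¹ * c', ?_⟩
      change x' (x⁻¹ v) = _
      -- v = c⁻¹ d x w
      have h5 : v = (c⁻¹ * d) • x w := by
        rw [mul_smul, ← hd, hc, smul_smul, inv_mul_cancel₀ hc0, one_smul]
      have h6 : x⁻¹ v = (c⁻¹ * d) • w := by
        rw [h5, map_smul]
        congr 1
        exact x.symm_apply_apply w
      have h7 : x' w = (d'⁻¹ * c') • v' := by
        rw [mul_smul, ← hc', hd', smul_smul, inv_mul_cancel₀ hd0', one_smul]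
      rw [h6, map_smul, h7, smul_smul]
      congr 1
      ring
    have h2 := two_le hF
    rcases Nat.lt_or_ge q 3 with h | h
    · obtain rfl : q = 2 := by omega
      exact scalar_of_trNon_two hF (by omega) ha hT
    · exact scalar_of_trNon hF (by omega) h ha hT

theorem su_szep_four (hF : Fintype.card F = q ^ 2) (hn : 4 ≤ n) (hP : PBad (rhoU n F q).range a b)
    (hna : ¬ Scalar a) (hnb : ¬ Scalar b) : False := by
  have : NeZero n := ⟨by omega⟩
  rcases dichotomy (rank3 hF hn) hP with h | h | h | h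
  · exact hna (scalar_of_caseI hF (by omega) hP.1 h)
  · exact hnb (scalar_of_caseI hF (by omega) hP.2.1 h)
  · exact hnb (main_II hF hn hP.symm h hna)
  · exact hna (main_II hF hn hP h hnb)

end Main

end Cfsg.Agent.H105.SzU
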