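import Mathlib
import Cfsg.Agent.H105.SzU6

/-!
# Products of two centralizers in the unitary groups, `n = 3`
-/

set_option autoImplicit false

namespace Cfsg.Agent.H105.SzU

open Module Cfsg Cfsg.Agent.LieClassical.HermBasic Cfsg.Agent.LieClassical.HermSiegel
open Cfsg.Agent.LieClassical.HermGen Cfsg.Agent.LieClassical.HermSimple
open Cfsg.Agent.H105.Sz
open scoped Matrix MatrixGroups

/-- the two-transitive count -/
theorem two_trans_fix {G Ω : Type*} [Group G] [Fintype G] [Fintype Ω] [MulAction G Ω]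
    (htr : ∀ x y x' y' : Ω, x ≠ y → x' ≠ y' → ∃ g : G, g • x = x' ∧ g • y = y')
    (hN : 3 ≤ Fintype.card Ω) {a b : Ω → Ω} (h : SzCS.Const G a b)
    (ha : ∀ p, a p ≠ p) (hb : ∃ p, b p ≠ p) : ∃ p, b p = p ∧ ∀ p', b p' = p' → p' = p := by
  classical
  have hc : (Finset.univ.filter fun p : Ω => p ≠ a p ∧ a p = b p).card *
      (Finset.univ.filter fun p : Ω × Ω => p.1 ≠ p.2).card =
    (Finset.univ.filter fun p : Ω => p ≠ a p).card * (Finset.univ.filter fun p : Ω => p ≠ b p).card := by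
    have hc0 := SzCS.count (R := fun x y : Ω => x ≠ y)
      (fun g x y hxy hg => hxy (MulAction.injective g hg)) htr h
    convert hc0
  set K := (Finset.univ.filter fun p : Ω => p ≠ a p ∧ a p = b p).card
  have h1 : (Finset.univ.filter fun p : Ω => p ≠ a p) = Finset.univ :=
    Finset.filter_true_of_mem fun p _ => (ha p).symm
  rw [h1, Finset.card_univ] at hc
  have h2 : (Finset.univ.filter fun p : Ω × Ω => p.1 ≠ p.2).card =
      Fintype.card Ω * (Fintype.card Ω - 1) := by
    have h3 : (Finset.univ.filter fun p : Ω × Ω => p.1 ≠ p.2) = (Finset.univ : Finset Ω).offDiag := by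
      ext p
      simp
    rw [h3, Finset.offDiag_card, Finset.card_univ, Nat.mul_sub, mul_one]
  rw [h2] at hc
  set N := Fintype.card Ω
  set M := (Finset.univ.filter fun p : Ω => p ≠ b p).card with hM
  have h4 : K * (N - 1) = M := by
    apply Nat.eq_of_mul_eq_mul_left (show 0 < N by omega)
    rw [← hc]; ring
  have hM0 : 0 < M := by
    obtain ⟨p, hp⟩ := hb
    exact Finset.card_pos.2 ⟨p, Finset.mem_filter.2 ⟨Finset.mem_univ _, fun h => hp h.symm⟩⟩
  have hMN : M ≤ N := Finset.card_le_univ _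
  have hK : K = 1 := by
    rcases Nat.lt_or_ge K 1 with hK | hK
    · have : K = 0 := by omega
      rw [this, zero_mul] at h4
      omega
    · by_contra hne
      have h5 : 2 ≤ K := by omega
      have h6 : 2 * (N - 1) ≤ K * (N - 1) := Nat.mul_le_mul_right _ h5
      omega
  have hMe : M = N - 1 := by rw [← h4, hK, one_mul]
  have h7 : (Finset.univ.filter fun p : Ω => p = b p).card = 1 := by
    have h8 := Finset.card_filter_add_card_filter_not (s := (Finset.univ : Finset Ω))
      (fun p : Ω => p = b p)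
    have h9 : (Finset.univ.filter fun p : Ω => ¬ p = b p).card = M := rfl
    rw [h9, Finset.card_univ] at h8
    have h10 : N = Fintype.card Ω := rfl
    omega
  obtain ⟨p, hp⟩ := Finset.card_eq_one.1 h7
  refine ⟨p, ?_, fun p' hp' => ?_⟩
  · have : p ∈ (Finset.univ.filter fun p : Ω => p = b p) := by rw [hp]; exact Finset.mem_singleton_self p
    exact (Finset.mem_filter.1 this).2.symm
  · have : p' ∈ (Finset.univ.filter fun p : Ω => p = b p) :=
      Finset.mem_filter.2 ⟨Finset.mem_univ _, hp'.symm⟩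
    rw [hp] at this
    exact Finset.mem_singleton.1 this

variable {F : Type*} [Field F] [Fintype F] {q : ℕ}

theorem nonperp_three (hF : Fintype.card F = q ^ 2) {v w : Fin 3 → F}
    (hv : hermForm 3 F q v v = 0) (hw : hermForm 3 F q w w = 0)
    (hi : LinearIndependent F ![v, w]) : hermForm 3 F q v w ≠ 0 := by
  intro h
  have h' := herm_eq_zero_swap hF h
  have h1 := finrank_perp hF (Submodule.span F {v, w})
  have h3 := finrank_span_eq_card hi
  rw [Fintype.card_fin] at h3
  have h4 : Set.range ![v, w] = {v, w} := by simp [Set.pair_comm]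
  rw [h4] at h3
  have h5 : Submodule.span F {v, w} ≤ perp hF (Submodule.span F {v, w}) := by
    have h6 : ∀ x ∈ ({v, w} : Set (Fin 3 → F)), ∀ y ∈ Submodule.span F {v, w},
        hermForm 3 F q x y = 0 := by
      intro x hx y hy
      obtain ⟨α, β, rfl⟩ := Submodule.mem_span_pair.1 hy
      rw [herm_add_right hF, herm_smul_right, herm_smul_right]
      rcases hx with rfl | rfl
      · rw [hv, h, mul_zero, mul_zero, add_zero]
      · rw [hw, h', mul_zero, mul_zero, add_zero]
    rw [Submodule.span_le]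
    intro x hx
    exact h6 x hx
  have h6 := Submodule.finrank_mono h5
  omega

omit [Fintype F] in
theorem singOK (n : ℕ) : SingOK (rhoU n F q).range (fun v => hermForm n F q v v = 0) :=
  ⟨fun c v hc => by
    rw [herm_smul_left, herm_smul_right, mul_eq_zero, mul_eq_zero]
    have := pow_ne_zero q hc
    tauto, fun g hg v hv => by rw [herm_of_mem hg]; exact hv⟩

theorem three_points (hF : Fintype.card F = q ^ 2) {n : ℕ} (hn : 3 ≤ n)
    [Fintype (Pt F (fun v : Fin n → F => hermForm n F q v v = 0))] :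
    3 ≤ Fintype.card (Pt F (fun v : Fin n → F => hermForm n F q v v = 0)) := by
  classical
  have ok := singOK (F := F) (q := q) n
  obtain ⟨e, -, he0, he⟩ := exists_iso hF (⊤ : Submodule F (Fin n → F))
    (by rw [finrank_top, Module.finrank_fin_fun]; omega)
  obtain ⟨f, hf, hef⟩ := exists_partner hF he0 he
  have hfe : hermForm n F q f e = 1 := by rw [herm_swap hF e f, hef, one_pow]
  have hf0 : f ≠ 0 := by
    rintro rfl
    rw [herm_zero_right hF] at hef
    exact zero_ne_one hef
  obtain ⟨t, ht0, ht⟩ := exists_trace_zero_ne hF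
  have hg : hermForm n F q (f + t • e) (f + t • e) = 0 := by
    simp only [herm_add_left, herm_add_right hF, herm_smul_left, herm_smul_right, he, hf, hef, hfe]
    linear_combination ht
  have hge : hermForm n F q (f + t • e) e = 1 := by
    rw [herm_add_left, herm_smul_left, he, hfe, mul_zero, add_zero]
  have hgf : hermForm n F q (f + t • e) f = t := by
    rw [herm_add_left, herm_smul_left, hf, hef, mul_one, zero_add]
  have hg0 : f + t • e ≠ 0 := by
    intro h
    rw [h, herm_zero_left] at hge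
    exact zero_ne_one hge
  have h12 : pt ok e he0 he ≠ pt ok f hf0 hf := by
    intro h
    obtain ⟨c, hc⟩ := (pt_eq_iff ok he0 he hf0 hf).1 h
    rw [← hc, herm_smul_left, hf, mul_zero] at hef
    exact zero_ne_one hef
  have h13 : pt ok e he0 he ≠ pt ok _ hg0 hg := by
    intro h
    obtain ⟨c, hc⟩ := (pt_eq_iff ok he0 he hg0 hg).1 h
    have h1 := he
    nth_rewrite 1 [← hc] at h1
    rw [herm_smul_left, hge, mul_one] at h1
    rw [h1, zero_smul] at hc
    exact he0 hc.symm
  have h23 : pt ok f hf0 hf ≠ pt ok _ hg0 hg := by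
    intro h
    obtain ⟨c, hc⟩ := (pt_eq_iff ok hf0 hf hg0 hg).1 h
    have h1 := hf
    nth_rewrite 1 [← hc] at h1
    rw [herm_smul_left, hgf, mul_eq_zero] at h1
    rcases h1 with h | h
    · rw [h, zero_smul] at hc
      exact hf0 hc.symm
    · exact ht0 h
  have h4 := Finset.card_le_univ ({pt ok e he0 he, pt ok f hf0 hf, pt ok _ hg0 hg} :
    Finset (Pt F (fun v : Fin n → F => hermForm n F q v v = 0)))
  rwa [Finset.card_insert_of_notMem (by simp [h12, h13]),
    Finset.card_insert_of_notMem (by simp [h23]), Finset.card_singleton] at h4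

theorem scalar_of_iso_eig (hF : Fintype.card F = q ^ 2) {n : ℕ} (hn : 3 ≤ n)
    {a : (Fin n → F) ≃ₗ[F] (Fin n → F)} (ha : a ∈ (rhoU n F q).range)
    (h : ∀ v, hermForm n F q v v = 0 → ∃ c : F, a v = c • v) : Scalar a := by
  obtain ⟨g, rfl⟩ := ha
  obtain ⟨d, hd⟩ := scalar_of_fix_iso hF hn h
  exact ⟨d, hd⟩

section

variable {a b : (Fin 3 → F) ≃ₗ[F] (Fin 3 → F)}

/-- **The fixed points.** One of the two has no isotropic eigenvector and the other exactly one. -/
theorem fix_three (hF : Fintype.card F = q ^ 2) (hP : PBad (rhoU 3 F q).range a b)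
    (hna : ¬ Scalar a) (hnb : ¬ Scalar b) :
    (∃ e : Fin 3 → F, e ≠ 0 ∧ hermForm 3 F q e e = 0 ∧ (∃ c : F, b e = c • e) ∧
      ∀ f, f ≠ 0 → hermForm 3 F q f f = 0 → (∃ c : F, b f = c • f) → ∃ t : F, f = t • e) ∨
    (∃ e : Fin 3 → F, e ≠ 0 ∧ hermForm 3 F q e e = 0 ∧ (∃ c : F, a e = c • e) ∧
      ∀ f, f ≠ 0 → hermForm 3 F q f f = 0 → (∃ c : F, a f = c • f) → ∃ t : F, f = t • e) := by
  classical
  have finV : Finite (Fin 3 → F) := inferInstance
  have : Finite ((Fin 3 → F) ≃ₗ[F] (Fin 3 → F)) :=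
    Finite.of_injective (fun g : (Fin 3 → F) ≃ₗ[F] (Fin 3 → F) => (g : (Fin 3 → F) → (Fin 3 → F)))
      DFunLike.coe_injective
  have : Fintype (rhoU 3 F q).range := Fintype.ofFinite _
  have ok := singOK (F := F) (q := q) 3
  have : Finite (Projectivization F (Fin 3 → F)) := by unfold Projectivization; infer_instance
  have : Finite (Pt F (fun v : Fin 3 → F => hermForm 3 F q v v = 0)) := by unfold Pt; infer_instance
  have : Fintype (Pt F (fun v : Fin 3 → F => hermForm 3 F q v v = 0)) := Fintype.ofFinite _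
  let _ := ptAction ok
  have hC := const_of_pbad ok hP
  have hC' := const_of_pbad ok hP.symm
  have htr : ∀ x y x' y' : Pt F (fun v : Fin 3 → F => hermForm 3 F q v v = 0), x ≠ y → x' ≠ y' →
      ∃ g : (rhoU 3 F q).range, g • x = x' ∧ g • y = y' := by
    intro x y x' y' hxy hxy'
    obtain ⟨v, hv0, hv, rfl⟩ := exists_pt ok x
    obtain ⟨w, hw0, hw, rfl⟩ := exists_pt ok y
    obtain ⟨v', hv0', hv', rfl⟩ := exists_pt ok x'
    obtain ⟨w', hw0', hw', rfl⟩ := exists_pt ok y'
    rw [ne_eq, pt_eq_iff] at hxy hxy'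
    have h1 := nonperp_three hF hv hw ((indep_iff hv0 hw0).2 hxy)
    have h2 := nonperp_three hF hv' hw' ((indep_iff hv0' hw0').2 hxy')
    obtain ⟨g, hg, hgv, c, hgw⟩ := exists_map_nonperp hF le_rfl hv hw hv' hw' h1 h2
    refine ⟨⟨g, hg⟩, ?_, ?_⟩
    · change pm ok g hg (pt ok v hv0 hv) = _
      rw [pm_pt, pt_eq_iff]
      exact ⟨1, by rw [one_smul, hgv]⟩
    · change pm ok g hg (pt ok w hw0 hw) = _
      rw [pm_pt, pt_eq_iff]
      exact ⟨c, hgw.symm⟩
  have hN := three_points (F := F) (q := q) hF (n := 3) le_rfl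
  have hfix : ∀ {c : (Fin 3 → F) ≃ₗ[F] (Fin 3 → F)} (hc : c ∈ (rhoU 3 F q).range) {v : Fin 3 → F}
      (hv0 : v ≠ 0) (hv : hermForm 3 F q v v = 0),
      pm ok c hc (pt ok v hv0 hv) = pt ok v hv0 hv ↔ ∃ d : F, c v = d • v := by
    intro c hc v hv0 hv
    rw [pm_pt, pt_eq_iff]
    exact ⟨fun ⟨d, hd⟩ => ⟨d, hd.symm⟩, fun ⟨d, hd⟩ => ⟨d, hd.symm⟩⟩
  have hmove : ∀ {c : (Fin 3 → F) ≃ₗ[F] (Fin 3 → F)} (hc : c ∈ (rhoU 3 F q).range), ¬ Scalar c →
      ∃ p, pm ok c hc p ≠ p := by
    intro c hc hsc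
    by_contra hcon
    push Not at hcon
    apply hsc
    apply scalar_of_iso_eig hF le_rfl hc
    intro v hv
    by_cases hv0 : v = 0
    · exact ⟨0, by rw [hv0]; simp⟩
    exact (hfix hc hv0 hv).1 (hcon _)
  have hout : ∀ {c : (Fin 3 → F) ≃ₗ[F] (Fin 3 → F)} (hc : c ∈ (rhoU 3 F q).range),
      (∃ p, pm ok c hc p = p ∧ ∀ p', pm ok c hc p' = p' → p' = p) →
      ∃ e : Fin 3 → F, e ≠ 0 ∧ hermForm 3 F q e e = 0 ∧ (∃ d : F, c e = d • e) ∧
      ∀ f, f ≠ 0 → hermForm 3 F q f f = 0 → (∃ d : F, c f = d • f) → ∃ t : F, f = t • e := by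
    rintro c hc ⟨p, hp, hp'⟩
    obtain ⟨e, he0, he, rfl⟩ := exists_pt ok p
    refine ⟨e, he0, he, (hfix hc he0 he).1 hp, ?_⟩
    intro f hf0 hf hd
    obtain ⟨t, ht⟩ := (pt_eq_iff ok hf0 hf he0 he).1 (hp' _ ((hfix hc hf0 hf).2 hd))
    exact ⟨t, ht.symm⟩
  by_cases hfa : ∃ p, pm ok a hP.1 p = p
  · by_cases hfb : ∃ p, pm ok b hP.2.1 p = p
    · exfalso
      obtain ⟨p1, hp1⟩ := hmove hP.1 hna
      obtain ⟨p2, hp2⟩ := hmove hP.2.1 hnb
      obtain ⟨p3, hp3⟩ := hfa
      obtain ⟨p4, hp4⟩ := hfb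
      refine SzCS.not_both (G := (rhoU 3 F q).range) (R := fun x y => x ≠ y) (R' := fun x y => x = y)
        ?_ ?_ htr ?_ ?_ ?_ ?_ ?_ hC ⟨p1, fun h => hp1 h.symm⟩ ⟨p2, fun h => hp2 h.symm⟩
        ⟨p3, hp3.symm⟩ ⟨p4, hp4.symm⟩
      · intro g x y hxy hg
        exact hxy (MulAction.injective g hg)
      · intro g x y hxy
        rw [hxy]
      · rintro x y x' y' rfl rfl
        by_cases hx : x = x'
        · exact ⟨1, by rw [one_smul, hx], by rw [one_smul, hx]⟩
        · obtain ⟨g, h1, h2⟩ := htr x x' x' x hx (Ne.symm hx)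
          exact ⟨g, h1, h1⟩
      · intro x y
        by_cases h : x = y
        · exact Or.inl h
        · exact Or.inr (Or.inl h)
      · intro x y h
        exact h
      · intro x
        by_contra hcon
        push Not at hcon
        have h1 : Fintype.card (Pt F (fun v : Fin 3 → F => hermForm 3 F q v v = 0)) ≤ 1 :=
          Fintype.card_le_one_iff.2 fun y z => by rw [← hcon y, ← hcon z]
        omega
      · intro x
        exact ⟨x, rfl⟩
    · right
      push Not at hfb
      exact hout hP.1 (two_trans_fix htr hN hC' hfb (hmove hP.1 hna))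
  · left
    push Not at hfa
    exact hout hP.2.1 (two_trans_fix htr hN hC hfa (hmove hP.2.1 hnb))

end

end Cfsg.Agent.H105.SzU
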