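import Mathlib
import Cfsg.Agent.H105.SzU7
import Cfsg.Agent.H105.SzTransfer

/-!
# `PSU_n(q)`, `n ≥ 3`, is not a product of two centralizers
-/

set_option autoImplicit false

namespace Cfsg.Agent.H105.SzU

open Module Cfsg Cfsg.Agent.LieClassical.HermBasic Cfsg.Agent.LieClassical.HermSiegel
open Cfsg.Agent.LieClassical.HermGen Cfsg.Agent.LieClassical.HermSimple
open Cfsg.Agent.H105.Sz
open scoped Matrix MatrixGroups

section

variable {F : Type*} [Field F] {n q : ℕ}

theorem det_of_mem {g : (Fin n → F) ≃ₗ[F] (Fin n → F)} (hg : g ∈ (rhoU n F q).range) :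
    LinearMap.det (g : (Fin n → F) →ₗ[F] (Fin n → F)) = 1 := by
  obtain ⟨k, rfl⟩ := hg
  have h1 : ((rhoU n F q k : (Fin n → F) ≃ₗ[F] (Fin n → F)) : (Fin n → F) →ₗ[F] (Fin n → F)) =
      Matrix.toLin' (mat k) := by
    apply LinearMap.ext
    intro v
    rw [Matrix.toLin'_apply]
    rfl
  rw [h1, LinearMap.det_toLin']
  exact det_mat k

theorem scomm_pow {a x : (Fin n → F) ≃ₗ[F] (Fin n → F)} {d : F} (ha : a ∈ (rhoU n F q).range)
    (hx : x ∈ (rhoU n F q).range) (hd : ∀ v, a (x v) = d • x (a v)) : d ^ n = 1 := by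
  have h1 : (a : (Fin n → F) →ₗ[F] (Fin n → F)) ∘ₗ (x : (Fin n → F) →ₗ[F] (Fin n → F)) =
      d • ((x : (Fin n → F) →ₗ[F] (Fin n → F)) ∘ₗ (a : (Fin n → F) →ₗ[F] (Fin n → F))) :=
    LinearMap.ext hd
  have h2 := congrArg LinearMap.det h1
  rw [LinearMap.det_comp, LinearMap.det_smul, LinearMap.det_comp, det_of_mem ha, det_of_mem hx,
    Module.finrank_fin_fun] at h2
  rw [mul_one, mul_one] at h2
  exact h2.symm

end

section

variable {F : Type*} [Field F] [Fintype F] {q : ℕ}
variable {a b : (Fin 3 → F) ≃ₗ[F] (Fin 3 → F)}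

/-- the adjoint eigenvector -/
theorem adj_eig (hF : Fintype.card F = q ^ 2) {n : ℕ} {x : (Fin n → F) ≃ₗ[F] (Fin n → F)}
    (hx : ∀ u v, hermForm n F q (x u) (x v) = hermForm n F q u v) {e : Fin n → F} (he0 : e ≠ 0) {t : F}
    (ht : x e = t • e) : ∃ f : Fin n → F, f ≠ 0 ∧ x f = (t ^ q)⁻¹ • f := by
  have ht0 : t ≠ 0 := by
    rintro rfl
    rw [zero_smul] at ht
    exact map_ne x he0 ht
  obtain ⟨f, hf0, hf⟩ : ∃ f : Fin n → F, f ≠ 0 ∧ x.symm f = t ^ q • f := by
    by_contra hcon
    push Not at hcon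
    have hinj : Function.Injective ((x.symm : (Fin n → F) →ₗ[F] (Fin n → F)) -
        (t ^ q) • (LinearMap.id : (Fin n → F) →ₗ[F] (Fin n → F))) := by
      rw [injective_iff_map_eq_zero]
      intro y hy
      by_contra hy0
      apply hcon y hy0
      rw [LinearMap.sub_apply, LinearMap.smul_apply, LinearMap.id_apply, sub_eq_zero] at hy
      exact hy
    have hsurj := LinearMap.surjective_of_injective hinj
    apply he0
    apply herm_nondeg hF
    intro y
    obtain ⟨z, rfl⟩ := hsurj y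
    rw [LinearMap.sub_apply, LinearMap.smul_apply, LinearMap.id_apply, herm_sub_right hF,
      herm_smul_right, pow_q_pow_q hF]
    have h1 := hx e (x.symm z)
    rw [ht, LinearEquiv.apply_symm_apply, herm_smul_left] at h1
    change hermForm n F q e (x.symm z) - _ = 0
    rw [← h1, sub_self]
  refine ⟨f, hf0, ?_⟩
  have h1 := congrArg x hf
  rw [LinearEquiv.apply_symm_apply, map_smul] at h1
  have h2 : t ^ q ≠ 0 := pow_ne_zero _ ht0
  have h3 : (t ^ q)⁻¹ • f = (t ^ q)⁻¹ • (t ^ q • x f) := by rw [← h1]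
  rw [h3, smul_smul, inv_mul_cancel₀ h2, one_smul]

/-- distinct isotropic points of the plane are not perpendicular -/
theorem nonperp_three' (hF : Fintype.card F = q ^ 2) {v w : Fin 3 → F} (hv0 : v ≠ 0)
    (hw0 : w ≠ 0) (hv : hermForm 3 F q v v = 0) (hw : hermForm 3 F q w w = 0)
    (hi : ¬ ∃ c : F, c • w = v) : hermForm 3 F q v w ≠ 0 :=
  nonperp_three hF hv hw ((indep_iff hv0 hw0).2 hi)

theorem main_three (hF : Fintype.card F = q ^ 2) (hq : 3 ≤ q) (hP : PBad (rhoU 3 F q).range a b)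
    {e : Fin 3 → F} (he0 : e ≠ 0) (he : hermForm 3 F q e e = 0) (hbe : ∃ c : F, b e = c • e)
    (hu : ∀ f, f ≠ 0 → hermForm 3 F q f f = 0 → (∃ c : F, b f = c • f) → ∃ t : F, f = t • e) :
    Scalar a := by
  obtain ⟨l, hl⟩ := hbe
  have hbi := herm_of_mem hP.2.1
  have hai := herm_of_mem hP.1
  -- centralizing elements multiply `e` by a scalar of norm one
  have key : ∀ y ∈ (rhoU 3 F q).range, SComm y b → ∃ t : F, t * t ^ q = 1 ∧ y e = t • e := by
    rintro y hy ⟨c, hc⟩
    have hyi := herm_of_mem hy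
    have hc0 : c ≠ 0 := SComm.ne hc
    obtain ⟨t, ht⟩ := hu (y e) (map_ne y he0) (by rw [hyi, he]) ⟨c * l, by
      rw [hc, hl, map_smul, smul_smul]⟩
    refine ⟨t, ?_, ht⟩
    by_contra hN
    have ht0 : t ≠ 0 := by
      rintro rfl
      rw [zero_smul] at ht
      exact map_ne y he0 ht
    have htq : t ^ q ≠ 0 := pow_ne_zero _ ht0
    obtain ⟨f, hf0, hf⟩ := adj_eig hF hyi he0 ht
    have hff : hermForm 3 F q f f = 0 := by
      by_contra h
      have h1 := np_norm hyi h hf hf
      apply hN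
      rw [inv_pow, pow_q_pow_q hF, ← mul_inv, inv_eq_one] at h1
      rw [← h1]; ring
    have hfe : ¬ ∃ c : F, c • e = f := by
      rintro ⟨s, rfl⟩
      have hs0 : s ≠ 0 := fun h => hf0 (by rw [h, zero_smul])
      rw [map_smul, ht, smul_smul, smul_smul] at hf
      have h1 : s * t = (t ^ q)⁻¹ * s := smul_left_injective F he0 hf
      have h2 : t = (t ^ q)⁻¹ := by
        apply mul_left_cancel₀ hs0
        rw [h1]; ring
      apply hN
      nth_rewrite 1 [h2]
      exact inv_mul_cancel₀ htq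
    -- the image of `f` under `b`
    have hbf : y (b f) = (c⁻¹ * (t ^ q)⁻¹) • b f := by
      have h1 := hc f
      rw [hf, map_smul] at h1
      rw [mul_smul, h1, smul_smul, inv_mul_cancel₀ hc0, one_smul]
    have hbf0 : b f ≠ 0 := map_ne b hf0
    have hbff : hermForm 3 F q (b f) (b f) = 0 := by rw [hbi, hff]
    have h1 : ¬ ∃ s : F, s • e = b f := by
      rintro ⟨s, hs⟩
      have hl0 : l ≠ 0 := by
        rintro rfl
        rw [zero_smul] at hl
        exact map_ne b he0 hl
      apply hfe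
      refine ⟨s * l⁻¹, ?_⟩
      apply b.injective
      rw [map_smul, hl, smul_smul, mul_assoc, inv_mul_cancel₀ hl0, mul_one, hs]
    have h2 : ¬ ∃ s : F, s • f = b f := by
      rintro ⟨s, hs⟩
      obtain ⟨r, hr⟩ := hu f hf0 hff ⟨s, hs.symm⟩
      exact hfe ⟨r, hr.symm⟩
    have h3 := nonperp_three' hF hbf0 he0 hbff he h1
    have h4 := nonperp_three' hF hbf0 hf0 hbff hff h2
    have h5 := np_norm hyi h3 hbf ht
    have h6 := np_norm hyi h4 hbf hf
    rw [inv_pow, pow_q_pow_q hF] at h6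
    apply hN
    have h7 : c⁻¹ * (t ^ q)⁻¹ = t := by
      rw [mul_inv_eq_one₀ ht0] at h6
      exact h6
    rw [h7] at h5
    exact h5
  -- all isotropic vectors
  have hall : ∀ v : Fin 3 → F, v ≠ 0 → hermForm 3 F q v v = 0 →
      ∃ d : F, d * d ^ q = 1 ∧ d ^ 3 = 1 ∧ hermForm 3 F q (a v) v = d * hermForm 3 F q (a e) e := by
    intro v hv0 hv
    have : NeZero 3 := ⟨by omega⟩
    obtain ⟨g, -, hg⟩ := exists_map_iso hF (show 3 ≤ 3 by omega) le_rfl (mem_coordSub_top e)
      (mem_coordSub_top v) he0 hv0 he hv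
    obtain ⟨x, hx, y, hy, hxy, ⟨d, hd⟩, h2⟩ := hP.2.2 _ ⟨g, rfl⟩
    obtain ⟨t, ht1, ht⟩ := key y hy h2
    have h3 : v = t • x e := by
      rw [← hg, ← rhoU_apply, hxy]
      change x (y e) = _
      rw [ht, map_smul]
    obtain ⟨w, hw, -⟩ := exists_noniso_perp hF (show 3 ≤ 3 by omega) he0 he
    refine ⟨d, scomm_norm hai (herm_of_mem hx) hd hw, scomm_pow hP.1 hx hd, ?_⟩
    rw [h3, map_smul, herm_smul_left, herm_smul_right, hd, herm_smul_left, herm_of_mem hx]
    linear_combination (d * hermForm 3 F q (a e) e) * ht1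
  have hz : hermForm 3 F q (a e) e = 0 := by
    by_contra hz
    -- an element of the fixed field different from zero and one
    obtain ⟨r, hr, hr0, hr1⟩ : ∃ r : F, r ^ q = r ∧ r ≠ 0 ∧ r ≠ 1 := by
      classical
      have h1 := card_fixed hF
      rw [Nat.card_eq_fintype_card] at h1
      by_contra hcon
      push Not at hcon
      have h2 : Function.Injective (fun x : {x : F // x ^ q = x} => decide (x.1 = 0)) := by
        intro x y hxy
        have h3 : (x.1 = 0) ↔ (y.1 = 0) := by simpa using hxy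
        apply Subtype.ext
        by_cases hx : x.1 = 0
        · rw [hx, h3.1 hx]
        · have hy : y.1 ≠ 0 := fun h => hx (h3.2 h)
          rw [hcon x.1 x.2 hx, hcon y.1 y.2 hy]
      have h3 := Fintype.card_le_of_injective _ h2
      rw [h1, Fintype.card_bool] at h3
      omega
    obtain ⟨c, hc0, hc⟩ := exists_norm_eq_ne hF hr hr0
    obtain ⟨d, hd1, hd3, hd⟩ := hall (c • e) (smul_ne_zero hc0 he0)
      (by rw [herm_smul_left, herm_smul_right, he, mul_zero, mul_zero])
    rw [map_smul, herm_smul_left, herm_smul_right] at hd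
    have h1 : r = d := by
      apply mul_right_cancel₀ hz
      rw [← hd, ← hc]; ring
    rw [← h1] at hd1 hd3
    rw [hr] at hd1
    apply hr1
    have h2 : r ^ 3 = r * (r * r) := by ring
    rw [hd1, mul_one, hd3] at h2
    exact h2.symm
  apply scalar_of_caseI hF le_rfl hP.1
  intro v hv
  by_cases hv0 : v = 0
  · rw [hv0, herm_zero_left]
  obtain ⟨d, -, -, hd⟩ := hall v hv0 hv
  rw [hz, mul_zero] at hd
  exact herm_eq_zero_swap hF hd

theorem su_szep_three (hF : Fintype.card F = q ^ 2) (hq : 3 ≤ q) (hP : PBad (rhoU 3 F q).range a b)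
    (hna : ¬ Scalar a) (hnb : ¬ Scalar b) : False := by
  rcases fix_three hF hP hna hnb with ⟨e, he0, he, hbe, hu⟩ | ⟨e, he0, he, hbe, hu⟩
  · exact hna (main_three hF hq hP he0 he hbe hu)
  · exact hnb (main_three hF hq hP.symm he0 he hbe hu)

end

theorem szep_PSU {n q : ℕ} {F : Type} [Field F] [Fintype F] (hF : Fintype.card F = q ^ 2)
    (hn : 3 ≤ n) (hnq : ¬ (n = 3 ∧ q = 2)) : Szep (PSU n F q) := by
  have hq2 := two_le hF
  refine szep_of_linear (rhoU n F q) rhoU_injective ?_ ?_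
  · -- the center is scalar
    intro z hz
    apply scalar_of_iso_eig hF hn ⟨z, rfl⟩
    intro u hu
    by_cases hu0 : u = 0
    · exact ⟨0, by rw [hu0]; simp⟩
    obtain ⟨ε, hε0, hε⟩ := exists_trace_zero_ne hF
    -- the transvection
    have hS : IsSiegel q u 0 ε := ⟨hu, herm_zero_left u, by rw [herm_zero_left]; linear_combination hε⟩
    obtain ⟨f, hf, huf⟩ := exists_partner hF hu0 hu
    have h1 := congrArg (fun g => act g f) (Subgroup.mem_center_iff.1 hz (siegel hF u 0 ε hS))
    simp only [act_mul, act_siegel, herm_zero_right hF, sub_zero, smul_zero, add_zero] at h1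
    rw [act_add, act_smul] at h1
    have h2 := add_left_cancel h1
    have hfu : hermForm n F q f u = 1 := by rw [herm_swap hF u f, huf, one_pow]
    rw [hfu, mul_one] at h2
    refine ⟨ε⁻¹ * (ε * hermForm n F q (act z f) u), ?_⟩
    rw [rhoU_apply, mul_smul, h2, smul_smul, inv_mul_cancel₀ hε0, one_smul]
  · intro a b hab hna hnb
    rcases Nat.lt_or_ge n 4 with h | h
    · obtain rfl : n = 3 := by omega
      have : 3 ≤ q := by
        by_contra hcon
        exact hnq ⟨rfl, by omega⟩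
      exact su_szep_three hF this hab hna hnb
    · exact su_szep_four hF h hab hna hnb

theorem szep_of_isPSU {G : Type*} [Group G] (h : IsPSU G) : Szep G := by
  obtain ⟨F, hF, hF', n, q, hq, hn, hnq, ⟨e⟩⟩ := h
  exact Szep.of_equiv e (szep_PSU hq hn hnq)

end Cfsg.Agent.H105.SzU
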