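import Mathlib
import Cfsg.Agent.H105.SzAlt
import Cfsg.Agent.H105.SzSp8
import Cfsg.Agent.H105.SzU8
import Cfsg.Agent.H105.SzO9
import Cfsg.Agent.H501.Szep.All

/-!
# Szep's conjecture for all known simple groups, the sporadic groups and the Tits group being given
-/

set_option autoImplicit false

namespace Cfsg.Agent.H105.Sz

open Cfsg

theorem szep_of_known {G : Type*} [Group G] [Finite G] [IsSimpleGroup G] (hG : ¬ IsMulCommutative G)
    (hT : Lie.IsoTits G → Szep G) (hS : IsSporadicGroup G → Szep G) (h : IsKnownSimple' G) : Szep G := by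
  rcases h with h | h | h | h | h | h | h | h | h | h
  · exfalso
    apply hG
    have hf : Fact (Nat.card G).Prime := ⟨h⟩
    have hc : IsCyclic G := isCyclic_of_prime_card (p := Nat.card G) rfl
    exact ⟨⟨fun x y => (IsCyclic.commGroup (α := G)).mul_comm x y⟩⟩
  · exact szep_of_isAlternating h
  · exact szep_of_isPSL h
  · exact SzSp.szep_of_isPSp h
  · exact SzU.szep_of_isPSU h
  · exact SzO.szep_of_isPOmegaOdd h
  · exact SzO.szep_of_isPOmegaPlus h
  · exact SzO.szep_of_isPOmegaMinus h
  · exact Cfsg.Agent.H501.SzExc.szep_exc hG hT h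
  · exact hS h

end Cfsg.Agent.H105.Sz
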