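import Cfsg.Agent.H95.Szep.Rows
import Cfsg.Agent.H95.Szep.Ly
import Cfsg.Agent.H525.SzepTh
import Cfsg.Agent.H679.SzepHN
import Cfsg.Agent.H84.Szep.SzB
import Cfsg.Agent.H795.Szep.Monster

/-!
# Szep's conjecture for the 26 sporadic groups
-/

set_option autoImplicit false

namespace Cfsg.Agent.H105.Sz

open Cfsg

theorem szep_spor (hK : Cfsg.Agent.H995.CopEngine.AllKnown.{0}) {G : Type*} [Group G] [Finite G] [IsSimpleGroup G]
    (h : IsSporadicGroup G) : Szep G := by
  rcases h with h | h | h | h | h | h | h | h | h | h | h | h | h | h | h | h | h | h | h | h | h | h | h | h | h | h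
  · exact H95.Szep.szep_m11 h
  · exact H95.Szep.szep_m12 h
  · exact H95.Szep.szep_m22 h
  · exact H95.Szep.szep_m23 h
  · exact H95.Szep.szep_m24 h
  · exact H95.Szep.szep_j1 h
  · exact H95.Szep.szep_j2 h
  · exact H95.Szep.szep_j3 h
  · exact H95.Szep.szep_j4 h
  · exact H95.Szep.szep_co1 h
  · exact H95.Szep.szep_co2 h
  · exact H95.Szep.szep_co3 h
  · exact H95.Szep.szep_mcl h
  · exact H95.Szep.szep_hs h
  · exact H95.Szep.szep_suz h
  · exact H95.Szep.szep_he h
  · exact H95.Szep.szep_ru h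
  · exact H95.Szep.szep_on h
  · exact H95.Szep.szep_ly hK h
  · exact H95.Szep.szep_fi22 h
  · exact H95.Szep.szep_fi23 h
  · exact H95.Szep.szep_fi24 h
  · exact H679.SzepHN.szep_hn h
  · exact H525.SzepTh.szep_th h
  · exact H84.Szep.SzB.szep_b hK h
  · exact H795.Szep.szep_m hK h

theorem szep_tits' {G : Type*} [Group G] [Finite G] [IsSimpleGroup G] (h : Lie.IsoTits G) : Szep G :=
  H95.Szep.szep_tits h

end Cfsg.Agent.H105.Sz
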